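import Cfsg.Agent.Lib.LAEven57.PushingUp.Psl
import Cfsg.Agent.Lib.Linear.Unipotent

/-!
Generation and normalizers for the standard Sylow subgroup of `PSL₂(F)` in defining characteristic.
-/

set_option autoImplicit false

open scoped Pointwise

namespace Cfsg.Agent.Lib.PushUpP

open Cfsg.Agent.Lib.LAEven57.PushingUp

/-- Conjugate of a subgroup. -/
abbrev cj {G : Type*} [Group G] (g : G) (H : Subgroup G) : Subgroup G := H.map (MulAut.conj g).toMonoidHom

section Cj

variable {G : Type*} [Group G]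

theorem mem_cj {g a : G} {H : Subgroup G} : a ∈ cj g H ↔ g⁻¹ * a * g ∈ H := by
  constructor
  · rintro ⟨h, hh, rfl⟩
    simpa [mul_assoc] using hh
  · intro h
    exact ⟨_, h, by simp [mul_assoc]⟩

theorem conj_mem_cj {g a : G} {H : Subgroup G} (h : a ∈ H) : g * a * g⁻¹ ∈ cj g H :=
  mem_cj.2 (by simpa [mul_assoc] using h)

theorem cj_mul (g h : G) (H : Subgroup G) : cj (g * h) H = cj g (cj h H) := by
  ext a; simp only [mem_cj, mul_inv_rev, mul_assoc]

theorem cj_one (H : Subgroup G) : cj 1 H = H := by ext a; simp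

theorem cj_mono (g : G) {H K : Subgroup G} (h : H ≤ K) : cj g H ≤ cj g K := Subgroup.map_mono h

theorem cj_inv_cancel (g : G) (H : Subgroup G) : cj g⁻¹ (cj g H) = H := by
  rw [← cj_mul, inv_mul_cancel, cj_one]

theorem cj_le_cj {g : G} {H K : Subgroup G} : cj g H ≤ cj g K ↔ H ≤ K :=
  ⟨fun h => by simpa [cj_inv_cancel] using cj_mono g⁻¹ h, cj_mono g⟩

theorem cj_inj {g : G} {H K : Subgroup G} (h : cj g H = cj g K) : H = K := by
  rw [← cj_inv_cancel g H, h, cj_inv_cancel]

theorem cj_sup (g : G) (H K : Subgroup G) : cj g (H ⊔ K) = cj g H ⊔ cj g K := Subgroup.map_sup _ _ _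

theorem cj_inf (g : G) (H K : Subgroup G) : cj g (H ⊓ K) = cj g H ⊓ cj g K :=
  Subgroup.map_inf _ _ _ (MulAut.conj g).injective

theorem cj_eq_of_normal (g : G) (H : Subgroup G) [hH : H.Normal] : cj g H = H := by
  ext a
  rw [mem_cj]
  refine ⟨fun h => ?_, fun h => ?_⟩
  · simpa [mul_assoc] using hH.conj_mem _ h g
  · simpa [mul_assoc] using hH.conj_mem _ h g⁻¹

theorem cj_eq_iff {g : G} {H : Subgroup G} : cj g H = H ↔ g ∈ Subgroup.normalizer (H : Set G) :=
  (Cfsg.Agent.Lib.LA5.Basic.mem_normalizer_iff_conj_eq (g := g) (H := H)).symm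

theorem cj_eq_of_mem {g : G} {H : Subgroup G} (h : g ∈ H) : cj g H = H :=
  cj_eq_iff.2 (Subgroup.le_normalizer h)

theorem relIndex_cj (g : G) (H K : Subgroup G) : (cj g H).relIndex (cj g K) = H.relIndex K :=
  Subgroup.relIndex_map_map_of_injective _ _ (MulAut.conj g).injective

theorem card_cj (g : G) (H : Subgroup G) : Nat.card ↥(cj g H) = Nat.card ↥H :=
  Subgroup.card_map_of_injective (MulAut.conj g).injective

theorem cj_map {G' : Type*} [Group G'] (f : G →* G') (g : G) (H : Subgroup G) :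
    (cj g H).map f = cj (f g) (H.map f) := by
  rw [cj, cj, Subgroup.map_map, Subgroup.map_map]
  congr 1
  ext; simp

end Cj

variable {F : Type} [Field F]

theorem uMat_eq_uSL (x : F) : uMat x = Linear.uSL (Multiplicative.ofAdd x) :=
  Subtype.ext (by rw [Linear.coe_uSL]; rfl)

theorem U_eq_map : U F = (Linear.uSL (F := F)).range.map (QuotientGroup.mk' (Subgroup.center (SL2 F))) := by
  rw [U, ← MonoidHom.range_comp]
  congr 1
  refine MonoidHom.ext fun x => ?_
  show QuotientGroup.mk' _ (uMat x.toAdd) = _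
  rw [uMat_eq_uSL, ofAdd_toAdd]
  rfl

/-- The upper triangular matrices are the normalizer of `U`. -/
theorem mem_normalizer_U_iff (k : SL2 F) :
    QuotientGroup.mk' (Subgroup.center (SL2 F)) k ∈ Subgroup.normalizer (U F : Set (PSL2 F)) ↔
      (k : Matrix (Fin 2) (Fin 2) F) 1 0 = 0 := by
  constructor
  · intro h
    obtain ⟨t, ht⟩ := (Subgroup.mem_normalizer_iff.1 h (uHom F (Multiplicative.ofAdd 1))).1 ⟨_, rfl⟩
    have ht' : QuotientGroup.mk' (Subgroup.center (SL2 F)) (uMat t.toAdd) =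
        QuotientGroup.mk' _ (k * uMat 1 * k⁻¹) := by
      rw [map_mul, map_mul, map_inv]
      exact ht
    obtain ⟨z, hz, hzk⟩ : ∃ z ∈ Subgroup.center (SL2 F), uMat t.toAdd * z = k * uMat 1 * k⁻¹ :=
      ⟨_, QuotientGroup.eq.1 ht', by group⟩
    have he : uMat t.toAdd * z * k = k * uMat 1 := by rw [hzk]; group
    obtain ⟨h10, h01⟩ := center_offdiag hz
    have e10 := congrArg (fun M : SL2 F => (M : Matrix (Fin 2) (Fin 2) F) 1 0) he
    have e11 := congrArg (fun M : SL2 F => (M : Matrix (Fin 2) (Fin 2) F) 1 1) he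
    simp only [Matrix.SpecialLinearGroup.coe_mul] at e10 e11
    simp [uMat, Matrix.mul_apply, Matrix.vecMul, dotProduct, Fin.sum_univ_two, h10, h01] at e10 e11
    by_contra hne
    have hz1 : (z : Matrix (Fin 2) (Fin 2) F) 1 1 = 1 :=
      mul_right_cancel₀ hne (e10.trans (one_mul _).symm)
    rw [hz1, one_mul] at e11
    exact hne (by linear_combination -e11)
  · intro h
    rw [← cj_eq_iff, U_eq_map, ← cj_map]
    congr 1
    ext M
    rw [mem_cj]
    have hk := Linear.upper_conj_uSL h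
    constructor
    · intro hM
      have : MulAut.conj k • (k⁻¹ * M * k) ∈ MulAut.conj k • (Linear.uSL (F := F)).range :=
        Subgroup.smul_mem_pointwise_smul _ _ _ hM
      rw [hk] at this
      simpa [mul_assoc] using this
    · intro hM
      rw [← hk, Subgroup.mem_pointwise_smul_iff_inv_smul_mem] at hM
      simpa [mul_assoc] using hM

/-- An element not normalizing `U` generates with it. -/
theorem U_sup_eq_top {g : PSL2 F} (hg : g ∉ Subgroup.normalizer (U F : Set (PSL2 F))) :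
    U F ⊔ cj g (U F) = ⊤ := by
  obtain ⟨k, rfl⟩ := QuotientGroup.mk'_surjective _ g
  rw [mem_normalizer_U_iff] at hg
  rw [U_eq_map, ← cj_map, ← Subgroup.map_sup]
  have h := Linear.uSL_sup_conj_eq_top hg
  have e : cj k (Linear.uSL (F := F)).range = MulAut.conj k • (Linear.uSL (F := F)).range := by
    ext M
    rw [mem_cj, Subgroup.mem_pointwise_smul_iff_inv_smul_mem]
    simp [mul_assoc]
  rw [e, h, Subgroup.map_top_of_surjective _ (QuotientGroup.mk'_surjective _)]

theorem exists_not_mem_normalizer : ∃ g : PSL2 F, g ∉ Subgroup.normalizer (U F : Set (PSL2 F)) :=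
  ⟨wImg, fun h => by
    have := (mem_normalizer_U_iff wMat).1 h
    simp [wMat] at this⟩

/-- The centralizer of `U` and of an opposite subgroup is trivial. -/
theorem center_psl : Subgroup.center (PSL2 F) = ⊥ := by
  refine le_bot_iff.1 fun g hg => ?_
  obtain ⟨k, rfl⟩ := QuotientGroup.mk'_surjective _ g
  have hc : ∀ y : PSL2 F, QuotientGroup.mk' _ k ∈ Subgroup.normalizer (cj y (U F) : Set (PSL2 F)) :=
    fun y => Subgroup.mem_normalizer_iff.2 fun a => by
      rw [← Subgroup.mem_center_iff.1 hg a, mul_inv_cancel_right]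
  have h1 : (k : Matrix (Fin 2) (Fin 2) F) 1 0 = 0 := (mem_normalizer_U_iff k).1 (by
    have := hc 1; rwa [cj_one] at this)
  have h2 : (k : Matrix (Fin 2) (Fin 2) F) 0 1 = 0 := by
    have h3 : QuotientGroup.mk' (Subgroup.center (SL2 F)) (wMat⁻¹ * k * wMat) ∈
        Subgroup.normalizer (U F : Set (PSL2 F)) := by
      rw [map_mul, map_mul, map_inv, Subgroup.mem_center_iff.1 hg, inv_mul_cancel_right]
      exact (mem_normalizer_U_iff k).2 h1
    have := (mem_normalizer_U_iff _).1 h3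
    simp only [Matrix.SpecialLinearGroup.coe_mul, Matrix.SpecialLinearGroup.coe_inv] at this
    simp [wMat, Matrix.adjugate_fin_two,
      Matrix.mul_apply, Matrix.vecMul, dotProduct, Fin.sum_univ_two] at this
    exact this
  have hcomm := Subgroup.mem_center_iff.1 hg (QuotientGroup.mk' _ (uMat 1))
  rw [← map_mul, ← map_mul] at hcomm
  obtain ⟨h10, h01⟩ := center_offdiag (QuotientGroup.eq.1 hcomm)
  have hd : (k : Matrix (Fin 2) (Fin 2) F) 0 0 * (k : Matrix (Fin 2) (Fin 2) F) 1 1 = 1 := by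
    have := k.2
    rwa [Matrix.det_fin_two, h1, mul_zero, sub_zero] at this
  simp only [Matrix.SpecialLinearGroup.coe_mul, Matrix.SpecialLinearGroup.coe_inv] at h01
  simp [uMat, Matrix.adjugate_fin_two,
    Matrix.mul_apply, Matrix.vecMul, dotProduct, Fin.sum_univ_two, h1, h2] at h01
  have h00 : (k : Matrix (Fin 2) (Fin 2) F) 0 0 = (k : Matrix (Fin 2) (Fin 2) F) 1 1 := by
    linear_combination (k : Matrix (Fin 2) (Fin 2) F) 0 0 * h01 - ((k : Matrix (Fin 2) (Fin 2) F) 0 0 - (k : Matrix (Fin 2) (Fin 2) F) 1 1) * hd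
  rw [Subgroup.mem_bot]
  refine (QuotientGroup.eq_one_iff _).2 (Matrix.SpecialLinearGroup.mem_center_iff.2
    ⟨(k : Matrix (Fin 2) (Fin 2) F) 0 0, ?_, ?_⟩)
  · show ((k : Matrix (Fin 2) (Fin 2) F) 0 0) ^ Fintype.card (Fin 2) = 1
    rw [Fintype.card_fin, sq]
    nth_rewrite 2 [h00]
    exact hd
  · ext i j
    fin_cases i <;> fin_cases j <;> simp [h1, h2, h00]

/-- A normal subgroup of `PSL₂` is trivial or covers modulo `U`. -/
theorem normal_sup_U {p n : ℕ} [Fact p.Prime] [Fintype F] (hF : Fintype.card F = p ^ n)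
    (N : Subgroup (PSL2 F)) [hN : N.Normal] (hne : N ≠ ⊥) : N ⊔ U F = ⊤ := by
  by_cases h : ∃ c ∈ N, c ∉ Subgroup.normalizer (U F : Set (PSL2 F))
  · obtain ⟨c, hc, hcU⟩ := h
    rw [eq_top_iff, ← U_sup_eq_top hcU]
    refine sup_le le_sup_right ?_
    rintro _ ⟨a, ha, rfl⟩
    exact Subgroup.mul_mem _ (Subgroup.mul_mem _ (Subgroup.mem_sup_left hc) (Subgroup.mem_sup_right ha))
      (Subgroup.inv_mem _ (Subgroup.mem_sup_left hc))
  · push Not at h
    exfalso
    -- `N ∩ U` is normal, hence trivial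
    have hNU : N ⊓ U F = ⊥ := by
      refine le_bot_iff.1 fun a ha => ?_
      have key : ∀ g : PSL2 F, g * a * g⁻¹ ∈ U F := fun g => by
        have h1 : g * a * g⁻¹ ∈ N := hN.conj_mem a ha.1 g
        have h2 := h _ h1
        obtain ⟨k, hk⟩ := (IsPGroup.of_card (card_U (F := F) hF)) ⟨a, ha.2⟩
        have hk' : a ^ p ^ k = 1 := congrArg Subtype.val hk
        have hP : IsPGroup p ↥(U F ⊔ Subgroup.zpowers (g * a * g⁻¹)) := by
          refine IsPGroup.to_sup_of_normal_left' (IsPGroup.of_card (card_U (F := F) hF)) ?_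
            ((Subgroup.zpowers_le.2 h2))
          intro x
          obtain ⟨i, hi⟩ := x.2
          refine ⟨k, Subtype.ext ?_⟩
          show (x : PSL2 F) ^ p ^ k = 1
          rw [← hi, ← zpow_natCast, ← zpow_mul, mul_comm, zpow_mul, zpow_natCast, conj_pow, hk', mul_one,
            mul_inv_cancel, one_zpow]
        have := (USylow (F := F) hF).3 hP le_sup_left
        have h4 : g * a * g⁻¹ ∈ U F ⊔ Subgroup.zpowers (g * a * g⁻¹) :=
          Subgroup.mem_sup_right (Subgroup.mem_zpowers _)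
        rw [this] at h4
        exact h4
      refine (U_inf_conj (F := F)).le ⟨ha.2, mem_cj.2 ?_⟩
      simpa using key wImg⁻¹
    apply hne
    rw [← le_bot_iff, ← center_psl (F := F)]
    intro c hc
    have hUc : ∀ y : PSL2 F, ∀ u ∈ cj y (U F), u * c = c * u := by
      intro y u hu
      have hc' : y⁻¹ * c * y ∈ N := by simpa using hN.conj_mem c hc y⁻¹
      set c' := y⁻¹ * c * y
      set u' := y⁻¹ * u * y
      have hu' : u' ∈ U F := mem_cj.1 hu
      have h1 : u' * c' * u'⁻¹ * c'⁻¹ ∈ N ⊓ U F := by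
        refine ⟨N.mul_mem (hN.conj_mem _ hc' u') (N.inv_mem hc'), ?_⟩
        rw [show u' * c' * u'⁻¹ * c'⁻¹ = u' * (c' * u'⁻¹ * c'⁻¹) by group]
        exact mul_mem hu' ((Subgroup.mem_normalizer_iff.1 (h _ hc') _).1 (inv_mem hu'))
      rw [hNU, Subgroup.mem_bot, mul_inv_eq_one, mul_inv_eq_iff_eq_mul] at h1
      have h2 := congrArg (fun w => y * w * y⁻¹) h1
      simpa [c', u', mul_assoc] using h2
    refine Subgroup.mem_center_iff.2 fun g => ?_
    obtain ⟨w, hw⟩ := exists_not_mem_normalizer (F := F)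
    have hle : U F ⊔ cj w (U F) ≤ Subgroup.centralizer ({c} : Set (PSL2 F)) := by
      refine sup_le (fun u hu => ?_) (fun u hu => ?_)
      · exact Subgroup.mem_centralizer_singleton_iff.2 (hUc 1 u (by rwa [cj_one]))
      · exact Subgroup.mem_centralizer_singleton_iff.2 (hUc w u hu)
    exact Subgroup.mem_centralizer_singleton_iff.1 (hle (U_sup_eq_top hw ▸ Subgroup.mem_top g))

theorem U_pow {p : ℕ} [CharP F p] {u : PSL2 F} (hu : u ∈ U F) : u ^ p = 1 := by
  obtain ⟨x, rfl⟩ := hu
  rw [← map_pow]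
  refine (congrArg (uHom F) ?_).trans (map_one _)
  apply Multiplicative.toAdd.injective
  rw [toAdd_pow, nsmul_eq_mul, CharP.cast_eq_zero, zero_mul, toAdd_one]

theorem U_comm {u v : PSL2 F} (hu : u ∈ U F) (hv : v ∈ U F) : u * v = v * u := by
  obtain ⟨x, rfl⟩ := hu
  obtain ⟨y, rfl⟩ := hv
  rw [← map_mul, ← map_mul, mul_comm]

end Cfsg.Agent.Lib.PushUpP
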