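import Cfsg.Agent.Lib.PushUpP.SL2

/-!
An element acting as `diag(2, 2⁻¹)` on two natural sections at the same time.
-/

set_option autoImplicit false
set_option linter.unusedSectionVars false
set_option linter.style.haveILetI false

open scoped commutatorElement

namespace Cfsg.Agent.Lib.PushUpP.Sit

open Cfsg.Agent.Lib.LAEven57.PushingUp
open Cfsg.Agent.Lib.Schur.SteinbergSL2 (trv trv_rel)
open Matrix

variable {G : Type*} [Group G] [Finite G] {p : ℕ} [hp : Fact p.Prime] {F : Type} [Field F] [Fintype F]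
variable {c : Sit G p F}

local notation "Qc" => Cfsg.pCore p G

variable {C U₀ : Subgroup G} [C.Normal] (nc : c.NatCoord C U₀)

/-- The coordinates of an element of the section. -/
def NatCoord.vec (u : G) (hu : u ∈ U₀) : Fin 2 → F :=
  nc.ψ (Additive.ofMul ⟨QuotientGroup.mk' C u, Subgroup.mem_map_of_mem _ hu⟩)

theorem NatCoord.vec_mul {u v : G} (hu : u ∈ U₀) (hv : v ∈ U₀) :
    nc.vec (u * v) (mul_mem hu hv) = nc.vec u hu + nc.vec v hv := by
  rw [NatCoord.vec, NatCoord.vec, NatCoord.vec, ← map_add, ← ofMul_mul]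
  rfl

theorem NatCoord.vec_inv {u : G} (hu : u ∈ U₀) : nc.vec u⁻¹ (inv_mem hu) = -nc.vec u hu := by
  rw [NatCoord.vec, NatCoord.vec, ← map_neg, ← ofMul_inv]
  rfl

theorem NatCoord.vec_conj [U₀.Normal] {u : G} (hu : u ∈ U₀) (g : G) :
    nc.vec (g * u * g⁻¹) ((inferInstance : U₀.Normal).conj_mem u hu g) =
      (nc.ρ g : Matrix (Fin 2) (Fin 2) F).mulVec (nc.vec u hu) := by
  obtain ⟨v', hv', hψ⟩ := nc.equiv g ⟨QuotientGroup.mk' C u, Subgroup.mem_map_of_mem _ hu⟩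
  rw [NatCoord.vec, NatCoord.vec, ← hψ]
  congr 2
  refine Subtype.ext ?_
  show QuotientGroup.mk' C (g * u * g⁻¹) = (v' : G ⧸ C)
  rw [hv', map_mul, map_mul, map_inv]

theorem NatCoord.vec_eq {u v : G} (hu : u ∈ U₀) (hv : v ∈ U₀) :
    nc.vec u hu = nc.vec v hv ↔ QuotientGroup.mk' C u = QuotientGroup.mk' C v := by
  rw [NatCoord.vec, NatCoord.vec, nc.ψ.injective.eq_iff, Additive.ofMul.injective.eq_iff, Subtype.mk_eq_mk]

theorem mk_conj_eq {u g : G} (h : ⁅u, g⁆ ∈ C) :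
    QuotientGroup.mk' C (g * u * g⁻¹) = QuotientGroup.mk' C u := by
  have e : g * u * g⁻¹ = ⁅u, g⁆⁻¹ * u := by rw [commutatorElement_def]; group
  rw [e, map_mul, show QuotientGroup.mk' C ⁅u, g⁆⁻¹ = 1 from (QuotientGroup.eq_one_iff _).2 (inv_mem h), one_mul]

theorem exists_upper {τ : SL2 F →* G ⧸ Qc} (hτi : Function.Injective τ)
    (hτU : ∀ t : F, τ (trv F true t) ∈ c.TT.map (QuotientGroup.mk' Qc)) {s : G} (hs : s ∈ c.TT) :
    ∃ a : F, τ (trv F true a) = QuotientGroup.mk' Qc s := by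
  let f : F → ↥(c.TT.map (QuotientGroup.mk' Qc)) := fun a => ⟨τ (trv F true a), hτU a⟩
  have hf : Function.Injective f := fun a b h => by
    have h1 := hτi (congrArg Subtype.val h)
    have h2 := congrArg (fun M : SL2 F => (M : Matrix (Fin 2) (Fin 2) F) 0 1) h1
    simpa [trv] using h2
  have hcard : Nat.card F = Nat.card ↥(c.TT.map (QuotientGroup.mk' Qc)) := by
    rw [← Subgroup.relIndex_ker, QuotientGroup.ker_mk', c.relIndex_Q, Nat.card_eq_fintype_card, c.hF]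
  obtain ⟨a, ha⟩ := ((Nat.bijective_iff_injective_and_card f).2 ⟨hf, hcard⟩).2
    ⟨_, Subgroup.mem_map_of_mem _ hs⟩
  exact ⟨a, congrArg Subtype.val ha⟩

/-- A torus element. -/
theorem exists_torus (h2 : (2 : F) ≠ 0) (hK : ∀ k ∈ c.π.ker, ∀ s ∈ c.TT, ⁅k, s⁆ ∈ Qc)
    {N₁ U₁ N₂ U₂ : Subgroup G} [N₁.Normal] [U₁.Normal] [N₂.Normal] [U₂.Normal]
    (h₁ : c.IsSec N₁ U₁) (h₂ : c.IsSec N₂ U₂) : ∃ h : G,
      (∀ t ∈ c.TT, ∃ q ∈ Qc, h * t * h⁻¹ = t ^ 4 * q) ∧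
      (∀ d ∈ c.fixS N₁ U₁, QuotientGroup.mk' (fixG N₁ U₁) (h * d * h⁻¹) = QuotientGroup.mk' (fixG N₁ U₁) (d * d)) ∧
      ∀ u ∈ U₂, (h * u * h⁻¹) * (h * u * h⁻¹) * u⁻¹ ∈ c.fixS N₂ U₂ := by
  classical
  obtain ⟨τ, hτ, hτU⟩ := exists_tau hK
  obtain ⟨nc₁, hc₁⟩ := exists_natCoord_of hτ hτU h₁
  obtain ⟨nc₂, hc₂⟩ := exists_natCoord_of hτ hτU h₂
  have hτi : Function.Injective τ := by
    rw [injective_iff_map_eq_one]
    intro M hM
    obtain ⟨g, rfl⟩ := nc₁.surj M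
    have hgQ : g ∈ Qc := by
      rw [hc₁] at hM
      exact (QuotientGroup.eq_one_iff g).1 hM
    rwa [← nc₁.ker, MonoidHom.mem_ker] at hgQ
  have hup : ∀ {C V : Subgroup G} [C.Normal] (nc : c.NatCoord C V),
      (∀ g, τ (nc.ρ g) = QuotientGroup.mk' Qc g) → ∀ s ∈ c.TT, ∃ a : F, nc.ρ s = trv F true a := by
    intro C V _ nc hc s hs
    obtain ⟨a, ha⟩ := exists_upper hτi hτU hs
    exact ⟨a, hτi (by rw [hc, ha])⟩
  let T : SL2 F := ⟨!![2, 0; 0, 2⁻¹], by simp [Matrix.det_fin_two, h2]⟩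
  obtain ⟨h, hh⟩ := nc₁.surj T
  have hh₂ : nc₂.ρ h = T := hτi (by rw [hc₂, ← hh, hc₁])
  refine ⟨h, fun t ht => ?_, fun d hd => ?_, fun u hu => ?_⟩
  · obtain ⟨a, ha⟩ := hup nc₁ hc₁ t ht
    refine ⟨(t ^ 4)⁻¹ * (h * t * h⁻¹), ?_, by group⟩
    rw [← nc₁.ker, MonoidHom.mem_ker]
    simp only [map_mul, map_inv, map_pow, hh, ha]
    rw [inv_mul_eq_one, eq_mul_inv_iff_mul_eq]
    have e4 : trv F true a ^ 4 = trv F true (a + a + a + a) := by
      rw [(trv_rel F).add, (trv_rel F).add, (trv_rel F).add]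
      simp only [pow_succ, pow_zero, one_mul]
    rw [e4]
    apply Matrix.SpecialLinearGroup.ext
    intro i j
    rw [Matrix.SpecialLinearGroup.coe_mul, Matrix.SpecialLinearGroup.coe_mul]
    simp only [T, trv, if_true]
    fin_cases i <;> fin_cases j <;>
      simp [Matrix.mul_apply, Fin.sum_univ_two, h2] <;> field_simp <;> ring
  · obtain ⟨a, ha, he⟩ : ∃ s ∈ c.TT, nc₁.ρ s = trv F true 1 := by
      obtain ⟨s, hs, hse⟩ := hτU 1
      exact ⟨s, hs, hτi (by rw [hc₁, hse])⟩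
    have hdU := h₁.D_le hd
    have hy : nc₁.vec d hdU 1 = 0 := by
      have h3 := nc₁.vec_conj hdU a
      rw [(nc₁.vec_eq _ hdU).2 (mk_conj_eq (h₁.N_le_C ((c.mem_fixS.1 hd).2 a ha))), he] at h3
      have h4 := congrFun h3 0
      simp [trv, Matrix.mulVec, dotProduct, Fin.sum_univ_two] at h4
      exact h4
    rw [← nc₁.vec_eq ((inferInstance : U₁.Normal).conj_mem _ hdU h) (mul_mem hdU hdU), nc₁.vec_conj hdU,
      nc₁.vec_mul hdU hdU, hh]
    ext i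
    fin_cases i <;> simp [T, Matrix.mulVec, dotProduct, Fin.sum_univ_two, hy, two_mul]
  · have hconj := (inferInstance : U₂.Normal).conj_mem _ hu h
    set w := (h * u * h⁻¹) * (h * u * h⁻¹) * u⁻¹ with hw
    have hwU : w ∈ U₂ := mul_mem (mul_mem hconj hconj) (inv_mem hu)
    have hy : nc₂.vec w hwU 1 = 0 := by
      rw [nc₂.vec_mul (mul_mem hconj hconj) (inv_mem hu), nc₂.vec_mul hconj hconj, nc₂.vec_inv hu,
        nc₂.vec_conj hu, hh₂]
      simp [T, Matrix.mulVec, dotProduct, Fin.sum_univ_two]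
      field_simp
      ring
    by_contra hwD
    obtain ⟨t, ht, htQ⟩ := c.exists_out
    refine h₂.comm_not_mem ht htQ hwU hwD ?_
    obtain ⟨a, ha⟩ := hup nc₂ hc₂ t ht
    have h3 : QuotientGroup.mk' (fixG N₂ U₂) (t * w * t⁻¹) = QuotientGroup.mk' (fixG N₂ U₂) w := by
      rw [← nc₂.vec_eq ((inferInstance : U₂.Normal).conj_mem _ hwU t) hwU, nc₂.vec_conj hwU, ha]
      ext i
      fin_cases i <;> simp [trv, Matrix.mulVec, dotProduct, Fin.sum_univ_two, hy]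
    refine (QuotientGroup.eq_one_iff _).1 ?_
    show QuotientGroup.mk' (fixG N₂ U₂) ⁅w, t⁆ = 1
    rw [map_mul, map_mul, map_inv] at h3
    rw [map_commutatorElement, commutatorElement_eq_one_iff_mul_comm]
    exact (mul_inv_eq_iff_eq_mul.1 h3).symm

end Cfsg.Agent.Lib.PushUpP.Sit
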