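import Cfsg.Agent.Lib.PushUpP.Two
import Cfsg.Agent.Lib.PushUpP.Torus

/-!
Critical distance two forces `p = 3`, class three and exponent nine.
-/

set_option autoImplicit false
set_option linter.unusedSectionVars false
set_option linter.style.haveILetI false

open scoped commutatorElement

namespace Cfsg.Agent.Lib.PushUpP

theorem comm_sup_le {G : Type*} [Group G] {A B C M : Subgroup G}
    (hA : A ≤ Subgroup.normalizer (M : Set G)) (hB : B ≤ Subgroup.normalizer (M : Set G))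
    (h1 : ⁅A, C⁆ ≤ M) (h2 : ⁅B, C⁆ ≤ M) : ⁅A ⊔ B, C⁆ ≤ M := by
  refine Subgroup.commutator_le.2 fun x hx k hk => ?_
  let K : Subgroup G :=
    { carrier := {x | x ∈ Subgroup.normalizer (M : Set G) ∧ ⁅x, k⁆ ∈ M}
      one_mem' := ⟨one_mem _, by rw [commutatorElement_one_left]; exact one_mem _⟩
      mul_mem' := fun {a b} ha hb => ⟨mul_mem ha.1 hb.1, by
        rw [show ⁅a * b, k⁆ = a * ⁅b, k⁆ * a⁻¹ * ⁅a, k⁆ by simp only [commutatorElement_def]; group]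
        exact mul_mem ((Subgroup.mem_normalizer_iff.1 ha.1 _).1 hb.2) ha.2⟩
      inv_mem' := fun {a} ha => ⟨inv_mem ha.1, by
        rw [show ⁅a⁻¹, k⁆ = a⁻¹ * ⁅a, k⁆⁻¹ * a by simp only [commutatorElement_def]; group]
        have h := (Subgroup.mem_normalizer_iff.1 (inv_mem ha.1) _).1 (inv_mem ha.2)
        rwa [inv_inv] at h⟩ }
  have hle : A ⊔ B ≤ K := sup_le (fun a ha => ⟨hA ha, h1 (Subgroup.commutator_mem_commutator ha hk)⟩)
    fun b hb => ⟨hB hb, h2 (Subgroup.commutator_mem_commutator hb hk)⟩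
  exact (hle hx).2

theorem engel_of_cube {G : Type*} [Group G] {H : Subgroup G} (h : ∀ s ∈ H, s ^ 3 = 1) {x y : G}
    (hx : x ∈ H) (hy : y ∈ H) : ⁅⁅x, y⁆, y⁆ = 1 := by
  have c1 : x⁻¹ = x * x := inv_eq_of_mul_eq_one_right (by rw [← h x hx, pow_succ, pow_two, mul_assoc])
  have h1 : (y * x) * (y * x) * (y * x) = 1 := by rw [← pow_two, ← pow_succ]; exact h _ (mul_mem hy hx)
  have h2 : (x⁻¹ * y) * (x⁻¹ * y) * (x⁻¹ * y) = 1 := by
    rw [← pow_two, ← pow_succ]; exact h _ (mul_mem (inv_mem hx) hy)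
  have hyc : y * (x * y * x⁻¹) = x * y * x⁻¹ * y := by
    have e1 : y * x * y = x⁻¹ * y⁻¹ * x⁻¹ := by
      calc y * x * y = (y * x) * (y * x) * (y * x) * (x⁻¹ * y⁻¹ * x⁻¹) := by group
        _ = _ := by rw [h1, one_mul]
    have e2 : y * x⁻¹ * y = x * y⁻¹ * x := by
      calc y * x⁻¹ * y = x * ((x⁻¹ * y) * (x⁻¹ * y) * (x⁻¹ * y)) * (y⁻¹ * x) := by group
        _ = _ := by rw [h2, mul_one]; group
    have e3 : x⁻¹ * x⁻¹ = x := by
      rw [c1]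
      calc x * x * (x * x) = x * x * x * x := by group
        _ = x := by rw [← pow_two, ← pow_succ, h x hx, one_mul]
    calc y * (x * y * x⁻¹) = (y * x * y) * x⁻¹ := by group
      _ = x⁻¹ * y⁻¹ * (x⁻¹ * x⁻¹) := by rw [e1]; group
      _ = x⁻¹ * y⁻¹ * x := by rw [e3]
      _ = (x * x) * y⁻¹ * x := by rw [c1]
      _ = x * (y * x⁻¹ * y) := by rw [e2]; group
      _ = x * y * x⁻¹ * y := by group
  rw [commutatorElement_eq_one_iff_mul_comm, commutatorElement_def]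
  calc x * y * x⁻¹ * y⁻¹ * y = x * y * x⁻¹ * y * y⁻¹ := by group
    _ = y * (x * y * x⁻¹ * y⁻¹) := by rw [← hyc]; group

namespace Sit

open Cfsg.Agent.Lib.LAEven57.PushingUp

variable {G : Type*} [Group G] [Finite G] {p : ℕ} [hp : Fact p.Prime] {F : Type} [Field F] [Fintype F]
variable {c : Sit G p F}
variable {G' : Type*} [Group G'] [Finite G'] {F' : Type} [Field F'] [Fintype F'] {c' : Sit G' p F'}

local notation "Qc" => Cfsg.pCore p G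
local notation "Qc'" => Cfsg.pCore p G'

theorem Z_fix {z s : G} (hz : z ∈ c.Z) (hs : s ∈ c.TT) : s * z * s⁻¹ = z := by
  rw [hz.2.2 s hs, mul_inv_cancel_right]

theorem comm_Z_left {X z s : G} (hX : X ∈ c.TT) (hz : z ∈ c.Z) (hs : s ∈ c.TT) :
    ⁅X * z, s⁆ = ⁅X, s⁆ := by
  rw [show ⁅X * z, s⁆ = X * ⁅z, s⁆ * X⁻¹ * ⁅X, s⁆ by simp only [commutatorElement_def]; group,
    commutatorElement_eq_one_iff_mul_comm.2 (hz.2.2 s hs).symm, mul_one, mul_inv_cancel, one_mul]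

variable {φ : ↥c'.TT ≃* ↥c.TT} (hd : c.Good) (hd' : c'.Good) (T : c.Two φ) (hp2 : p ≠ 2)
include hd hd' T hp2

theorem Two.D_le_S {d : G} (hd₀ : d ∈ c.fixS c.V (Un φ)) : d ∈ c.TT :=
  c.Q_le_S (Two.Un_le_Q hd hd' T ((Two.isSec hd hd' T hp2).D_le hd₀))

theorem Two.comm_DS {d s : G} (hd₀ : d ∈ c.fixS c.V (Un φ)) (hs : s ∈ c.TT) : ⁅d, s⁆ ∈ c.Z := by
  obtain ⟨w, hw, q, hq, rfl⟩ := Two.cover hd hd' T hs
  rw [show ⁅d, w * q⁆ = ⁅d, w⁆ * (w * ⁅d, q⁆ * w⁻¹) by simp only [commutatorElement_def]; group]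
  have hk := c.C₀_le_Z (Two.comm_UQ hd hd' T ((Two.isSec hd hd' T hp2).D_le hd₀) hq)
  rw [Z_fix hk (img_le_S hw)]
  exact mul_mem (Kimg_le_Z (Two.comm_Qimg hd hd' T (Two.fixS_le hd hd' T hp2 hd₀) hw)) hk

theorem Two.comm_US {u t : G} (hu : u ∈ Un φ) (ht : t ∈ c.TT) : ⁅u, t⁆ ∈ c.fixS c.V (Un φ) :=
  (Two.isSec hd hd' T hp2).comm_mem hu ht

theorem Two.hom_right {X t t' : G} (hX : X ∈ c.fixS c.V (Un φ)) (ht : t ∈ c.TT) (ht' : t' ∈ c.TT) :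
    ⁅X, t * t'⁆ = ⁅X, t⁆ * ⁅X, t'⁆ := by
  rw [show ⁅X, t * t'⁆ = ⁅X, t⁆ * (t * ⁅X, t'⁆ * t⁻¹) by simp only [commutatorElement_def]; group,
    Z_fix (Two.comm_DS hd hd' T hp2 hX ht') ht]

theorem Two.comm_mul_left {X Y t : G} (hX : X ∈ c.fixS c.V (Un φ)) (hY : Y ∈ c.fixS c.V (Un φ))
    (ht : t ∈ c.TT) : ⁅X * Y, t⁆ = ⁅X, t⁆ * ⁅Y, t⁆ := by
  rw [show ⁅X * Y, t⁆ = X * ⁅Y, t⁆ * X⁻¹ * ⁅X, t⁆ by simp only [commutatorElement_def]; group,
    Z_fix (Two.comm_DS hd hd' T hp2 hY ht) (Two.D_le_S hd hd' T hp2 hX)]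
  exact (Two.comm_DS hd hd' T hp2 hX ht).2.2 _ (c.Z_le_S (Two.comm_DS hd hd' T hp2 hY ht))

theorem Two.hom_mid {u t t₁ t' : G} (hu : u ∈ Un φ) (ht : t ∈ c.TT) (ht₁ : t₁ ∈ c.TT) (ht' : t' ∈ c.TT) :
    ⁅⁅u, t * t₁⁆, t'⁆ = ⁅⁅u, t⁆, t'⁆ * ⁅⁅u, t₁⁆, t'⁆ := by
  have hX := Two.comm_US hd hd' T hp2 hu ht
  have hY := Two.comm_US hd hd' T hp2 hu ht₁
  set X := ⁅u, t⁆ with hXdef
  set Y := ⁅u, t₁⁆ with hYdef
  have hz : ⁅Y, t⁆⁻¹ ∈ c.Z := inv_mem (Two.comm_DS hd hd' T hp2 hY ht)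
  have e : ⁅u, t * t₁⁆ = X * Y * ⁅Y, t⁆⁻¹ := by
    have h1 : ⁅u, t * t₁⁆ = X * (⁅Y, t⁆⁻¹ * Y) := by
      rw [hXdef, hYdef]; simp only [commutatorElement_def]; group
    rw [h1, ← hz.2.2 Y (Two.D_le_S hd hd' T hp2 hY), mul_assoc]
  rw [e, comm_Z_left (mul_mem (Two.D_le_S hd hd' T hp2 hX) (Two.D_le_S hd hd' T hp2 hY)) hz ht',
    Two.comm_mul_left hd hd' T hp2 hX hY ht']

theorem Two.hom_left {u u₁ t t' : G} (hu : u ∈ Un φ) (hu₁ : u₁ ∈ Un φ) (ht : t ∈ c.TT) (ht' : t' ∈ c.TT) :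
    ⁅⁅u * u₁, t⁆, t'⁆ = ⁅⁅u, t⁆, t'⁆ * ⁅⁅u₁, t⁆, t'⁆ := by
  have hX := Two.comm_US hd hd' T hp2 hu ht
  have hY := Two.comm_US hd hd' T hp2 hu₁ ht
  set X := ⁅u, t⁆ with hXdef
  set Y := ⁅u₁, t⁆ with hYdef
  have hk : ⁅u, Y⁆ ∈ c.C₀ := Two.comm_UU hd hd' T hu ((Two.isSec hd hd' T hp2).D_le hY)
  have e : ⁅u * u₁, t⁆ = Y * X * ⁅u, Y⁆ := by
    have h1 : ⁅u * u₁, t⁆ = ⁅u, Y⁆ * (Y * X) := by
      rw [hXdef, hYdef]; simp only [commutatorElement_def]; group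
    rw [h1, C₀_central hk (Y * X)]
  rw [e, comm_Z_left (mul_mem (Two.D_le_S hd hd' T hp2 hY) (Two.D_le_S hd hd' T hp2 hX)) (c.C₀_le_Z hk) ht',
    Two.comm_mul_left hd hd' T hp2 hY hX ht']
  exact (Two.comm_DS hd hd' T hp2 hX ht').2.2 _ (c.Z_le_S (Two.comm_DS hd hd' T hp2 hY ht'))

theorem Two.vanish_left {d t t' : G} (hd₀ : d ∈ c.fixS c.V (Un φ)) (ht : t ∈ c.TT) (ht' : t' ∈ c.TT) :
    ⁅⁅d, t⁆, t'⁆ = 1 :=
  commutatorElement_eq_one_iff_mul_comm.2 ((Two.comm_DS hd hd' T hp2 hd₀ ht).2.2 t' ht').symm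

/-- For `p ≥ 5` the double commutators lie in `C₀`. -/
theorem Two.cubic_vanish (hp5 : 5 ≤ p) {u t t' : G} (hu : u ∈ Un φ) (ht : t ∈ c.TT) (ht' : t' ∈ c.TT) :
    ⁅⁅u, t⁆, t'⁆ ∈ c.C₀ := by
  haveI : CharP F p := Lib.SL2Module.charP_of_card c.hF
  have h2 : (2 : F) ≠ 0 := by
    intro h
    have h' : ((2 : ℕ) : F) = 0 := by exact_mod_cast h
    rw [CharP.cast_eq_zero_iff F p] at h'
    have := Nat.le_of_dvd (by norm_num) h'
    omega
  obtain ⟨h, hS, hZ, hU⟩ := exists_torus h2 (Two.hK hd hd' T hp2) (c.secV hd) (Two.isSec hd hd' T hp2)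
  let f : G →* G ⧸ c.C₀ := QuotientGroup.mk' c.C₀
  set F₀ := ⁅⁅u, t⁆, t'⁆ with hF₀
  set u' := h * u * h⁻¹ with hu'def
  have hu' : u' ∈ Un φ := (inferInstance : (Un φ).Normal).conj_mem u hu h
  set G₁ := ⁅⁅u', t⁆, t'⁆ with hG₁
  have hG₁Z : G₁ ∈ c.Z := Two.comm_DS hd hd' T hp2 (Two.comm_US hd hd' T hp2 hu' ht) ht'
  have hF₀Z : F₀ ∈ c.Z := Two.comm_DS hd hd' T hp2 (Two.comm_US hd hd' T hp2 hu ht) ht'
  -- `F₀ = G₁²`
  have hdm : u' * u' * u⁻¹ ∈ c.fixS c.V (Un φ) := hU u hu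
  have e1 : F₀ = G₁ * G₁ := by
    set d := u' * u' * u⁻¹ with hddef
    have hu2 : u = d⁻¹ * (u' * u') := by rw [hddef]; group
    rw [hF₀, hu2, Two.hom_left hd hd' T hp2 (inv_mem ((Two.isSec hd hd' T hp2).D_le hdm)) (mul_mem hu' hu') ht ht',
      Two.vanish_left hd hd' T hp2 (inv_mem hdm) ht ht', one_mul, Two.hom_left hd hd' T hp2 hu' hu' ht ht']
  -- conjugation by the torus
  have e2 : f (h * F₀ * h⁻¹) = f F₀ * f F₀ := by
    rw [← map_mul]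
    refine QuotientGroup.eq.2 ?_
    rw [← fixG_bot]
    exact QuotientGroup.eq.1 (hZ F₀ (by rw [fixS_bot]; exact hF₀Z))
  obtain ⟨q, hq, hqe⟩ := hS t ht
  obtain ⟨q', hq', hqe'⟩ := hS t' ht'
  have e3 : f (h * F₀ * h⁻¹) = f G₁ ^ 16 := by
    have he : h * F₀ * h⁻¹ = ⁅⁅u', t ^ 4 * q⁆, t' ^ 4 * q'⁆ := by
      rw [← hqe, ← hqe', hu'def, hF₀]; simp only [commutatorElement_def]; group
    have ht4 : t ^ 4 ∈ c.TT := pow_mem ht 4
    have ht4' : t' ^ 4 ∈ c.TT := pow_mem ht' 4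
    have hX := Two.comm_US hd hd' T hp2 hu' (mul_mem ht4 (c.Q_le_S hq))
    have hk : ⁅⁅u', t ^ 4 * q⁆, q'⁆ ∈ c.C₀ := Two.comm_UQ hd hd' T ((Two.isSec hd hd' T hp2).D_le hX) hq'
    have hk2 : ⁅⁅u', q⁆, t' ^ 4⁆ = 1 :=
      commutatorElement_eq_one_iff_mul_comm.2 (C₀_central (Two.comm_UQ hd hd' T hu' hq) (t' ^ 4)).symm
    have e4 : ∀ s ∈ c.TT, ⁅⁅u', t ^ 4⁆, s⁆ = ⁅⁅u', t⁆, s⁆ ^ 4 := by
      intro s hs
      rw [show t ^ 4 = t * t * t * t by simp only [pow_succ, pow_zero, one_mul], Two.hom_mid hd hd' T hp2 hu' (mul_mem (mul_mem ht ht) ht) ht hs,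
        Two.hom_mid hd hd' T hp2 hu' (mul_mem ht ht) ht hs, Two.hom_mid hd hd' T hp2 hu' ht ht hs]
      simp only [pow_succ, pow_zero, one_mul]
    have e5 : ⁅⁅u', t⁆, t' ^ 4⁆ = G₁ ^ 4 := by
      have hX' := Two.comm_US hd hd' T hp2 hu' ht
      rw [show t' ^ 4 = t' * t' * t' * t' by simp only [pow_succ, pow_zero, one_mul], Two.hom_right hd hd' T hp2 hX' (mul_mem (mul_mem ht' ht') ht') ht',
        Two.hom_right hd hd' T hp2 hX' (mul_mem ht' ht') ht', Two.hom_right hd hd' T hp2 hX' ht' ht', hG₁]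
      simp only [pow_succ, pow_zero, one_mul]
    rw [he, Two.hom_right hd hd' T hp2 hX ht4' (c.Q_le_S hq'), map_mul,
      show f ⁅⁅u', t ^ 4 * q⁆, q'⁆ = 1 from (QuotientGroup.eq_one_iff _).2 hk, mul_one,
      Two.hom_mid hd hd' T hp2 hu' ht4 (c.Q_le_S hq) ht4', hk2, mul_one, e4 _ ht4', e5, ← pow_mul, map_pow]
  have e6 : f G₁ ^ 12 = 1 := by
    have h4 : f G₁ ^ 4 * f G₁ ^ 12 = f G₁ ^ 4 * 1 := by
      rw [← pow_add, mul_one]
      rw [e3, e1, map_mul] at e2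
      rw [show 4 + 12 = 16 from rfl, e2]
      simp only [pow_succ, pow_zero, one_mul, mul_assoc]
    exact mul_left_cancel h4
  have e7 : f G₁ ^ p = 1 := by rw [← map_pow, hG₁Z.2.1, map_one]
  have hcop : Nat.Coprime p 12 := by
    rw [hp.out.coprime_iff_not_dvd]
    intro hdvd
    have := Nat.le_of_dvd (by norm_num) hdvd
    interval_cases p <;> first | omega | (exact absurd hp.out (by norm_num))
  have e8 : f G₁ = 1 := by
    have := pow_gcd_eq_one.2 ⟨e7, e6⟩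
    rwa [hcop.gcd_eq_one, pow_one] at this
  refine (QuotientGroup.eq_one_iff _).1 ?_
  show f F₀ = 1
  rw [e1, map_mul, e8, mul_one]

/-- A nontrivial double commutator. -/
theorem Two.exists_witness : ∃ a ∈ Un φ, ∃ w ∈ img φ (Un φ.symm), ∃ a' ∈ Un φ, a ∈ c.TT ∧ a' ∈ c.TT ∧
    ⁅⁅a, w⁆, a'⁆ ∉ img φ c'.C₀ := by
  have hsec := Two.isSec hd hd' T hp2
  obtain ⟨y, hy⟩ := T.crit
  obtain ⟨a', ha', ha'Q⟩ := SetLike.not_le_iff_exists.1 hy.2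
  have ha'S := Crit.le_S hd hd' T hy ha'
  have ha'U := Crit.le_Un hd hd' T hy ha'
  have hB : img φ c'.V ≤ c.fixS c.V (Un φ) := fun b hb => c.mem_fixS.2
    ⟨B_le_Un hb, fun s hs => (Two.comm_BS hd hd' T hb hs).1⟩
  have hsup : c.fixS c.V (Un φ) ≤ img φ c'.V ⊔ fixG c.V (Un φ) := by
    refine Subgroup.relIndex_eq_one.1 ?_
    have hle : img φ c'.V ⊔ fixG c.V (Un φ) ≤ c.fixS c.V (Un φ) := sup_le hB hsec.C_le_D
    have h := Subgroup.relIndex_mul_relIndex (fixG c.V (Un φ)) (img φ c'.V ⊔ fixG c.V (Un φ))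
      (c.fixS c.V (Un φ)) le_sup_right hle
    rw [hsec.C_index] at h
    have h1 : p ^ c.n ≤ (fixG c.V (Un φ)).relIndex (img φ c'.V ⊔ fixG c.V (Un φ)) := by
      refine le_trans ?_ (Subgroup.relIndex_le_of_le_right (le_sup_left : img φ c'.V ≤ _)
        Subgroup.index_ne_zero_of_finite)
      have e : c.Z.relIndex (img φ c'.V) = p ^ c.n := by
        rw [← img_Z φ, relIndex_img c'.Z_le_S c'.V_le_S, c'.relIndex_ZV hd', Two.n_eq hd hd' T hp2]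
      rw [← e, ← Subgroup.inf_relIndex_right (fixG c.V (Un φ)) (img φ c'.V)]
      refine Subgroup.relIndex_le_of_le_left (fun x hx => ?_) Subgroup.index_ne_zero_of_finite
      exact img_fix hd' ha'S ha'Q hx.2 (Two.fixG_cent hd hd' T hp2 hx.1 ha'U).symm
    have hpos : 0 < (img φ c'.V ⊔ fixG c.V (Un φ)).relIndex (c.fixS c.V (Un φ)) :=
      Nat.pos_of_ne_zero Subgroup.index_ne_zero_of_finite
    have hppos : 0 < p ^ c.n := pow_pos hp.out.pos c.n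
    nlinarith
  obtain ⟨a, ha, haD⟩ : ∃ a ∈ Un φ, a ∉ c.fixS c.V (Un φ) := by
    refine SetLike.not_le_iff_exists.1 fun hle => ?_
    have h := hsec.D_index
    rw [Subgroup.relIndex_eq_one.2 hle] at h
    exact (Nat.one_lt_pow (by have := c.hn; omega) hp.out.one_lt).ne h
  obtain ⟨w, hw, hwQ⟩ : ∃ w ∈ img φ (Un φ.symm), w ∉ Qc := by
    obtain ⟨t, ht, htQ⟩ := c.exists_out
    obtain ⟨w, hw, q, hq, rfl⟩ := Two.cover hd hd' T ht
    exact ⟨w, hw, fun h => htQ (mul_mem h hq)⟩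
  refine ⟨a, ha, w, hw, a', ha'U, c.Q_le_S (Two.Un_le_Q hd hd' T ha), ha'S, ?_⟩
  have hyD := Two.comm_US hd hd' T hp2 ha (img_le_S hw)
  have hyC := hsec.comm_not_mem (img_le_S hw) hwQ ha haD
  have hy' := hsup hyD
  rw [← SetLike.mem_coe, Subgroup.mul_normal] at hy'
  obtain ⟨b, hb, x, hx, hbx⟩ := hy'
  have hbx' : b * x = ⁅a, w⁆ := hbx
  have hbZ : b ∉ c.Z := fun h => hyC (hbx' ▸ mul_mem (hsec.N_le_C (c.Z_le_V h)) hx)
  have e : ⁅⁅a, w⁆, a'⁆ = ⁅b, a'⁆ := by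
    rw [← hbx', show ⁅b * x, a'⁆ = b * ⁅x, a'⁆ * b⁻¹ * ⁅b, a'⁆ by simp only [commutatorElement_def]; group,
      commutatorElement_eq_one_iff_mul_comm.2 (Two.fixG_cent hd hd' T hp2 hx ha'U), mul_one, mul_inv_cancel,
      one_mul]
  rw [e]
  exact img_comm_not_mem hd' ha'S ha'Q hb hbZ

theorem Two.eq_three : p = 3 := by
  by_contra h3
  have h5 : 5 ≤ p := by
    rcases Nat.lt_or_ge p 5 with h | h
    · interval_cases p <;> first | omega | (exact absurd hp.out (by norm_num))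
    · exact h
  obtain ⟨a, ha, w, hw, a', -, haS, ha'S, hne⟩ := Two.exists_witness hd hd' T hp2
  refine hne ?_
  obtain ⟨w₀, hw₀, hwe⟩ := mem_img.1 hw
  obtain ⟨t, hte⟩ := exists_pre (φ := φ) haS
  obtain ⟨t', hte'⟩ := exists_pre (φ := φ) ha'S
  have h := Two.cubic_vanish hd' hd T.symm hp2 h5 hw₀ t.2 t'.2
  have h1 : ⁅⁅w, a⁆, a'⁆ ∈ img φ c'.C₀ := by
    rw [← hwe, ← hte, ← hte', ← coe_comm, ← coe_comm]
    exact (apply_mem_img _).2 h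
  have hX := Two.comm_US hd hd' T hp2 ha (img_le_S hw)
  have hz := Two.comm_DS hd hd' T hp2 hX ha'S
  rw [← commutatorElement_inv a w,
    show ⁅(⁅a, w⁆)⁻¹, a'⁆ = (⁅a, w⁆)⁻¹ * (⁅⁅a, w⁆, a'⁆)⁻¹ * ((⁅a, w⁆)⁻¹)⁻¹ by
      simp only [commutatorElement_def]; group,
    Z_fix (inv_mem hz) (inv_mem (Two.D_le_S hd hd' T hp2 hX))] at h1
  exact inv_mem_iff.1 h1

theorem Two.lcs_two_ne : c.TT.lowerCentralSeries 2 ≠ ⊥ := by
  obtain ⟨a, -, w, hw, a', -, haS, ha'S, hne⟩ := Two.exists_witness hd hd' T hp2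
  intro h
  refine hne ?_
  have h1 : ⁅⁅a, w⁆, a'⁆ ∈ c.TT.lowerCentralSeries 2 := Subgroup.commutator_mem_commutator
    (Subgroup.commutator_mem_commutator haS (img_le_S hw)) ha'S
  rw [h, Subgroup.mem_bot] at h1
  rw [h1]
  exact one_mem _

theorem Two.comm_UW {u w : G} (hu : u ∈ Un φ) (hw : w ∈ img φ (Un φ.symm)) :
    ⁅u, w⁆ ∈ Un φ ⊓ img φ (Un φ.symm) := by
  refine Subgroup.mem_inf.2 ⟨?_, ?_⟩
  · rw [show ⁅u, w⁆ = u * (w * u⁻¹ * w⁻¹) by rw [commutatorElement_def]; group]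
    exact mul_mem hu ((inferInstance : (Un φ).Normal).conj_mem u⁻¹ (show u⁻¹ ∈ Un φ from inv_mem hu) w)
  · rw [show ⁅u, w⁆ = (u * w * u⁻¹) * w⁻¹ by rw [commutatorElement_def]]
    exact mul_mem (img_conj (c.Q_le_S (Two.Un_le_Q hd hd' T hu)) hw) (inv_mem hw)

theorem Two.class_three (hN : c.NoChar) : c.TT.lowerCentralSeries 3 = ⊥ := by
  set U' := Un φ with hU'
  set D := Qc ⊓ img φ Qc' with hD
  set W := img φ (Un φ.symm) with hW
  set I := U' ⊓ W with hI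
  have hUS : U' ≤ c.TT := (Two.Un_le_Q hd hd' T).trans c.Q_le_S
  have hDS : D ≤ c.TT := inf_le_left.trans c.Q_le_S
  have hWS : W ≤ c.TT := img_le_S
  have hID : I ≤ D := le_inf (inf_le_left.trans (Two.Un_le_Q hd hd' T)) (inf_le_right.trans (Two.Unimg_le hd hd' T))
  have hgen : c.TT ≤ U' ⊔ D ⊔ W := by
    intro s hs
    obtain ⟨w, hw, q, hq, rfl⟩ := Two.cover hd hd' T hs
    obtain ⟨y, hy⟩ := T.crit
    obtain ⟨a, ha, r, hrQ, hr, rfl⟩ := Crit.decomp_Q hd hd' T hy hq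
    exact mul_mem (Subgroup.mem_sup_right hw) (mul_mem
      (Subgroup.mem_sup_left (Subgroup.mem_sup_left (Crit.le_Un hd hd' T hy ha)))
      (Subgroup.mem_sup_left (Subgroup.mem_sup_right ⟨hrQ, hr⟩)))
  have hZI : c.Z ≤ I := fun z hz => ⟨V_le_Un (c.Z_le_V hz),
    img_mono (c'.Z_le_V.trans V_le_Un) ((img_Z φ).ge hz)⟩
  have rUQ : ∀ u ∈ U', ∀ x ∈ Qc, ⁅u, x⁆ ∈ c.Z := fun u hu x hx => c.C₀_le_Z (Two.comm_UQ hd hd' T hu hx)
  have rQW : ∀ x ∈ img φ Qc', ∀ w ∈ W, ⁅x, w⁆ ∈ c.Z := fun x hx w hw => Kimg_le_Z (Two.comm_Qimg hd hd' T hx hw)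
  have flip : ∀ {x y : G} {M : Subgroup G}, ⁅x, y⁆ ∈ M → ⁅y, x⁆ ∈ M := fun {x y M} h => by
    rw [← commutatorElement_inv]; exact inv_mem h
  -- `U` and `W` centralize the commutators of `D`
  have fix : ∀ g ∈ c.TT, (∀ d ∈ D, ⁅g, d⁆ ∈ c.Z) → ∀ x ∈ D.lowerCentralSeries 1, g * x = x * g := by
    intro g hg hgd
    suffices h : D.lowerCentralSeries 1 ≤ Subgroup.centralizer ({g} : Set G) from fun x hx =>
      (Subgroup.mem_centralizer_singleton_iff.1 (h hx)).symm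
    refine Subgroup.commutator_le.2 fun d₁ hd₁ d₂ hd₂ => ?_
    have e1 : g * d₁ * g⁻¹ = d₁ * ⁅g, d₁⁆ := by
      rw [(hgd d₁ hd₁).2.2 d₁ (hDS hd₁), commutatorElement_def]; group
    have e2 : g * d₂ * g⁻¹ = d₂ * ⁅g, d₂⁆ := by
      rw [(hgd d₂ hd₂).2.2 d₂ (hDS hd₂), commutatorElement_def]; group
    refine Subgroup.mem_centralizer_singleton_iff.2 ?_
    have e3 : g * ⁅d₁, d₂⁆ * g⁻¹ = ⁅d₁, d₂⁆ := by
      rw [show g * ⁅d₁, d₂⁆ * g⁻¹ = ⁅g * d₁ * g⁻¹, g * d₂ * g⁻¹⁆ by simp only [commutatorElement_def]; group,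
        e1, e2, comm_Z_left (hDS hd₁) (hgd d₁ hd₁) (mul_mem (hDS hd₂) (c.Z_le_S (hgd d₂ hd₂))),
        ← commutatorElement_inv, comm_Z_left (hDS hd₂) (hgd d₂ hd₂) (hDS hd₁), commutatorElement_inv]
    exact (mul_inv_eq_iff_eq_mul.1 e3).symm
  have cU : ∀ k, ⁅D.lowerCentralSeries (k + 1), U'⁆ = ⊥ := fun k => le_bot_iff.1
    (Subgroup.commutator_le.2 fun x hx u hu => Subgroup.mem_bot.2 (commutatorElement_eq_one_iff_mul_comm.2
      (fix u (hUS hu) (fun d hd' => rUQ u hu d hd'.1) x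
        (D.lowerCentralSeries_antitone (Nat.le_add_left 1 k) hx)).symm))
  have cW : ∀ k, ⁅D.lowerCentralSeries (k + 1), W⁆ = ⊥ := fun k => le_bot_iff.1
    (Subgroup.commutator_le.2 fun x hx w hw => Subgroup.mem_bot.2 (commutatorElement_eq_one_iff_mul_comm.2
      (fix w (hWS hw) (fun d hd' => flip (rQW d hd'.2 w hw)) x
        (D.lowerCentralSeries_antitone (Nat.le_add_left 1 k) hx)).symm))
  have cZ : ∀ X : Subgroup G, X ≤ c.TT → ⁅c.Z, X⁆ = ⊥ := fun X hX => le_bot_iff.1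
    (Subgroup.commutator_le.2 fun z hz x hx => Subgroup.mem_bot.2
      (commutatorElement_eq_one_iff_mul_comm.2 (hz.2.2 x (hX hx)).symm))
  have cI : ⁅I, U'⁆ ≤ c.Z ∧ ⁅I, D⁆ ≤ c.Z ∧ ⁅I, W⁆ ≤ c.Z :=
    ⟨Subgroup.commutator_le.2 fun x hx u hu => flip (rUQ u hu x (hID hx).1),
      Subgroup.commutator_le.2 fun x hx d hd' => rUQ x hx.1 d hd'.1,
      Subgroup.commutator_le.2 fun x hx w hw => rQW x (hID hx).2 w hw⟩
  have nUDW : ∀ M : Subgroup G, ⁅M, U'⁆ ≤ M → ⁅M, D⁆ ≤ M → ⁅M, W⁆ ≤ M →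
      U' ≤ Subgroup.normalizer (M : Set G) ∧ D ≤ Subgroup.normalizer (M : Set G) ∧
        W ≤ Subgroup.normalizer (M : Set G) := fun M h1 h2 h3 =>
    ⟨Subgroup.le_normalizer_iff_commutator_le_left.2 h1, Subgroup.le_normalizer_iff_commutator_le_left.2 h2,
      Subgroup.le_normalizer_iff_commutator_le_left.2 h3⟩
  have step : ∀ (A M : Subgroup G), U' ≤ Subgroup.normalizer (M : Set G) →
      D ≤ Subgroup.normalizer (M : Set G) → W ≤ Subgroup.normalizer (M : Set G) →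
      ⁅A, U'⁆ ≤ M → ⁅A, D⁆ ≤ M → ⁅A, W⁆ ≤ M → ⁅A, U' ⊔ D ⊔ W⁆ ≤ M := by
    intro A M nU nD nW h1 h2 h3
    rw [Subgroup.commutator_comm] at h1 h2 h3 ⊢
    exact comm_sup_le (sup_le nU nD) nW (comm_sup_le nU nD h1 h2) h3
  -- the first step
  set M1 := D.lowerCentralSeries 1 ⊔ I with hM1
  have sM1 : D.lowerCentralSeries 1 ≤ Subgroup.normalizer (M1 : Set G) ∧ I ≤ Subgroup.normalizer (M1 : Set G) :=
    ⟨le_sup_left.trans Subgroup.le_normalizer, le_sup_right.trans Subgroup.le_normalizer⟩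
  obtain ⟨n1U, n1D, n1W⟩ := nUDW M1
    (comm_sup_le sM1.1 sM1.2 ((cU 0).le.trans bot_le) (cI.1.trans (hZI.trans le_sup_right)))
    (comm_sup_le sM1.1 sM1.2 ((D.lowerCentralSeries_antitone (Nat.le_succ 1)).trans le_sup_left)
      (cI.2.1.trans (hZI.trans le_sup_right)))
    (comm_sup_le sM1.1 sM1.2 ((cW 0).le.trans bot_le) (cI.2.2.trans (hZI.trans le_sup_right)))
  have hZM1 : c.Z ≤ M1 := hZI.trans le_sup_right
  have h1 : c.TT.lowerCentralSeries 1 ≤ M1 := by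
    refine (Subgroup.commutator_mono hgen hgen).trans ?_
    refine comm_sup_le (sup_le n1U n1D) n1W (comm_sup_le n1U n1D ?_ ?_) ?_
    · refine step _ _ n1U n1D n1W ?_ ?_ ?_
      · exact Subgroup.commutator_le.2 fun u hu v hv => hZM1 (rUQ u hu v (Two.Un_le_Q hd hd' T hv))
      · exact Subgroup.commutator_le.2 fun u hu d hd' => hZM1 (rUQ u hu d hd'.1)
      · exact Subgroup.commutator_le.2 fun u hu w hw => Subgroup.mem_sup_right (Two.comm_UW hd hd' T hp2 hu hw)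
    · refine step _ _ n1U n1D n1W ?_ ?_ ?_
      · exact Subgroup.commutator_le.2 fun d hd' u hu => hZM1 (flip (rUQ u hu d hd'.1))
      · exact le_sup_left
      · exact Subgroup.commutator_le.2 fun d hd' w hw => hZM1 (rQW d hd'.2 w hw)
    · refine step _ _ n1U n1D n1W ?_ ?_ ?_
      · exact Subgroup.commutator_le.2 fun w hw u hu =>
          flip (Subgroup.mem_sup_right (Two.comm_UW hd hd' T hp2 hu hw))
      · exact Subgroup.commutator_le.2 fun w hw d hd' => hZM1 (flip (rQW d hd'.2 w hw))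
      · exact Subgroup.commutator_le.2 fun w hw v hv => hZM1 (rQW w (Two.Unimg_le hd hd' T hw) v hv)
  -- the second step
  set M2 := D.lowerCentralSeries 2 ⊔ c.Z with hM2
  have sM2 : D.lowerCentralSeries 2 ≤ Subgroup.normalizer (M2 : Set G) ∧ c.Z ≤ Subgroup.normalizer (M2 : Set G) :=
    ⟨le_sup_left.trans Subgroup.le_normalizer, le_sup_right.trans Subgroup.le_normalizer⟩
  obtain ⟨n2U, n2D, n2W⟩ := nUDW M2
    (comm_sup_le sM2.1 sM2.2 ((cU 1).le.trans bot_le) ((cZ _ hUS).le.trans bot_le))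
    (comm_sup_le sM2.1 sM2.2 ((D.lowerCentralSeries_antitone (Nat.le_succ 2)).trans le_sup_left)
      ((cZ _ hDS).le.trans bot_le))
    (comm_sup_le sM2.1 sM2.2 ((cW 1).le.trans bot_le) ((cZ _ hWS).le.trans bot_le))
  have h2 : c.TT.lowerCentralSeries 2 ≤ M2 := by
    refine (Subgroup.commutator_mono h1 hgen).trans (comm_sup_le
      ((D.lowerCentralSeries_antitone (Nat.zero_le 1)).trans n2D) (inf_le_left.trans n2U) ?_ ?_)
    · exact step _ _ n2U n2D n2W ((cU 0).le.trans bot_le) le_sup_left ((cW 0).le.trans bot_le)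
    · exact step _ _ n2U n2D n2W (cI.1.trans le_sup_right) (cI.2.1.trans le_sup_right)
        (cI.2.2.trans le_sup_right)
  -- the third step
  obtain ⟨n3U, n3D, n3W⟩ := nUDW (D.lowerCentralSeries 3) ((cU 2).le.trans bot_le)
    (D.lowerCentralSeries_antitone (Nat.le_succ 3)) ((cW 2).le.trans bot_le)
  refine lcs_eq_bot hN (le_trans ?_ (lcs_mono (inf_le_left : D ≤ Qc) 3))
  refine (Subgroup.commutator_mono h2 hgen).trans (comm_sup_le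
    ((D.lowerCentralSeries_antitone (Nat.zero_le 2)).trans n3D) ((hZI.trans inf_le_left).trans n3U) ?_ ?_)
  · exact step _ _ n3U n3D n3W ((cU 1).le.trans bot_le) le_rfl ((cW 1).le.trans bot_le)
  · exact step _ _ n3U n3D n3W ((cZ _ hUS).le.trans bot_le) ((cZ _ hDS).le.trans bot_le)
      ((cZ _ hWS).le.trans bot_le)

theorem Two.exponent_nine (hN : c.NoChar) (h3 : p = 3) : Monoid.exponent ↥c.TT = 9 := by
  subst h3
  have hUp := Two.Un_pow hd hd' T hp2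
  have hWp : ∀ w ∈ img φ (Un φ.symm), w ^ 3 = 1 := fun w hw => img_pow (Two.Un_pow hd' hd T.symm hp2) hw
  have hall : ∀ s ∈ c.TT, s ^ 9 = 1 := pow_eq_one hN fun s hs => by
    obtain ⟨w, hw, q, hq, rfl⟩ := Two.cover hd hd' T hs
    obtain ⟨y, hy⟩ := T.crit
    obtain ⟨a, ha, r, hrQ, hr, rfl⟩ := Crit.decomp_Q hd hd' T hy hq
    have haU := Crit.le_Un hd hd' T hy ha
    have haS := Crit.le_S hd hd' T hy ha
    refine ⟨r, hrQ, ?_⟩
    have hz : ⁅r, w * a⁆ ∈ c.Z := by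
      have hk := c.C₀_le_Z (inv_mem (Two.comm_UQ hd hd' T haU hrQ))
      rw [commutatorElement_inv] at hk
      rw [show ⁅r, w * a⁆ = ⁅r, w⁆ * (w * ⁅r, a⁆ * w⁻¹) by simp only [commutatorElement_def]; group,
        Z_fix hk (img_le_S hw)]
      exact mul_mem (Kimg_le_Z (Two.comm_Qimg hd hd' T hr hw)) hk
    have hU3 : (w * a) ^ 3 ∈ Un φ := by
      have hn := (inferInstance : (Un φ).Normal).conj_mem a haU
      rw [show (w * a) ^ 3 = (w * a) * (w * a) * (w * a) by simp only [pow_succ, pow_zero, one_mul],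
        show (w * a) * (w * a) * (w * a) =
          w ^ 3 * (((w * w)⁻¹ * a * ((w * w)⁻¹)⁻¹) * (w⁻¹ * a * (w⁻¹)⁻¹) * a) by group,
        hWp w hw, one_mul]
      exact mul_mem (mul_mem (hn _) (hn _)) haU
    rw [← mul_assoc, mul_pow_comm (u := r) (v := w * a) (z := ⁅r, w * a⁆) (by rw [commutatorElement_def]; group)
      (hz.2.2 r (c.Q_le_S hrQ)).symm (hz.2.2 (w * a) (mul_mem (img_le_S hw) haS)).symm 9,
      show Nat.choose 9 2 = 3 * 12 from rfl, pow_mul, hz.2.1, one_pow, one_mul,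
      show (w * a) ^ 9 = ((w * a) ^ 3) ^ 3 by group, hUp _ hU3, one_mul]
  have hdvd : Monoid.exponent ↥c.TT ∣ 3 ^ 2 := Monoid.exponent_dvd_of_forall_pow_eq_one (G := ↥c.TT)
    fun s => Subtype.ext (hall s s.2)
  obtain ⟨i, hi, he⟩ := (Nat.dvd_prime_pow Nat.prime_three).1 hdvd
  by_contra hne
  have hi2 : i ≤ 1 := by
    by_contra h
    refine hne (he.trans ?_)
    rw [show i = 2 by omega]; rfl
  obtain ⟨a, ha, w, hw, a', ha'U, haS, ha'S, hnc⟩ := Two.exists_witness hd hd' T hp2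
  refine hnc ?_
  have hwS : w ∈ c.TT := img_le_S hw
  have hcube : ∀ s ∈ c.TT, s ^ 3 = 1 := fun s hs => congrArg Subtype.val
    (Monoid.exponent_dvd_iff_forall_pow_eq_one.1 (he ▸ pow_dvd_pow 3 hi2 : Monoid.exponent ↥c.TT ∣ 3 ^ 1) ⟨s, hs⟩)
  -- linearize `[[a, w], w] = 1`
  have hk := Two.comm_UU hd hd' T ha ha'U
  have hX := Two.comm_US hd hd' T hp2 ha hwS
  have h1 := engel_of_cube hcube haS (mul_mem hwS ha'S)
  rw [show ⁅a, w * a'⁆ = ⁅a, w⁆ * (w * ⁅a, a'⁆ * w⁻¹) by simp only [commutatorElement_def]; group,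
    Z_fix (c.C₀_le_Z hk) hwS, comm_Z_left (Two.D_le_S hd hd' T hp2 hX) (c.C₀_le_Z hk) (mul_mem hwS ha'S),
    Two.hom_right hd hd' T hp2 hX hwS ha'S, engel_of_cube hcube haS hwS, one_mul] at h1
  rw [h1]
  exact one_mem _

theorem Two.factors : ∃ U₁ W₁ U₂ W₂ : Subgroup G, W₁ ≤ U₁ ∧ U₁ ≤ W₂ ∧ W₂ ≤ U₂ ∧ U₂ ≤ Qc ∧
    Cfsg.IsChiefFactor U₁ W₁ ∧ Cfsg.IsChiefFactor U₂ W₂ ∧ ¬ ⁅U₁, (⊤ : Subgroup G)⁆ ≤ W₁ ∧
    ¬ ⁅U₂, (⊤ : Subgroup G)⁆ ≤ W₂ ∧ (∃ k : ℕ, Cfsg.iterCommutator W₁ ⊤ k = ⊥) ∧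
    (∃ k : ℕ, Cfsg.iterCommutator W₂ ⊤ k ≤ U₁) ∧ ∃ k : ℕ, Cfsg.iterCommutator Qc ⊤ k ≤ U₂ := by
  have key : ∀ {N U₀ : Subgroup G} [N.Normal] [U₀.Normal], c.IsSec N U₀ →
      Cfsg.IsChiefFactor U₀ (fixG N U₀) ∧ ¬ ⁅U₀, (⊤ : Subgroup G)⁆ ≤ fixG N U₀ := by
    intro N U₀ _ _ h
    obtain ⟨t, ht, htQ⟩ := c.exists_out
    obtain ⟨u, hu, huD⟩ : ∃ u ∈ U₀, u ∉ c.fixS N U₀ := by
      refine SetLike.not_le_iff_exists.1 fun hle => ?_
      have h1 := h.D_index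
      rw [Subgroup.relIndex_eq_one.2 hle] at h1
      exact (Nat.one_lt_pow (by have := c.hn; omega) hp.out.one_lt).ne h1
    refine ⟨⟨lt_of_le_not_ge (h.C_le_D.trans h.D_le) fun hge => huD (h.C_le_D (hge hu)), inferInstance,
      inferInstance, fun M hM hWM hMU => ?_⟩, fun hle => h.comm_not_mem ht htQ hu huD
        (hle (Subgroup.commutator_mem_commutator hu (Subgroup.mem_top t)))⟩
    haveI := hM
    by_cases hle : M ≤ fixG N U₀
    · exact Or.inl (le_antisymm hle hWM)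
    · exact Or.inr (le_antisymm hMU ((h.irreducible hMU hle).trans (sup_le le_rfl hWM)))
  obtain ⟨h1, h1'⟩ := key (c.secV hd)
  obtain ⟨h2, h2'⟩ := key (Two.isSec hd hd' T hp2)
  refine ⟨c.V, fixG ⊥ c.V, Un φ, fixG c.V (Un φ), h1.1.le, (Two.isSec hd hd' T hp2).N_le_C, h2.1.le,
    Two.Un_le_Q hd hd' T, h1, h2, h1', h2', ⟨1, le_bot_iff.1 ?_⟩, ⟨1, ?_⟩,
    iter_le (Two.R_sup hd hd' T) (Two.R_le hd hd' T)⟩
  · exact Subgroup.commutator_le.2 fun x hx g _ => (mem_fixG.1 hx).2 g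
  · exact Subgroup.commutator_le.2 fun x hx g _ => (mem_fixG.1 hx).2 g

end Sit

end Cfsg.Agent.Lib.PushUpP
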