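import Cfsg.Agent.Lib.PushUpP.Basic

/-!
Properties of the sections with small fixed points, stated in the group itself.
-/

set_option autoImplicit false
set_option linter.unusedSectionVars false
set_option linter.style.haveILetI false

open scoped commutatorElement

namespace Cfsg.Agent.Lib.PushUpP.Sit

open Cfsg.Agent.Lib.LAEven57.PushingUp

variable {G : Type*} [Group G] [Finite G] {p : ℕ} [hp : Fact p.Prime] {F : Type} [Field F] [Fintype F]
variable {c : Sit G p F}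

local notation "Qc" => Cfsg.pCore p G

/-- The preimage of the fixed points of `G` on `U / N`. -/
def fixG (N U₀ : Subgroup G) [N.Normal] : Subgroup G :=
  U₀ ⊓ (Subgroup.center (G ⧸ N)).comap (QuotientGroup.mk' N)

theorem mem_fixG {N U₀ : Subgroup G} [N.Normal] {u : G} :
    u ∈ fixG N U₀ ↔ u ∈ U₀ ∧ ∀ g : G, ⁅u, g⁆ ∈ N := by
  rw [fixG, Subgroup.mem_inf, Subgroup.mem_comap, Subgroup.mem_center_iff]
  refine and_congr_right fun _ => ⟨fun h g => ?_, fun h x => ?_⟩
  · rw [← QuotientGroup.eq_one_iff]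
    show QuotientGroup.mk' N ⁅u, g⁆ = 1
    rw [map_commutatorElement, commutatorElement_eq_one_iff_mul_comm]
    exact (h _).symm
  · obtain ⟨g, rfl⟩ := QuotientGroup.mk'_surjective N x
    refine (commutatorElement_eq_one_iff_mul_comm.1 ?_).symm
    rw [← map_commutatorElement]
    exact (QuotientGroup.eq_one_iff _).2 (h g)

instance fixG_normal (N U₀ : Subgroup G) [N.Normal] [U₀.Normal] : (fixG N U₀).Normal := by
  haveI : ((Subgroup.center (G ⧸ N)).comap (QuotientGroup.mk' N)).Normal :=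
    Subgroup.Normal.comap inferInstance _
  rw [fixG]; infer_instance

variable {N U₀ : Subgroup G} [N.Normal] [U₀.Normal] (h : c.IsSec N U₀)
include h

theorem IsSec.comap_map : (U₀.map (QuotientGroup.mk' N)).comap (QuotientGroup.mk' N) = U₀ :=
  Subgroup.comap_map_eq_self (by rw [QuotientGroup.ker_mk']; exact h.le)

theorem IsSec.comap_D : h.toMod.D.comap (QuotientGroup.mk' N) = c.fixS N U₀ := by
  show (U₀.map (QuotientGroup.mk' N) ⊓ _).comap _ = _
  rw [Subgroup.comap_inf, h.comap_map]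
  rfl

theorem IsSec.comap_C : h.toMod.C.comap (QuotientGroup.mk' N) = fixG N U₀ := by
  show (U₀.map (QuotientGroup.mk' N) ⊓ _).comap _ = _
  rw [Subgroup.comap_inf, h.comap_map]
  rfl

theorem IsSec.comap_cj (x : G) (K : Subgroup (G ⧸ N)) :
    (cj (QuotientGroup.mk' N x) K).comap (QuotientGroup.mk' N) = cj x (K.comap (QuotientGroup.mk' N)) := by
  ext a
  simp only [Subgroup.mem_comap, mem_cj, map_mul, map_inv]

theorem IsSec.fix_eq {t : G} (ht : t ∈ c.TT) (htQ : t ∉ Qc) {u : G} (hu : u ∈ U₀) (hc : ⁅u, t⁆ ∈ N) :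
    u ∈ c.fixS N U₀ := by
  rw [← h.comap_D]
  refine h.toMod.fix_eq (t := QuotientGroup.mk' N t) (Subgroup.mem_map_of_mem _ ht)
    (fun h1 => htQ ((c.mem_Q ht).2 h1)) (Subgroup.mem_map_of_mem _ hu) ?_
  refine (commutatorElement_eq_one_iff_mul_comm.1 ?_).symm
  rw [← map_commutatorElement]
  exact (QuotientGroup.eq_one_iff _).2 hc

theorem IsSec.comm_mem {u s : G} (hu : u ∈ U₀) (hs : s ∈ c.TT) : ⁅u, s⁆ ∈ c.fixS N U₀ := by
  rw [← h.comap_D, Subgroup.mem_comap, map_commutatorElement]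
  exact h.toMod.comm_mem (Subgroup.mem_map_of_mem _ hu) (Subgroup.mem_map_of_mem _ hs)

theorem IsSec.comm_not_mem {t : G} (ht : t ∈ c.TT) (htQ : t ∉ Qc) {u : G} (hu : u ∈ U₀)
    (huD : u ∉ c.fixS N U₀) : ⁅u, t⁆ ∉ fixG N U₀ := by
  rw [← h.comap_C, Subgroup.mem_comap, map_commutatorElement]
  rw [← h.comap_D] at huD
  exact h.toMod.comm_not_mem (Subgroup.mem_map_of_mem _ ht) (fun h1 => htQ ((c.mem_Q ht).2 h1))
    (Subgroup.mem_map_of_mem _ hu) huD

theorem IsSec.D_index : (c.fixS N U₀).relIndex U₀ = p ^ c.n := by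
  rw [← h.comap_D, Subgroup.relIndex_comap]
  exact h.toMod.D_index

theorem IsSec.C_le_D : fixG N U₀ ≤ c.fixS N U₀ := by
  rw [← h.comap_C, ← h.comap_D]
  exact Subgroup.comap_mono h.toMod.C_le_D

theorem IsSec.D_le : c.fixS N U₀ ≤ U₀ := inf_le_left

theorem IsSec.N_le_C : N ≤ fixG N U₀ := fun z hz => mem_fixG.2 ⟨h.le hz, fun g => by
  rw [commutatorElement_def, mul_assoc, mul_assoc]
  refine mul_mem hz ?_
  rw [← mul_assoc]
  exact (inferInstance : N.Normal).conj_mem _ (inv_mem hz) g⟩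

theorem IsSec.C_index : (fixG N U₀).relIndex (c.fixS N U₀) = p ^ c.n := by
  obtain ⟨x, hx⟩ := c.exists_notB
  rw [← h.comap_C, ← h.comap_D, Subgroup.relIndex_comap,
    Subgroup.map_comap_eq_self_of_surjective (QuotientGroup.mk'_surjective _)]
  exact h.toMod.C_index (x := QuotientGroup.mk' N x) hx

variable {x : G}

theorem IsSec.D_inf (hx : ¬ c.InB x) : c.fixS N U₀ ⊓ cj x (c.fixS N U₀) = fixG N U₀ := by
  rw [← h.comap_C, ← h.comap_D, ← h.comap_cj, ← Subgroup.comap_inf]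
  exact congrArg _ (h.toMod.D_inf (x := QuotientGroup.mk' N x) hx)

theorem IsSec.sup_eq (hx : ¬ c.InB x) : c.fixS N U₀ ⊔ cj x (c.fixS N U₀) = U₀ := by
  rw [← h.comap_D, ← h.comap_cj, Subgroup.comap_sup_eq _ _ _ (QuotientGroup.mk'_surjective _)]
  conv_rhs => rw [← h.comap_map]
  exact congrArg _ (h.toMod.sup_eq (x := QuotientGroup.mk' N x) hx)

theorem IsSec.cj_D (hx : c.InB x) : cj x (c.fixS N U₀) = c.fixS N U₀ := by
  obtain ⟨y, hy⟩ := c.exists_notB
  rw [← h.comap_D, ← h.comap_cj]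
  exact congrArg _ (h.toMod.cj_D_eq (x := QuotientGroup.mk' N y) hy (y := QuotientGroup.mk' N x) hx)

theorem IsSec.cj_D_iff : cj x (c.fixS N U₀) = c.fixS N U₀ ↔ c.InB x := by
  refine ⟨fun he => by_contra fun hx => ?_, h.cj_D⟩
  have h1 := h.D_inf hx
  rw [he, inf_idem] at h1
  have h2 := h.C_index
  rw [← h1, Subgroup.relIndex_self] at h2
  exact (Nat.one_lt_pow (by have := c.hn; omega) hp.out.one_lt).ne h2

theorem IsSec.comm_ker {k s : G} (hk : k ∈ c.π.ker) (hs : s ∈ c.TT) : ⁅k, s⁆ ∈ secKer N U₀ := by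
  obtain ⟨y, hy⟩ := c.exists_notB
  rw [secKer, Subgroup.mem_comap, map_commutatorElement]
  exact h.toMod.comm_ker (x := QuotientGroup.mk' N y) hy hk (Subgroup.mem_map_of_mem _ hs)

theorem IsSec.irreducible {W : Subgroup G} [W.Normal] (hW : W ≤ U₀) (hWC : ¬ W ≤ fixG N U₀) :
    U₀ ≤ W ⊔ fixG N U₀ := by
  obtain ⟨y, hy⟩ := c.exists_notB
  haveI : (W.map (QuotientGroup.mk' N)).Normal :=
    Subgroup.Normal.map inferInstance _ (QuotientGroup.mk'_surjective _)
  have h1 := h.toMod.irreducible (x := QuotientGroup.mk' N y) hy (Subgroup.map_mono hW) fun hle => hWC ?_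
  · intro u hu
    have h2 : QuotientGroup.mk' N u ∈ W.map (QuotientGroup.mk' N) ⊔ h.toMod.C :=
      h1 (Subgroup.mem_map_of_mem _ hu)
    rw [← Subgroup.map_comap_eq_self_of_surjective (QuotientGroup.mk'_surjective N) h.toMod.C, h.comap_C,
      ← Subgroup.map_sup] at h2
    obtain ⟨w, hw, hwu⟩ := h2
    have h3 : w⁻¹ * u ∈ N := QuotientGroup.eq.1 hwu
    rw [show u = w * (w⁻¹ * u) by group]
    exact mul_mem hw (Subgroup.mem_sup_right (h.N_le_C h3))
  · intro w hw
    rw [← h.comap_C]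
    exact hle (Subgroup.mem_map_of_mem _ hw)

/-- Every element of the fixed points is a commutator modulo the centre. -/
theorem IsSec.comm_surj {u : G} (hu : u ∈ U₀) (huD : u ∉ c.fixS N U₀) {d : G} (hd : d ∈ c.fixS N U₀) :
    ∃ a ∈ c.TT, ⁅u, a⁆⁻¹ * d ∈ fixG N U₀ := by
  obtain ⟨y, hy⟩ := c.exists_notB
  rw [← h.comap_D] at huD hd
  obtain ⟨_, ⟨a, ha, rfl⟩, hz⟩ := h.toMod.comm_surj (x := QuotientGroup.mk' N y) hy
    (Subgroup.mem_map_of_mem _ hu) huD hd
  refine ⟨a, ha, ?_⟩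
  rw [← h.comap_C, Subgroup.mem_comap, map_mul, map_inv, map_commutatorElement]
  exact hz

end Cfsg.Agent.Lib.PushUpP.Sit
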