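import Cfsg.Agent.Lib.PushUpP.Two

/-!
The two configurations.
-/

set_option autoImplicit false
set_option linter.unusedSectionVars false
set_option linter.style.haveILetI false

open scoped commutatorElement

namespace Cfsg.Agent.Lib.PushUpP

namespace Fam

variable {Γ : Type*} [Group Γ] {p : ℕ} [hp : Fact p.Prime] {ι : Type*} {F : Fam Γ p ι}

theorem same_iff' (i : ι) (a b : Γ) : Same p (cj a F.T) (cj b F.T) ↔ cj a (F.D i).Z = cj b (F.D i).Z := by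
  rw [← F.hT i, Data.same_iff]

/-- The moves of a normalizer element at critical distance two. -/
theorem exists_move (P₀ : F.Path 2) (hF : F.Far 2) : ∃ n ∈ F.N, ∃ i j,
    (∃ y ∈ (F.D i).X, cj y (F.D i).Z ≠ (F.D i).Z ∧ ¬ cj (y * n) (F.D j).V ≤ cj n (F.D j).Q) ∧
      ∃ z ∈ (F.D j).X, cj z (F.D j).Z ≠ (F.D j).Z ∧ ¬ cj (z * n⁻¹) (F.D i).V ≤ cj n⁻¹ (F.D i).Q := by
  obtain ⟨P, hadj, hcrit, htr⟩ := exists_chain P₀ hF le_rfl 2
  obtain ⟨hn, x, hx, x', hx', h2, hE1⟩ := hadj 1 (by omega)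
  obtain ⟨hne0, y, hy, hyf, hyE⟩ := htr 0 (by omega)
  obtain ⟨hne1, w, hw, hwf, hwE⟩ := htr 1 (by omega)
  set i := (P.f 1).2 with hi
  set j := (P.f (1 + 1)).2 with hj
  set g := (P.f 1).1
  set n := P.off 1
  set q := g * x with hq
  have h2' : (P.f 2).1 = q * n * x' := h2
  have hE1' : P.E 1 = cj q F.T := hE1
  have hZn : ∀ k : ι, ∀ m ∈ F.N, cj m (F.D k).Z = (F.D k).Z := fun k m hm =>
    (F.D k).cj_Z (by rw [F.N_eq]; exact hm)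
  have hgq : ∀ u ∈ F.XX (P.f 1), q⁻¹ * u * q ∈ (F.D i).X := fun u hu => by
    have h := (F.D i).X.mul_mem ((F.D i).X.mul_mem ((F.D i).X.inv_mem hx) (mem_cj.1 hu)) hx
    simp only [mul_assoc, hq, mul_inv_rev] at h ⊢
    exact h
  have hj0 : (P.f 0).2 = j := hyf.1
  have hi3 : (P.f 3).2 = i := hwf.1.symm
  refine ⟨n, hn, i, j, ⟨q⁻¹ * y * q, hgq y hy, fun he => hne0 ?_, fun hle => hcrit 0 (by omega) ?_⟩, ?_⟩
  · rw [← hyE, hE1', ← cj_mul, same_iff' i, show y * q = q * (q⁻¹ * y * q) by group, cj_mul q, he]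
  · show cj (P.f 0).1 (F.D (P.f 0).2).V ≤ cj (P.f (0 + 2)).1 (F.D (P.f (0 + 2)).2).Q
    rw [hj0, show (P.f (0 + 2)).2 = j from rfl, show (P.f (0 + 2)).1 = q * n * x' from h2']
    rw [← (Data.sameX (D := F.D j) (g := (P.f 0).1) (h := q * (q⁻¹ * y * q * n)) ?_).1,
      (Data.cj_mulX (D := F.D j) _ hx').2.1, cj_mul q (q⁻¹ * y * q * n), cj_mul q n]
    · exact cj_mono _ hle
    · have h := (F.D j).X.mul_mem (hj0 ▸ hyf.2) ((F.D j).X.inv_mem hx')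
      rw [show (P.f 0).1⁻¹ * (q * (q⁻¹ * y * q * n)) = (P.f 0).1⁻¹ * (y * (P.f (0 + 2)).1) * x'⁻¹ by
        rw [show (P.f (0 + 2)).1 = q * n * x' from h2']; group]
      exact h
  · have hw' : (q * n)⁻¹ * w * (q * n) ∈ (F.D j).X := by
      have h : x' * ((P.f (1 + 1)).1⁻¹ * w * (P.f (1 + 1)).1) * x'⁻¹ ∈ (F.D j).X :=
        (F.D j).X.mul_mem ((F.D j).X.mul_mem hx' (mem_cj.1 hw)) ((F.D j).X.inv_mem hx')
      rw [show (P.f (1 + 1)).1 = q * n * x' from h2'] at h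
      simpa [mul_assoc] using h
    set z := (q * n)⁻¹ * w * (q * n) with hz
    refine ⟨z, hw', fun he => hne1 ?_, fun hle => hcrit 1 (by omega) ?_⟩
    · have hE2 : P.E 2 = cj w⁻¹ (cj q F.T) := by rw [← hE1', ← hwE, cj_inv_cancel]
      rw [show (1 + 1 : ℕ) = 2 from rfl, hE2, hE1', ← cj_mul, same_iff' j]
      have he' : cj (n * z * n⁻¹) (F.D j).Z = (F.D j).Z := by
        rw [cj_mul, cj_mul, hZn j _ (F.N.inv_mem hn), he, hZn j _ hn]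
      rw [show w⁻¹ * q = q * (n * z * n⁻¹)⁻¹ by rw [hz]; group, cj_mul q (n * z * n⁻¹)⁻¹]
      conv_rhs => rw [← he', cj_inv_cancel]
    · show cj g (F.D i).V ≤ cj (P.f (1 + 2)).1 (F.D (P.f (1 + 2)).2).Q
      rw [show (P.f (1 + 2)).2 = i from hi3]
      have hg : cj g (F.D i).V = cj (q * 1) (F.D i).V := by rw [mul_one, hq, (Data.cj_mulX g hx).1]
      have h3 : (q * (n * z⁻¹ * n⁻¹))⁻¹ * (P.f (1 + 2)).1 ∈ (F.D i).X := by
        have h := (F.D i).X.mul_mem ((F.D i).X.inv_mem hx) hwf.2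
        rw [show (q * (n * z⁻¹ * n⁻¹))⁻¹ * (P.f (1 + 2)).1 = x⁻¹ * (g⁻¹ * (w * (P.f (1 + 2)).1)) by
          rw [hz, hq]; group]
        exact h
      rw [hg, (Data.sameX (D := F.D i) h3).2.1, cj_mul q 1, cj_mul q]
      refine cj_mono q ((cj_le_cj (g := z * n⁻¹)).1 (hle.trans_eq ?_) |>.trans_eq' ?_)
      · rw [← cj_mul]
        congr 1
        group
      · rw [cj_one]

end Fam

namespace Sit

open Cfsg.Agent.Lib.LAEven57.PushingUp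

variable {G : Type*} [Group G] [Finite G] {p : ℕ} [hp : Fact p.Prime] {F : Type} [Field F] [Fintype F]
variable {c : Sit G p F}
variable {G' : Type*} [Group G'] [Finite G'] {F' : Type} [Field F'] [Fintype F'] {c' : Sit G' p F'}

local notation "Qc" => Cfsg.pCore p G
local notation "Qc'" => Cfsg.pCore p G'

theorem exists_aut {Γ : Type*} [Group Γ] {f : G →* Γ} {f' : G' →* Γ} (hf : Function.Injective f)
    (hf' : Function.Injective f') (hT : c'.TT.map f' = c.TT.map f) {n : Γ}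
    (hn : n ∈ Subgroup.normalizer ((c.TT.map f : Subgroup Γ) : Set Γ)) :
    ∃ φ : ↥c'.TT ≃* ↥c.TT, (∀ A : Subgroup G', A ≤ c'.TT → (img φ A).map f = cj n (A.map f')) ∧
      ∀ B : Subgroup G, B ≤ c.TT → (img φ.symm B).map f' = cj n⁻¹ (B.map f) := by
  have hex : ∀ s : ↥c'.TT, ∃ s' : ↥c.TT, f s' = n * f' s * n⁻¹ := fun s => by
    obtain ⟨s', hs', e⟩ := (Subgroup.mem_normalizer_iff.1 hn (f' s)).1 (hT ▸ ⟨s, s.2, rfl⟩)
    exact ⟨⟨s', hs'⟩, e⟩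
  choose g hg using hex
  have hinj : Function.Injective g := fun a b h => by
    have h1 := hg a
    rw [h, hg b] at h1
    exact Subtype.ext (hf' (mul_left_cancel (mul_right_cancel h1)).symm)
  have hsur : Function.Surjective g := fun s => by
    have h1 : n⁻¹ * f s * n ∈ c.TT.map f := (Subgroup.mem_normalizer_iff''.1 hn (f s)).1 ⟨s, s.2, rfl⟩
    rw [← hT] at h1
    obtain ⟨a, ha, he⟩ := h1
    exact ⟨⟨a, ha⟩, Subtype.ext (hf (by rw [hg]; show n * f' a * n⁻¹ = f s; rw [he]; group))⟩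
  have hmul : ∀ a b, g (a * b) = g a * g b := fun a b => Subtype.ext (hf (by
    rw [hg, Subgroup.coe_mul, Subgroup.coe_mul, map_mul, map_mul, hg, hg]; group))
  let φ : ↥c'.TT ≃* ↥c.TT := MulEquiv.ofBijective (MonoidHom.mk' g hmul) ⟨hinj, hsur⟩
  have hφ : ∀ a, f (φ a : ↥c.TT) = n * f' a * n⁻¹ := hg
  have hφ' : ∀ a, f' (φ.symm a : ↥c'.TT) = n⁻¹ * f a * n := fun a => by
    have h := hφ (φ.symm a)
    rw [φ.apply_symm_apply] at h
    rw [h]; group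
  refine ⟨φ, fun A hA => ?_, fun A hA => ?_⟩
  · ext x
    rw [mem_cj]
    constructor
    · rintro ⟨_, hu, rfl⟩
      obtain ⟨a, ha, rfl⟩ := mem_img.1 hu
      exact ⟨a, ha, by rw [hφ]; group⟩
    · rintro ⟨a, ha, e⟩
      refine ⟨_, (apply_mem_img ⟨a, hA ha⟩).2 ha, ?_⟩
      rw [hφ, show f' a = n⁻¹ * x * n from e]; group
  · ext x
    rw [mem_cj]
    constructor
    · rintro ⟨_, hu, rfl⟩
      obtain ⟨a, ha, rfl⟩ := mem_img.1 hu
      exact ⟨a, ha, by rw [hφ']; group⟩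
    · rintro ⟨a, ha, e⟩
      refine ⟨_, (apply_mem_img (φ := φ.symm) ⟨a, hA ha⟩).2 ha, ?_⟩
      rw [hφ', show f a = n⁻¹⁻¹ * x * n⁻¹ from e]; group

theorem exists_two_of (hd : c.Good) (hd' : c'.Good) {Γ : Type*} [Group Γ] {f : G →* Γ} {f' : G' →* Γ}
    (hf : Function.Injective f) (hf' : Function.Injective f') (hT : c'.TT.map f' = c.TT.map f) {n : Γ}
    (hn : n ∈ Subgroup.normalizer ((c.TT.map f : Subgroup Γ) : Set Γ))
    (hle : cj n (c'.V.map f') ≤ (Qc).map f) (hle' : cj n⁻¹ (c.V.map f) ≤ (Qc').map f')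
    (hy : ∃ y ∈ f.range, cj y (c.Z.map f) ≠ c.Z.map f ∧ ¬ cj (y * n) (c'.V.map f') ≤ cj n ((Qc').map f'))
    (hz : ∃ z ∈ f'.range, cj z (c'.Z.map f') ≠ c'.Z.map f' ∧ ¬ cj (z * n⁻¹) (c.V.map f) ≤ cj n⁻¹ ((Qc).map f)) :
    ∃ φ : ↥c'.TT ≃* ↥c.TT, c.Two φ := by
  obtain ⟨φ, h1, h2⟩ := exists_aut hf hf' hT hn
  obtain ⟨_, ⟨y, rfl⟩, hyne, hy⟩ := hy
  obtain ⟨_, ⟨z, rfl⟩, hzne, hz⟩ := hz
  refine ⟨φ, (Subgroup.map_le_map_iff_of_injective hf).1 ((h1 _ c'.V_le_S).trans_le hle),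
    (Subgroup.map_le_map_iff_of_injective hf').1 ((h2 _ c.V_le_S).trans_le hle'),
    ⟨y, fun hb => hyne ?_, fun hle => hy ?_⟩, ⟨z, fun hb => hzne ?_, fun hle => hz ?_⟩⟩
  · rw [← cj_map, (c.cj_Z_iff hd).2 hb]
  · rw [cj_mul, ← h1 _ c'.V_le_S, ← h1 _ c'.Q_le_S, ← cj_map]
    exact Subgroup.map_mono hle
  · rw [← cj_map, (c'.cj_Z_iff hd').2 hb]
  · rw [cj_mul, ← h2 _ c.V_le_S, ← h2 _ c.Q_le_S, ← cj_map]
    exact Subgroup.map_mono hle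

section Family

variable {ι : Type*} [Nonempty ι] {Gs : ι → Type*} [∀ i, Group (Gs i)] [∀ i, Finite (Gs i)]
  {Fs : ι → Type} [∀ i, Field (Fs i)] [∀ i, Fintype (Fs i)] {cs : ∀ i, Sit (Gs i) p (Fs i)}

/-- No conjugate of a `V` outside a `Q`: two groups in the second configuration, and `p` is odd. -/
theorem exists_two_fam (hd : ∀ i, (cs i).Good) {Γ : Type*} [Group Γ] {f : ∀ i, Gs i →* Γ}
    (hf : ∀ i, Function.Injective (f i)) (Φ : Fam Γ p ι)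
    (hD : ∀ i, Φ.D i = (cs i).toData (hd i) (f i) (hf i))
    (hall : ∀ n ∈ Φ.N, ∀ i j, cj n (Φ.D j).V ≤ (Φ.D i).Q) :
    p ≠ 2 ∧ ∃ (i j : ι) (φ : ↥(cs j).TT ≃* ↥(cs i).TT), (cs i).Two φ := by
  obtain ⟨⟨P⟩, hF⟩ := (Fam.one_or_two (F := Φ)).resolve_left
    fun ⟨n, hn, i, j, h⟩ => h (hall n hn i j)
  refine ⟨fun h2 => Fam.false_of_two h2 P hF, ?_⟩
  obtain ⟨n, hn, i, j, hy, hz⟩ := Fam.exists_move P hF
  have h1 := hall n hn i j
  have h2 := hall n⁻¹ (Φ.N.inv_mem hn) j i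
  rw [hD i, hD j] at hy hz h1 h2
  have hTi : (cs i).TT.map (f i) = Φ.T := by rw [← Φ.hT i, hD i]; rfl
  have hTj : (cs j).TT.map (f j) = Φ.T := by rw [← Φ.hT j, hD j]; rfl
  exact ⟨i, j, exists_two_of (hd i) (hd j) (hf i) (hf j) (hTj.trans hTi.symm) (hTi.symm ▸ hn) h1 h2 hy hz⟩

theorem cases_fam (hd : ∀ i, (cs i).Good) {Γ : Type*} [Group Γ] {f : ∀ i, Gs i →* Γ}
    (hf : ∀ i, Function.Injective (f i)) (Φ : Fam Γ p ι)
    (hD : ∀ i, Φ.D i = (cs i).toData (hd i) (f i) (hf i)) :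
    (∃ (i : ι) (U D₀ : Subgroup (Gs i)), (cs i).One U D₀) ∨
      (p ≠ 2 ∧ ∃ (i j : ι) (φ : ↥(cs j).TT ≃* ↥(cs i).TT), (cs i).Two φ) := by
  rcases em (∃ n ∈ Φ.N, ∃ i j, ¬ cj n (Φ.D j).V ≤ (Φ.D i).Q) with ⟨n, hn, i, j, hnot⟩ | hall
  · rw [hD i, hD j] at hnot
    have hTi : (cs i).TT.map (f i) = Φ.T := by rw [← Φ.hT i, hD i]; rfl
    have hTj : (cs j).TT.map (f j) = Φ.T := by rw [← Φ.hT j, hD j]; rfl
    obtain ⟨U, D₀, h, -⟩ := exists_one (hd i) (hd j) (hf i) (hf j) (hTj.trans hTi.symm) (hTi.symm ▸ hn) hnot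
    exact Or.inl ⟨i, U, D₀, h⟩
  · push Not at hall
    exact Or.inr (exists_two_fam hd hf Φ hD hall)

end Family

theorem exists_two (hd : c.Good) {Γ : Type*} [Group Γ] (o : c.Over Γ)
    (hall : ∀ n ∈ (o.toFam hd).N, cj n (c.V.map o.ι) ≤ (Qc).map o.ι) :
    p ≠ 2 ∧ ∃ φ : ↥c.TT ≃* ↥c.TT, c.Two φ := by
  obtain ⟨h, -, -, φ, T⟩ := exists_two_fam (cs := fun _ : Unit => c) (fun _ => hd) (fun _ => o.inj) (o.toFam hd)
    (fun _ => rfl) fun n hn _ _ => hall n hn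
  exact ⟨h, φ, T⟩

theorem cases_one_two (hd : c.Good) {Γ : Type*} [Group Γ] (o : c.Over Γ) :
    (∃ U D₀ : Subgroup G, c.One U D₀) ∨ (p ≠ 2 ∧ ∃ φ : ↥c.TT ≃* ↥c.TT, c.Two φ) := by
  rcases cases_fam (cs := fun _ : Unit => c) (fun _ => hd) (fun _ => o.inj) (o.toFam hd) (fun _ => rfl) with
    ⟨-, U, D₀, h⟩ | ⟨h, -, -, φ, T⟩
  · exact Or.inl ⟨U, D₀, h⟩
  · exact Or.inr ⟨h, φ, T⟩

end Sit

end Cfsg.Agent.Lib.PushUpP
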