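import Cfsg.Agent.Lib.PushUpP.Img

/-!
Critical distance two: `U = ⟨B^G⟩` for the neighbour `B` gives a second section with small fixed points.
-/

set_option autoImplicit false
set_option linter.unusedSectionVars false
set_option linter.style.haveILetI false

open scoped commutatorElement

namespace Cfsg.Agent.Lib.PushUpP.Sit

open Cfsg.Agent.Lib.LAEven57.PushingUp

variable {G : Type*} [Group G] [Finite G] {p : ℕ} [hp : Fact p.Prime] {F : Type} [Field F] [Fintype F]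
variable {c : Sit G p F}
variable {G' : Type*} [Group G'] [Finite G'] {F' : Type} [Field F'] [Fintype F'] {c' : Sit G' p F'}

local notation "Qc" => Cfsg.pCore p G
local notation "Qc'" => Cfsg.pCore p G'

/-- The neighbour `φ V` is moved by `y` outside `φ Q`. -/
def Crit (φ : ↥c'.TT ≃* ↥c.TT) (y : G) : Prop := ¬ c.InB y ∧ ¬ cj y (img φ c'.V) ≤ img φ Qc'

/-- The situation at critical distance two, seen from the middle vertex. -/
structure Two (φ : ↥c'.TT ≃* ↥c.TT) : Prop where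
  le : img φ c'.V ≤ Qc
  le' : img φ.symm c.V ≤ Qc'
  crit : ∃ y, c.Crit φ y
  crit' : ∃ y, c'.Crit φ.symm y

variable {φ : ↥c'.TT ≃* ↥c.TT}

theorem Two.symm (T : c.Two φ) : c'.Two φ.symm :=
  ⟨T.le', by rw [MulEquiv.symm_symm]; exact T.le, T.crit', by rw [MulEquiv.symm_symm]; exact T.crit⟩

/-- `⟨(φ V)^G⟩`. -/
def Un (φ : ↥c'.TT ≃* ↥c.TT) : Subgroup G := Subgroup.normalClosure (img φ c'.V : Set G)

instance Un_normal (φ : ↥c'.TT ≃* ↥c.TT) : (Un φ).Normal := Subgroup.normalClosure_normal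

theorem B_le_Un : img φ c'.V ≤ Un φ := Subgroup.le_normalClosure

theorem C₀_central {k : G} (hk : k ∈ c.C₀) (g : G) : g * k = k * g := Subgroup.mem_center_iff.1 hk.2 g

theorem C₀_le_Q : c.C₀ ≤ Qc := inf_le_left.trans c.V_le_Q

theorem Z_le_B : c.Z ≤ img φ c'.V := (img_Z φ).ge.trans (img_mono c'.Z_le_V)

theorem V_le_Un : c.V ≤ Un φ :=
  Subgroup.normalClosure_le_normal fun _ hz => B_le_Un (Z_le_B hz)

theorem Kimg_le_Z : img φ c'.C₀ ≤ c.Z := (img_mono c'.C₀_le_Z).trans (img_Z φ).le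

theorem V_le_imgQ (T : c.Two φ) : c.V ≤ img φ Qc' := fun v hv => by
  obtain ⟨a, ha⟩ := exists_pre (φ := φ) (c.V_le_S hv)
  rw [← ha, apply_mem_img]
  refine T.le' (mem_img.2 ⟨φ a, by rw [ha]; exact hv, ?_⟩)
  rw [φ.symm_apply_apply]

variable (hd : c.Good) (hd' : c'.Good) (T : c.Two φ) {y : G} (hy : c.Crit φ y)
include hd hd' T hy

theorem Crit.le_Q : cj y (img φ c'.V) ≤ Qc := (cj_mono y T.le).trans (cj_eq_of_normal y _).le

theorem Crit.le_S : cj y (img φ c'.V) ≤ c.TT := (Crit.le_Q hd hd' T hy).trans c.Q_le_S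

theorem Crit.conj_le_S {b : G} (hb : b ∈ img φ c'.V) : y⁻¹ * b * y ∈ c.TT :=
  c.Q_le_S (by simpa using (inferInstance : (Qc).Normal).conj_mem b (T.le hb) y⁻¹)

theorem Crit.not_le : ¬ img φ c'.V ≤ cj y (img φ Qc') := fun hle => hy.2 fun a ha =>
  mem_img_Q hd' (Crit.le_S hd hd' T hy ha) fun b hb => by
    have h := img_comm (φ := φ) (fun _ ha' _ hv => c'.Q_cent ha' hv) (mem_cj.1 (hle hb)) (mem_cj.1 ha)
    exact ((Data.comm_cj y b a).1 h).symm

theorem Crit.inv : c.Crit φ y⁻¹ := by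
  refine ⟨fun h => hy.1 ?_, fun hle => Crit.not_le hd hd' T hy fun b hb => mem_cj.2 (hle (mem_cj.2 ?_))⟩
  · have h1 := inv_mem h
    rwa [← map_inv, inv_inv] at h1
  · simpa [mul_assoc] using hb

theorem Crit.inf_le {v : G} (hv : v ∈ cj y (img φ c'.V)) (hvQ : v ∈ img φ Qc') : v ∈ cj y c.Z := by
  obtain ⟨b, hb, hbQ⟩ := SetLike.not_le_iff_exists.1 (Crit.not_le hd hd' T hy)
  refine mem_cj.2 (img_fix hd' (t := y⁻¹ * b * y) (Crit.conj_le_S hd hd' T hy hb)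
    (fun h => hbQ (mem_cj.2 h)) (mem_cj.1 hv) ((Data.comm_cj y b v).2 ?_))
  exact (img_comm (φ := φ) (fun _ ha' _ hv' => c'.Q_cent ha' hv') hvQ hb).symm

theorem Crit.relIndex_A : (img φ Qc').relIndex (cj y (img φ c'.V)) = p ^ c'.n := by
  have e : img φ Qc' ⊓ cj y (img φ c'.V) = cj y c.Z := le_antisymm
    (fun v hv => Crit.inf_le hd hd' T hy hv.2 hv.1)
    (le_inf ((cj_mono y c.Z_le_V).trans ((cj_eq_of_normal y c.V).le.trans (V_le_imgQ T)))
      (cj_mono y Z_le_B))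
  rw [← Subgroup.inf_relIndex_right, e, relIndex_cj, ← img_Z φ, relIndex_img c'.Z_le_S c'.V_le_S,
    c'.relIndex_ZV hd']

theorem Crit.decomp {s : G} (hs : s ∈ c.TT) : ∃ a ∈ cj y (img φ c'.V), ∃ r ∈ img φ Qc', s = a * r := by
  have hsup : cj y (img φ c'.V) ⊔ img φ Qc' = c.TT := by
    refine le_antisymm (sup_le (Crit.le_S hd hd' T hy) img_le_S) (Subgroup.relIndex_eq_one.1 ?_)
    have h1 : (img φ Qc').relIndex c.TT = p ^ c'.n := by
      have h := relIndex_img (φ := φ) c'.Q_le_S (le_refl c'.TT)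
      rwa [img_top, c'.relIndex_Q] at h
    have h2 : (img φ Qc').relIndex (cj y (img φ c'.V)) ≤
        (img φ Qc').relIndex (cj y (img φ c'.V) ⊔ img φ Qc') :=
      Subgroup.relIndex_le_of_le_right le_sup_left Subgroup.index_ne_zero_of_finite
    have h := Subgroup.relIndex_mul_relIndex (img φ Qc') (cj y (img φ c'.V) ⊔ img φ Qc') c.TT le_sup_right
      (sup_le (Crit.le_S hd hd' T hy) img_le_S)
    rw [h1] at h
    rw [Crit.relIndex_A hd hd' T hy] at h2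
    have hpos : 0 < (cj y (img φ c'.V) ⊔ img φ Qc').relIndex c.TT :=
      Nat.pos_of_ne_zero Subgroup.index_ne_zero_of_finite
    have hppos : 0 < p ^ c'.n := pow_pos hp.out.pos c'.n
    nlinarith
  rw [← hsup, ← SetLike.mem_coe, Subgroup.coe_mul_of_left_le_normalizer_right _ _
    ((Crit.le_S hd hd' T hy).trans S_le_normalizer_img)] at hs
  obtain ⟨a, ha, r, hr, e⟩ := hs
  exact ⟨a, ha, r, hr, e.symm⟩

theorem Crit.comm_AB {a b : G} (ha : a ∈ cj y (img φ c'.V)) (hb : b ∈ img φ c'.V) : ⁅b, a⁆ ∈ c.C₀ := by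
  rw [← c.Z_inf hd hy.1]
  refine ⟨img_comm_mem hd' (Crit.le_S hd hd' T hy ha) hb, mem_cj.2 ?_⟩
  have h := img_comm_mem hd' (Crit.conj_le_S hd hd' T hy hb) (mem_cj.1 ha)
  rw [Data.comm_base, ← commutatorElement_inv]
  exact inv_mem h

omit hy in
theorem Two.comm_BS {b s : G} (hb : b ∈ img φ c'.V) (hs : s ∈ c.TT) : ⁅b, s⁆ ∈ c.C₀ := by
  obtain ⟨y, hy⟩ := T.crit
  obtain ⟨a, ha, r, hr, rfl⟩ := Crit.decomp hd hd' T hy hs
  have e : ⁅b, r⁆ = 1 := commutatorElement_eq_one_iff_mul_comm.2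
    (img_comm (φ := φ) (fun _ ha' _ hv => c'.Q_cent ha' hv) hr hb).symm
  rw [show ⁅b, a * r⁆ = ⁅b, a⁆ * (a * ⁅b, r⁆ * a⁻¹) by simp only [commutatorElement_def]; group, e, mul_one,
    mul_inv_cancel, mul_one]
  exact Crit.comm_AB hd hd' T hy ha hb

omit hy in
theorem Two.Un_le_Q : Un φ ≤ Qc := Subgroup.normalClosure_le_normal T.le

omit hy in
theorem Two.Un_le_secKer : Un φ ≤ secKer c.C₀ Qc :=
  Subgroup.normalClosure_le_normal fun b hb => mem_secKer.2 fun q hq => by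
    rw [← commutatorElement_inv]
    exact inv_mem (Two.comm_BS hd hd' T hb (c.Q_le_S hq))

omit hy in
theorem Two.comm_UQ {u q : G} (hu : u ∈ Un φ) (hq : q ∈ Qc) : ⁅u, q⁆ ∈ c.C₀ := by
  rw [← commutatorElement_inv]
  exact inv_mem (mem_secKer.1 (Two.Un_le_secKer hd hd' T hu) q hq)

omit hy in
theorem Two.comm_UU {u v : G} (hu : u ∈ Un φ) (hv : v ∈ Un φ) : ⁅u, v⁆ ∈ c.C₀ :=
  Two.comm_UQ hd hd' T hu (Two.Un_le_Q hd hd' T hv)

omit hy in
theorem Two.Un_pow (hp2 : p ≠ 2) : ∀ u ∈ Un φ, u ^ p = 1 := by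
  obtain ⟨m, hm⟩ := hp.out.dvd_choose_self (k := 2) two_ne_zero (lt_of_le_of_ne hp.out.two_le (Ne.symm hp2))
  let M : Subgroup G :=
    { carrier := {u | u ∈ Un φ ∧ u ^ p = 1}
      one_mem' := ⟨one_mem _, one_pow p⟩
      mul_mem' := fun {a b} ha hb => ⟨mul_mem ha.1 hb.1, by
        have hz := Two.comm_UU hd hd' T hb.1 ha.1
        rw [mul_pow_comm (z := ⁅b, a⁆) (by rw [commutatorElement_def]; group) (C₀_central hz b).symm
          (C₀_central hz a).symm p, ha.2, hb.2, hm, pow_mul, c.V_pow hz.1, one_pow, one_mul, one_mul]⟩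
      inv_mem' := fun {a} ha => ⟨inv_mem ha.1, by rw [inv_pow, ha.2, inv_one]⟩ }
  haveI : M.Normal := ⟨fun a ha g =>
    ⟨(inferInstance : (Un φ).Normal).conj_mem a ha.1 g, by rw [conj_pow, ha.2, mul_one, mul_inv_cancel]⟩⟩
  have h : Un φ ≤ M := Subgroup.normalClosure_le_normal fun b hb =>
    ⟨B_le_Un hb, img_pow (fun a ha => c'.V_pow ha) hb⟩
  exact fun u hu => (h hu).2

theorem Crit.le_Un : cj y (img φ c'.V) ≤ Un φ := (cj_mono y B_le_Un).trans (cj_eq_of_normal y _).le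

theorem Crit.decomp_Q {q : G} (hq : q ∈ Qc) : ∃ a ∈ cj y (img φ c'.V), ∃ r ∈ Qc, r ∈ img φ Qc' ∧ q = a * r := by
  obtain ⟨a, ha, r, hr, rfl⟩ := Crit.decomp hd hd' T hy (c.Q_le_S hq)
  exact ⟨a, ha, r, by simpa using mul_mem (inv_mem (Crit.le_Q hd hd' T hy ha)) hq, hr, rfl⟩

omit hy in
/-- `φ ⟨(φ⁻¹ V)^G⟩`, the subgroup `U` of the neighbour, covers `S / Q`. -/
theorem Two.cover {s : G} (hs : s ∈ c.TT) : ∃ w ∈ img φ (Un φ.symm), ∃ q ∈ Qc, s = w * q := by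
  obtain ⟨y', hy'⟩ := T.crit'
  obtain ⟨b, hb⟩ := exists_pre (φ := φ) hs
  obtain ⟨a, ha, r, hr, hbr⟩ := Crit.decomp hd' hd T.symm hy' b.2
  have haS := Crit.le_S hd' hd T.symm hy' ha
  obtain ⟨r', hr', hre⟩ := mem_img.1 hr
  refine ⟨_, (apply_mem_img (φ := φ) ⟨a, haS⟩).2 (Crit.le_Un hd' hd T.symm hy' ha), (r' : G), hr', ?_⟩
  rw [← hb, show b = ⟨a, haS⟩ * φ.symm r' from Subtype.ext (by rw [hbr, Subgroup.coe_mul, hre]), map_mul,
    φ.apply_symm_apply]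
  rfl

omit hy in
theorem Two.comm_Qimg {r w : G} (hr : r ∈ img φ Qc') (hw : w ∈ img φ (Un φ.symm)) : ⁅r, w⁆ ∈ img φ c'.C₀ :=
  img_comm_le (fun _ ha _ hb => mem_secKer.1 (Two.Un_le_secKer hd' hd T.symm hb) _ ha) hr hw

omit hy in
theorem Two.Unimg_le : img φ (Un φ.symm) ≤ img φ Qc' := img_mono (Two.Un_le_Q hd' hd T.symm)

omit hy in
theorem Two.inf_le_fixS : Un φ ⊓ img φ Qc' ≤ c.fixS c.V (Un φ) := fun r hr => by
  refine c.mem_fixS.2 ⟨hr.1, fun s hs => ?_⟩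
  obtain ⟨w, hw, q, hq, rfl⟩ := Two.cover hd hd' T hs
  rw [show ⁅r, w * q⁆ = ⁅r, w⁆ * (w * ⁅r, q⁆ * w⁻¹) by simp only [commutatorElement_def]; group]
  exact mul_mem (c.Z_le_V (Kimg_le_Z (Two.comm_Qimg hd hd' T hr.2 hw)))
    (c.V_normal.conj_mem _ (Two.comm_UQ hd hd' T hr.1 hq).1 w)

omit hy in
theorem Two.relIndex_imgQ : (img φ Qc').relIndex c.TT = p ^ c'.n := by
  have h := relIndex_img (φ := φ) c'.Q_le_S (le_refl c'.TT)
  rwa [img_top, c'.relIndex_Q] at h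

omit hy in
theorem Two.faithful : secKer c.V (Un φ) ≤ c.π.ker := by
  obtain ⟨y, hy⟩ := T.crit
  refine c.secKer_le (A := img φ c'.V) (fun b hb => c.mem_fixS.2
    ⟨B_le_Un hb, fun s hs => (Two.comm_BS hd hd' T hb hs).1⟩) fun hn => hy.2 fun a ha => ?_
  refine mem_img_Q hd' (Crit.le_S hd hd' T hy ha) fun b hb => ?_
  have h1 : a ∈ img φ c'.V ⊔ c.V := by
    refine ((cj_eq_of_normal y (img φ c'.V ⊔ c.V) (hH := hn)).le) ?_
    exact cj_mono y le_sup_left ha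
  have hle : img φ c'.V ⊔ c.V ≤ Subgroup.centralizer ({b} : Set G) := sup_le
    (fun x hx => Subgroup.mem_centralizer_singleton_iff.2
      (img_comm (φ := φ) (fun _ hu _ hv => c'.V_comm hu hv) hx hb))
    (fun x hx => Subgroup.mem_centralizer_singleton_iff.2 (c.Q_cent (T.le hb) hx).symm)
  exact Subgroup.mem_centralizer_singleton_iff.1 (hle h1)

omit hy in
/-- The bound on centralizers in `U / V` gives `q ≤ q'`. -/
theorem Two.n_le (hp2 : p ≠ 2) : p ^ c.n ≤ p ^ c'.n := by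
  obtain ⟨t, ht, htQ⟩ := c.exists_out
  have hker : c.V ≤ c.π.ker := (c.V_le_Q).trans c.Q_le_ker
  set f := QuotientGroup.mk' c.V
  haveI : ((Un φ).map f).Normal := Subgroup.Normal.map inferInstance _ (QuotientGroup.mk'_surjective _)
  have hel : Cfsg.IsElementaryAbelian p ((Un φ).map f) := by
    refine ⟨⟨⟨fun x y => ?_⟩⟩, ?_⟩
    · obtain ⟨u, hu, hux⟩ := x.2
      obtain ⟨w, hw, hwy⟩ := y.2
      apply Subtype.ext
      show (x : G ⧸ c.V) * y = y * x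
      rw [← hux, ← hwy, ← commutatorElement_eq_one_iff_mul_comm, ← map_commutatorElement]
      exact (QuotientGroup.eq_one_iff _).2 (Two.comm_UU hd hd' T hu hw).1
    · rintro _ ⟨u, hu, rfl⟩
      rw [← map_pow, Two.Un_pow hd hd' T hp2 u hu, map_one]
  have hsur : Function.Surjective (QuotientGroup.lift c.V c.π hker) := fun x =>
    (c.surj x).elim fun y hy => ⟨f y, hy⟩
  have hC : Subgroup.centralizer (((Un φ).map f : Subgroup (G ⧸ c.V)) : Set (G ⧸ c.V)) ≤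
      (QuotientGroup.lift c.V c.π hker).ker := by
    intro x hx
    obtain ⟨y', rfl⟩ := QuotientGroup.mk'_surjective c.V x
    exact Two.faithful hd hd' T hx
  have hap : ∃ k, f t ^ p ^ k = 1 := by
    obtain ⟨k, hk⟩ := (show IsPGroup p ↥c.TT from c.S.isPGroup') ⟨t, ht⟩
    exact ⟨k, by rw [← map_pow, show t ^ p ^ k = 1 from congrArg Subtype.val hk, map_one]⟩
  refine (bound hel _ hsur hC c.hF (a := f t) (fun h => htQ ((c.mem_Q ht).2 h)) hap).trans ?_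
  rw [← Subgroup.relIndex_comap]
  refine (Subgroup.relIndex_le_of_le_left (fun u hu => ?_) Subgroup.index_ne_zero_of_finite).trans
    ((Subgroup.inf_relIndex_left (Un φ) (img φ Qc')).trans_le (le_of_le_of_eq
      (Subgroup.relIndex_le_of_le_right ((Two.Un_le_Q hd hd' T).trans c.Q_le_S) Subgroup.index_ne_zero_of_finite)
      (Two.relIndex_imgQ hd hd' T)))
  refine ⟨Subgroup.mem_map_of_mem f hu.1, Subgroup.mem_centralizer_singleton_iff.2 ?_⟩
  rw [← commutatorElement_eq_one_iff_mul_comm, ← map_commutatorElement]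
  exact (QuotientGroup.eq_one_iff _).2 ((c.mem_fixS.1 (Two.inf_le_fixS hd hd' T hu)).2 t ht)

omit hy in
theorem Two.n_eq (hp2 : p ≠ 2) : p ^ c'.n = p ^ c.n :=
  le_antisymm (Two.n_le hd' hd T.symm hp2) (Two.n_le hd hd' T hp2)

omit hy in
theorem Two.isSec (hp2 : p ≠ 2) : c.IsSec c.V (Un φ) where
  le := V_le_Un
  le_Q := Two.Un_le_Q hd hd' T
  comm u hu v hv := (Two.comm_UU hd hd' T hu hv).1
  pow u hu := by rw [Two.Un_pow hd hd' T hp2 u hu]; exact one_mem _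
  cent q hq := mem_secKer.2 fun u hu => (Two.comm_UQ hd hd' T hu hq).1
  faithful := Two.faithful hd hd' T
  small := by
    refine (Subgroup.relIndex_le_of_le_left (Two.inf_le_fixS hd hd' T) Subgroup.index_ne_zero_of_finite).trans ?_
    rw [Subgroup.inf_relIndex_left, ← Two.n_eq hd hd' T hp2, ← Two.relIndex_imgQ hd hd' T]
    exact Subgroup.relIndex_le_of_le_right ((Two.Un_le_Q hd hd' T).trans c.Q_le_S) Subgroup.index_ne_zero_of_finite

omit hy in
theorem Two.fixS_le (hp2 : p ≠ 2) : c.fixS c.V (Un φ) ≤ img φ Qc' := by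
  obtain ⟨y, hy⟩ := T.crit
  have h1 : p ^ c.n ≤ (Un φ ⊓ img φ Qc').relIndex (Un φ) := by
    rw [Subgroup.inf_relIndex_left, ← Two.n_eq hd hd' T hp2, ← Crit.relIndex_A hd hd' T hy]
    exact Subgroup.relIndex_le_of_le_right (Crit.le_Un hd hd' T hy) Subgroup.index_ne_zero_of_finite
  have h := Subgroup.relIndex_mul_relIndex (Un φ ⊓ img φ Qc') (c.fixS c.V (Un φ)) (Un φ)
    (Two.inf_le_fixS hd hd' T) (Two.isSec hd hd' T hp2).D_le
  rw [(Two.isSec hd hd' T hp2).D_index] at h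
  have h2 : (Un φ ⊓ img φ Qc').relIndex (Un φ) ≤ p ^ c.n := by
    rw [Subgroup.inf_relIndex_left, ← Two.n_eq hd hd' T hp2, ← Two.relIndex_imgQ hd hd' T]
    exact Subgroup.relIndex_le_of_le_right ((Two.Un_le_Q hd hd' T).trans c.Q_le_S) Subgroup.index_ne_zero_of_finite
  have hpos : 0 < (Un φ ⊓ img φ Qc').relIndex (c.fixS c.V (Un φ)) :=
    Nat.pos_of_ne_zero Subgroup.index_ne_zero_of_finite
  have h3 : (Un φ ⊓ img φ Qc').relIndex (c.fixS c.V (Un φ)) = 1 := by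
    have hppos : 0 < p ^ c.n := pow_pos hp.out.pos c.n
    nlinarith
  exact (Subgroup.relIndex_eq_one.1 h3).trans inf_le_right

omit hy in
/-- The fixed points of `G` on `U / V` centralize `U`. -/
theorem Two.fixG_cent (hp2 : p ≠ 2) {x u : G} (hx : x ∈ fixG c.V (Un φ)) (hu : u ∈ Un φ) : x * u = u * x := by
  have hle : Un φ ≤ Subgroup.centralizer (fixG c.V (Un φ) : Set G) := by
    refine Subgroup.normalClosure_le_normal fun b hb => Subgroup.mem_centralizer_iff.2 fun z hz => ?_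
    exact img_comm (φ := φ) (fun _ ha' _ hv => c'.Q_cent ha' hv)
      (Two.fixS_le hd hd' T hp2 ((Two.isSec hd hd' T hp2).C_le_D hz)) hb
  exact Subgroup.mem_centralizer_iff.1 (hle hu) x hx

theorem Crit.U_le_secKer {w : G} (hw : w ∈ img φ (Un φ.symm)) : w ∈ secKer (Un φ) Qc := by
  refine mem_secKer.2 fun q hq => ?_
  obtain ⟨a, ha, r, hrQ, hr, rfl⟩ := Crit.decomp_Q hd hd' T hy hq
  rw [show ⁅a * r, w⁆ = a * ⁅r, w⁆ * a⁻¹ * (a * (w * a⁻¹ * w⁻¹)) by simp only [commutatorElement_def]; group]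
  have haU := Crit.le_Un hd hd' T hy ha
  exact mul_mem (mul_mem (mul_mem haU (V_le_Un (c.Z_le_V (Kimg_le_Z (Two.comm_Qimg hd hd' T hr hw))))) (inv_mem haU))
    (mul_mem haU ((inferInstance : (Un φ).Normal).conj_mem _ (inv_mem haU) w))

omit hy in
theorem Two.R_le : Subgroup.normalClosure (img φ (Un φ.symm) : Set G) ≤ secKer (Un φ) Qc := by
  obtain ⟨y, hy⟩ := T.crit
  exact Subgroup.normalClosure_le_normal fun w hw => Crit.U_le_secKer hd hd' T hy hw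

omit hy in
theorem Two.R_sup : Subgroup.normalClosure (img φ (Un φ.symm) : Set G) ⊔ Qc = ⊤ := by
  set R := Subgroup.normalClosure (img φ (Un φ.symm) : Set G)
  have hle : c.TT ≤ R ⊔ Qc := fun s hs => by
    obtain ⟨w, hw, q, hq, rfl⟩ := Two.cover hd hd' T hs
    exact Subgroup.mul_mem_sup (Subgroup.le_normalClosure hw) hq
  have hn : ¬ R ≤ c.π.ker := fun h => by
    obtain ⟨t, ht, htQ⟩ := c.exists_out
    obtain ⟨w, hw, q, hq, rfl⟩ := Two.cover hd hd' T ht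
    refine htQ (mul_mem ?_ hq)
    rw [← c.ker_inf]
    exact ⟨img_le_S hw, h (Subgroup.le_normalClosure hw)⟩
  rw [eq_top_iff, ← c.normal_sup R Subgroup.normalClosure_normal hn]
  exact sup_le le_sup_left hle

omit hy in
theorem Two.hK (hp2 : p ≠ 2) : ∀ k ∈ c.π.ker, ∀ s ∈ c.TT, ⁅k, s⁆ ∈ Qc := by
  intro k hk
  have hw' : ∀ w ∈ img φ (Un φ.symm), ⁅k, w⁆ ∈ Qc := by
    intro w hw
    have hw1 : w ∈ secKer (Un φ) Qc := Two.R_le hd hd' T (Subgroup.le_normalClosure hw)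
    have hy1 : ⁅k, w⁆ ∈ secKer (Un φ) Qc := by
      rw [commutatorElement_def]
      exact mul_mem ((inferInstance : (secKer (Un φ) Qc).Normal).conj_mem w hw1 k) (inv_mem hw1)
    have hy2 : ⁅k, w⁆ ∈ secKer (⊥ : Subgroup G) c.V := (c.secV hd).comm_ker hk (img_le_S hw)
    rw [secKer_bot] at hy2
    have hy3 : ⁅k, w⁆ ∈ secKer c.V (Un φ) := (Two.isSec hd hd' T hp2).comm_ker hk (img_le_S hw)
    have hyk : ⁅k, w⁆ ∈ c.π.ker := by
      rw [show ⁅k, w⁆ = k * (w * k⁻¹ * w⁻¹) by rw [commutatorElement_def]; group]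
      exact mul_mem hk ((inferInstance : c.π.ker.Normal).conj_mem _ (inv_mem hk) w)
    refine mem_Q_of_coprime_part hyk fun z hz hzc => cent_step (Two.Un_le_Q hd hd' T) hzc
      (cent_step c.V_le_Q hzc (Subgroup.zpowers_le.2 hy2 hz) (Subgroup.zpowers_le.2 hy3 hz)) ?_
    exact Subgroup.zpowers_le.2 hy1 hz
  intro s hs
  obtain ⟨w, hw, q, hq, rfl⟩ := Two.cover hd hd' T hs
  rw [show ⁅k, w * q⁆ = ⁅k, w⁆ * (w * ⁅k, q⁆ * w⁻¹) by simp only [commutatorElement_def]; group]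
  refine mul_mem (hw' w hw) ((inferInstance : (Qc).Normal).conj_mem _ ?_ w)
  rw [commutatorElement_def]
  exact mul_mem ((inferInstance : (Qc).Normal).conj_mem q hq k) (inv_mem hq)

omit hy in
theorem Two.natural (hp2 : p ≠ 2) (U' W' : Subgroup G) [W'.Normal] (hU : U' ≤ Qc)
    (hch : Cfsg.IsChiefFactor U' W') (hne : ¬ ⁅U', (⊤ : Subgroup G)⁆ ≤ W') :
    Cfsg.IsNaturalSL2Module F (U'.map (QuotientGroup.mk' W')) (⊤ : Subgroup (G ⧸ W')) := by
  have hK := Two.hK hd hd' T hp2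
  obtain ⟨nc₁⟩ := exists_natCoord hK (c.secV hd)
  obtain ⟨nc₂⟩ := exists_natCoord hK (Two.isSec hd hd' T hp2)
  have h0 : ¬ U' ≤ (U' ⊓ (⊥ : Subgroup G)) ⊔ W' := by
    rw [inf_bot_eq, bot_sup_eq]
    exact hch.1.not_ge
  by_cases h1 : U' ≤ (U' ⊓ fixG ⊥ c.V) ⊔ W'
  · exact absurd ((chief_step (c := c) hch hU h1 h0).1 ⊤ (top_sup_eq _) fun g _ => mem_secKer.2 fun u hu =>
      (mem_fixG.1 hu).2 g) hne
  by_cases h2 : U' ≤ (U' ⊓ c.V) ⊔ W'
  · exact (chief_step (c := c) hch hU h2 h1).2 rfl (c.secV hd) nc₁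
  by_cases h3 : U' ≤ (U' ⊓ fixG c.V (Un φ)) ⊔ W'
  · exact absurd ((chief_step (c := c) hch hU h3 h2).1 ⊤ (top_sup_eq _) fun g _ => mem_secKer.2 fun u hu =>
      (mem_fixG.1 hu).2 g) hne
  by_cases h4 : U' ≤ (U' ⊓ Un φ) ⊔ W'
  · exact (chief_step (c := c) hch hU h4 h3).2 rfl (Two.isSec hd hd' T hp2) nc₂
  · refine absurd ((chief_step (c := c) hch hU (M := Qc) ?_ h4).1 _ (Two.R_sup hd hd' T) (Two.R_le hd hd' T)) hne
    rw [inf_eq_left.2 hU]; exact le_sup_left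

end Cfsg.Agent.Lib.PushUpP.Sit
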