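import Cfsg.Agent.Lib.PushUpP.Final
import Cfsg.Prelude.Def_PLocal
import Mathlib.Algebra.Group.Pi.Lemmas
import Mathlib.GroupTheory.Complement

/-!
All pushing-up groups over one `p`-group at once: a common characteristic abelian subgroup.
-/

set_option autoImplicit false
set_option linter.unusedSectionVars false
set_option linter.style.haveILetI false

open scoped commutatorElement

namespace Cfsg.Agent.Lib.PushUpP

universe u

/-- The central elements of exponent `p`. -/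
def omZ (p : ℕ) (S : Type*) [Group S] : Subgroup S where
  carrier := {z | z ∈ Subgroup.center S ∧ z ^ p = 1}
  one_mem' := ⟨one_mem _, one_pow p⟩
  mul_mem' := fun {a b} ha hb => ⟨mul_mem ha.1 hb.1, by
    rw [(show Commute a b from Subgroup.mem_center_iff.1 hb.1 a).mul_pow, ha.2, hb.2, one_mul]⟩
  inv_mem' := fun {a} ha => ⟨inv_mem ha.1, by rw [inv_pow, ha.2, inv_one]⟩

theorem omZ_le_center (p : ℕ) (S : Type*) [Group S] : omZ p S ≤ Subgroup.center S := fun _ h => h.1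

/-- Left translation of the first coordinate. -/
def rho (S : Type*) [Group S] (m : ℕ) : S →* Equiv.Perm (S × Fin m) where
  toFun s := (Equiv.mulLeft s).prodCongr (Equiv.refl _)
  map_one' := by ext ⟨a, b⟩ <;> simp
  map_mul' s t := by ext ⟨a, b⟩ <;> simp [mul_assoc]

theorem rho_apply {S : Type*} [Group S] {m : ℕ} (s : S) (x : S × Fin m) : rho S m s x = (s * x.1, x.2) := rfl

/-- Groups with a common subgroup `S`, embedded in one symmetric group, with one image of `S`. -/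
theorem exists_overgroup {S : Type*} [Group S] [Finite S] {ι : Type*} [Finite ι] [Nonempty ι] {G : ι → Type*}
    [∀ i, Group (G i)] [∀ i, Finite (G i)] (τ : ∀ i, S →* G i) (hτ : ∀ i, Function.Injective (τ i)) :
    ∃ (m : ℕ) (f : ∀ i, G i →* Equiv.Perm (S × Fin m)), 0 < m ∧
      ∀ i, Function.Injective (f i) ∧ ∀ s, f i (τ i s) = rho S m s := by
  classical
  obtain ⟨i₀⟩ := ‹Nonempty ι›
  set P := ∀ i, G i with hP
  haveI : Finite P := Pi.finite
  set m := Nat.card P / Nat.card S with hm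
  have hSP : Nat.card S ≤ Nat.card P := Nat.card_le_card_of_injective
    ((MonoidHom.mulSingle G i₀).comp (τ i₀)) ((Pi.mulSingle_injective i₀).comp (hτ i₀))
  have hm0 : 0 < m := Nat.div_pos hSP Nat.card_pos
  have key : ∀ i, ∃ e : P ≃ S × Fin m, ∀ (s : S) (x : P), e (Pi.mulSingle i (τ i s) * x) = rho S m s (e x) := by
    intro i
    set T := ((MonoidHom.mulSingle G i).comp (τ i)).range with hT
    obtain ⟨R, hR, -⟩ := T.exists_isComplement_right 1
    let eT : S ≃* ↥T := MonoidHom.ofInjective (f := (MonoidHom.mulSingle G i).comp (τ i))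
      ((Pi.mulSingle_injective i).comp (hτ i))
    have hcard : Nat.card ↥R = m := by
      have h := Nat.card_congr (Equiv.ofBijective (fun q : ↥T × ↥R => (q.1 : P) * q.2) hR)
      rw [Nat.card_prod, ← Nat.card_congr eT.toEquiv] at h
      rw [hm, ← h, Nat.mul_div_cancel_left _ Nat.card_pos]
    haveI : Finite ↥R := Subtype.finite
    let eR : ↥R ≃ Fin m := Finite.equivFinOfCardEq hcard
    let d : ↥T × ↥R ≃ P := Equiv.ofBijective _ hR
    refine ⟨d.symm.trans (eT.symm.toEquiv.prodCongr eR), fun s x => ?_⟩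
    obtain ⟨⟨t, r⟩, rfl⟩ := d.surjective x
    have h1 : Pi.mulSingle i (τ i s) * d (t, r) = d (eT s * t, r) := by
      show _ * ((t : P) * r) = ((eT s * t : ↥T) : P) * r
      rw [Subgroup.coe_mul, mul_assoc]
      rfl
    rw [h1]
    show (eT.symm.toEquiv.prodCongr eR) (d.symm (d (eT s * t, r))) =
      rho S m s ((eT.symm.toEquiv.prodCongr eR) (d.symm (d (t, r))))
    rw [d.symm_apply_apply, d.symm_apply_apply, rho_apply]
    show (eT.symm (eT s * t), eR r) = (s * eT.symm t, eR r)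
    rw [map_mul, eT.symm_apply_apply]
  choose e he using key
  refine ⟨m, fun i => MonoidHom.mk' (fun g => (e i).symm.trans ((Equiv.mulLeft (Pi.mulSingle i g)).trans (e i)))
    (fun g h => ?_), hm0, fun i => ⟨fun g h hgh => ?_, fun s => ?_⟩⟩
  · refine Equiv.ext fun x => ?_
    simp [Pi.mulSingle_mul, mul_assoc]
  · have h1 := Equiv.congr_fun hgh ((e i) 1)
    simp only [MonoidHom.mk'_apply, Equiv.trans_apply, Equiv.symm_apply_apply, Equiv.coe_mulLeft, mul_one,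
      EmbeddingLike.apply_eq_iff_eq] at h1
    exact Pi.mulSingle_injective i h1
  · refine Equiv.ext fun x => ?_
    show e i (Pi.mulSingle i (τ i s) * (e i).symm x) = _
    rw [he, Equiv.apply_symm_apply]

/-- Automorphisms of `S` are conjugations in the symmetric group. -/
theorem exists_rho_aut {S : Type*} [Group S] {m : ℕ} (φ : S ≃* S) :
    ∃ π ∈ Subgroup.normalizer (((rho S m).range : Subgroup _) : Set (Equiv.Perm (S × Fin m))),
      ∀ s, π * rho S m s * π⁻¹ = rho S m (φ s) := by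
  set π : Equiv.Perm (S × Fin m) := φ.toEquiv.prodCongr (Equiv.refl _) with hπ
  have h : ∀ s, π * rho S m s * π⁻¹ = rho S m (φ s) := fun s => mul_inv_eq_iff_eq_mul.2 (Equiv.ext fun x => by
    show π (rho S m s x) = rho S m (φ s) (π x)
    simp [hπ, rho_apply])
  refine ⟨π, Subgroup.mem_normalizer_iff.2 fun a => ⟨?_, ?_⟩, h⟩
  · rintro ⟨s, rfl⟩; exact ⟨φ s, (h s).symm⟩
  · rintro ⟨s, hs⟩
    refine ⟨φ.symm s, mul_left_cancel (mul_right_cancel ((h _).trans ?_))⟩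
    rw [φ.apply_symm_apply]; exact hs

namespace Sit

open Cfsg.Agent.Lib.LAEven57.PushingUp

variable {G : Type*} [Group G] [Finite G] {p : ℕ} [hp : Fact p.Prime] {F : Type} [Field F] [Fintype F]
variable {c : Sit G p F} {S : Type*} [Group S] [Finite S] {τ : S →* G}

local notation "Qc" => Cfsg.pCore p G

theorem map_omZ (hτ : Function.Injective τ) (hT : c.TT = τ.range) : (omZ p S).map τ = c.Z := by
  ext z
  constructor
  · rintro ⟨s, ⟨hs, hsp⟩, rfl⟩
    refine ⟨hT ▸ ⟨s, rfl⟩, by rw [← map_pow, hsp, map_one], fun t ht => ?_⟩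
    obtain ⟨a, rfl⟩ : t ∈ τ.range := hT ▸ ht
    rw [← map_mul, ← map_mul, Subgroup.mem_center_iff.1 hs a]
  · rintro ⟨hz, hzp, hzc⟩
    obtain ⟨s, rfl⟩ : z ∈ τ.range := hT ▸ hz
    refine ⟨s, ⟨Subgroup.mem_center_iff.2 fun a => hτ ?_, hτ (by rw [map_pow, hzp, map_one])⟩, rfl⟩
    rw [map_mul, map_mul, hzc _ (hT ▸ ⟨a, rfl⟩)]

/-- A member where a subgroup of `Ω₁(Z(S))` is not normal is in the situation of the amalgam argument. -/
theorem good_of_bad (hτ : Function.Injective τ) (hT : c.TT = τ.range)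
    (hZJ : ∀ z ∈ Cfsg.thompsonSubgroupA S, (∀ y ∈ Cfsg.thompsonSubgroupA S, y * z = z * y) → z ∈ Subgroup.center S)
    {S₁ : Subgroup S} (hS₁ : S₁ ≤ omZ p S) (hbad : ¬ (S₁.map τ).Normal) : c.Good := by
  have hZn : ¬ c.Z.Normal := by
    intro hn
    haveI := hn
    haveI : (Subgroup.centralizer (c.Z : Set G)).Normal := inferInstance
    have hle : c.TT ≤ Subgroup.centralizer (c.Z : Set G) := fun t ht =>
      Subgroup.mem_centralizer_iff.2 fun z hz => (hz.2.2 t ht).symm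
    have hnot : ¬ Subgroup.centralizer (c.Z : Set G) ≤ c.π.ker := fun h => by
      obtain ⟨t, ht, htQ⟩ := c.exists_out
      exact htQ (c.ker_inf ▸ ⟨ht, h (hle ht)⟩)
    have htop : Subgroup.centralizer (c.Z : Set G) = ⊤ := by
      rw [← c.normal_sup _ inferInstance hnot, sup_eq_left.2 hle]
    refine hbad ⟨fun a ha g => ?_⟩
    have haZ : a ∈ c.Z := map_omZ (p := p) hτ hT ▸ Subgroup.map_mono hS₁ ha
    have h1 : g ∈ Subgroup.centralizer (c.Z : Set G) := htop ▸ Subgroup.mem_top g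
    rw [← Subgroup.mem_centralizer_iff.1 h1 a haZ, mul_inv_cancel_right]
    exact ha
  refine ⟨hZn, ?_⟩
  suffices h : ∃ A, c.IsAb A ∧ (∀ B, c.IsAb B → Nat.card B ≤ Nat.card A) ∧ ¬ A ≤ Cfsg.pCore p G from
    h.imp fun _ h => ⟨h.1, fun B hB _ => h.2.1 B hB, h.2.2⟩
  by_contra hcon
  push Not at hcon
  set M : Set (Subgroup G) := {A | c.IsAb A ∧ ∀ B, c.IsAb B → Nat.card B ≤ Nat.card A} with hM
  set J := sSup M with hJ
  have hconj : ∀ g : G, ∀ A ∈ M, cj g A ∈ M := by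
    intro g A hA
    refine ⟨⟨?_, ?_⟩, fun B hB => ?_⟩
    · exact ((cj_mono g (hcon A hA.1 hA.2)).trans (cj_eq_of_normal g _).le).trans c.Q_le_S
    · intro a ha b hb
      exact (Data.comm_cj g a b).1 (hA.1.2 _ (mem_cj.1 ha) _ (mem_cj.1 hb))
    · rw [card_cj]; exact hA.2 B hB
  haveI hJn : J.Normal := by
    refine ⟨fun a ha g => ?_⟩
    have hle : cj g J ≤ J := by
      rw [cj, Subgroup.map_le_iff_le_comap]
      exact sSup_le fun A hA => Subgroup.map_le_iff_le_comap.1 (le_sSup (hconj g A hA))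
    exact hle (conj_mem_cj ha)
  have hTmap : ∀ A : Subgroup G, A ≤ c.TT → (A.comap τ).map τ = A := fun A hA =>
    Subgroup.map_comap_eq_self (hA.trans hT.le)
  have hcardmap : ∀ B : Subgroup S, Nat.card ↥(B.map τ) = Nat.card ↥B := fun B =>
    Subgroup.card_map_of_injective hτ
  have hab : ∀ B : Subgroup S, IsMulCommutative ↥B → c.IsAb (B.map τ) := by
    intro B hB
    refine ⟨(Subgroup.map_le_range τ B).trans hT.ge, ?_⟩
    rintro _ ⟨a, ha, rfl⟩ _ ⟨b, hb, rfl⟩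
    have h := congrArg Subtype.val (hB.is_comm.comm (⟨a, ha⟩ : ↥B) ⟨b, hb⟩)
    rw [← map_mul, ← map_mul]
    exact congrArg τ h
  have habS : ∀ A, c.IsAb A → IsMulCommutative ↥(A.comap τ) := fun A hA => by
    refine ⟨⟨fun a b => Subtype.ext (hτ ?_)⟩⟩
    rw [Subgroup.coe_mul, Subgroup.coe_mul, map_mul, map_mul]
    exact hA.2 _ a.2 _ b.2
  have hJmap : (Cfsg.thompsonSubgroupA S).map τ = J := by
    refine le_antisymm ?_ (sSup_le fun A hA => ?_)
    · rw [Subgroup.map_le_iff_le_comap]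
      refine sSup_le fun B hB => Subgroup.map_le_iff_le_comap.1 (le_sSup ⟨hab B hB.1, fun A hA => ?_⟩)
      rw [hcardmap, ← hTmap A hA.1, hcardmap]
      exact hB.2 _ (habS A hA)
    · rw [← hTmap A hA.1.1]
      refine Subgroup.map_mono (le_sSup ⟨habS A hA.1, fun B hB => ?_⟩)
      rw [← hcardmap B, ← hcardmap (A.comap τ), hTmap A hA.1.1]
      exact hA.2 _ (hab B hB)
  -- `Z` consists of the central elements of order `p` of `J`
  have hZJ' : ∀ z, z ∈ c.Z ↔ z ∈ J ∧ z ^ p = 1 ∧ ∀ y ∈ J, y * z = z * y := by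
    intro z
    constructor
    · intro hz
      obtain ⟨A, hA, hmax⟩ := c.exists_max_ab
      have hAZ : ∀ a ∈ A, ∀ u ∈ c.Z, a * u = u * a := fun a ha u hu => hu.2.2 a (hA.1 ha)
      have hab' : c.IsAb (A ⊔ c.Z) := by
        refine ⟨sup_le hA.1 c.Z_le_S, fun a ha b hb => ?_⟩
        have hle : A ⊔ c.Z ≤ Subgroup.centralizer ((A ⊔ c.Z : Subgroup G) : Set G) := by
          have h1 : A ⊔ c.Z ≤ Subgroup.centralizer (A : Set G) := sup_le
            (fun u hu => Subgroup.mem_centralizer_iff.2 fun w hw => hA.2 w hw u hu)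
            fun u hu => Subgroup.mem_centralizer_iff.2 fun w hw => hAZ w hw u hu
          have h2 : A ⊔ c.Z ≤ Subgroup.centralizer (c.Z : Set G) := sup_le
            (fun u hu => Subgroup.mem_centralizer_iff.2 fun w hw => (hAZ u hu w hw).symm)
            fun u hu => Subgroup.mem_centralizer_iff.2 fun w hw => hu.2.2 w (c.Z_le_S hw)
          intro u hu
          refine Subgroup.mem_centralizer_iff.2 fun w hw => ?_
          have h3 : A ⊔ c.Z ≤ Subgroup.centralizer ({u} : Set G) := sup_le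
            (fun w hw => Subgroup.mem_centralizer_singleton_iff.2 (Subgroup.mem_centralizer_iff.1 (h1 hu) w hw))
            fun w hw => Subgroup.mem_centralizer_singleton_iff.2 (Subgroup.mem_centralizer_iff.1 (h2 hu) w hw)
          exact Subgroup.mem_centralizer_singleton_iff.1 (h3 hw)
        exact (hle ha b hb).symm
      have heq : A = A ⊔ c.Z := Subgroup.eq_of_le_of_card_ge le_sup_left (hmax _ hab')
      refine ⟨le_sSup (show A ∈ M from ⟨hA, hmax⟩) (heq ▸ Subgroup.mem_sup_right hz), hz.2.1,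
        fun y hy => hz.2.2 y ?_⟩
      have hJT : J ≤ c.TT := sSup_le fun B hB => hB.1.1
      exact hJT hy
    · rintro ⟨hz, hzp, hzc⟩
      rw [← hJmap] at hz
      obtain ⟨s, hs, rfl⟩ := hz
      rw [← map_omZ (p := p) hτ hT]
      refine ⟨s, ⟨hZJ s hs fun y hy => hτ ?_, hτ (by rw [map_pow, hzp, map_one])⟩, rfl⟩
      rw [map_mul, map_mul]
      exact hzc _ (hJmap ▸ Subgroup.mem_map_of_mem τ hy)
  refine hZn ⟨fun z hz g => ?_⟩
  obtain ⟨h1, h2, h3⟩ := (hZJ' z).1 hz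
  refine (hZJ' _).2 ⟨hJn.conj_mem z h1 g, by rw [conj_pow, h2, mul_one, mul_inv_cancel], fun y hy => ?_⟩
  have h4 := h3 _ (show g⁻¹ * y * g ∈ J by simpa using hJn.conj_mem y hy g⁻¹)
  calc y * (g * z * g⁻¹) = g * ((g⁻¹ * y * g) * z) * g⁻¹ := by group
    _ = g * (z * (g⁻¹ * y * g)) * g⁻¹ := by rw [h4]
    _ = g * z * g⁻¹ * y := by group

/-- `S₀` in `F₀`, from commutator and power facts in the group. -/
theorem le_comap_of_facts (hS : IsPGroup p S) (hT : c.TT = τ.range) {S₀ : Subgroup S}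
    (hS₀ : S₀ = if p = 2 then ⁅frattini S, (⊤ : Subgroup S)⁆ ⊔ (frattini ↥(frattini S)).map (frattini S).subtype
      else if p = 3 then ⁅⁅frattini S, (⊤ : Subgroup S)⁆, (⊤ : Subgroup S)⁆ ⊔
        (frattini ↥(frattini S)).map (frattini S).subtype
      else ⁅frattini S, (⊤ : Subgroup S)⁆ ⊔ Cfsg.powerClosure p 1 (⊤ : Subgroup S))
    {F₀ I : Subgroup G} [F₀.Normal] (hIp : ∀ i ∈ I, i ^ p = 1) (hII : ∀ i ∈ I, ∀ j ∈ I, ⁅i, j⁆ ∈ F₀)
    (hIS : ∀ i ∈ I, ∀ s ∈ c.TT, ⁅i, s⁆ ∈ c.Z) (hIS' : p ≠ 3 → ∀ i ∈ I, ∀ s ∈ c.TT, ⁅i, s⁆ ∈ F₀)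
    (hcomm : ∀ s ∈ c.TT, ∀ s' ∈ c.TT, ⁅s, s'⁆ ∈ F₀ ⊔ I) (hpow : ∀ s ∈ c.TT, s ^ p ∈ F₀ ⊔ I)
    (hodd : p ≠ 2 → p ≠ 3 → ∀ s ∈ c.TT, s ^ p ∈ F₀) : S₀ ≤ F₀.comap τ := by
  have hin : ∀ s : S, τ s ∈ c.TT := fun s => hT ▸ ⟨s, rfl⟩
  have hcS : commutator S ≤ (F₀ ⊔ I).comap τ := by
    rw [commutator_def]
    refine Subgroup.commutator_le.2 fun a _ b _ => ?_
    show τ ⁅a, b⁆ ∈ F₀ ⊔ I
    rw [map_commutatorElement]
    exact hcomm _ (hin a) _ (hin b)
  haveI : ((F₀ ⊔ I).comap τ).Normal := ⟨fun x hx g => by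
    rw [show g * x * g⁻¹ = ⁅g, x⁆ * x by rw [commutatorElement_def]; group]
    exact mul_mem (hcS (Subgroup.commutator_mem_commutator (Subgroup.mem_top g) (Subgroup.mem_top x))) hx⟩
  have hΦ : ∀ x ∈ frattini S, ∃ f ∈ F₀, ∃ i ∈ I, τ x = f * i := by
    intro x hx
    have h1 : τ x ∈ F₀ ⊔ I := (PGroups.frattini_le_of_pow_commutator ((F₀ ⊔ I).comap τ)
      (fun s => show τ (s ^ p) ∈ F₀ ⊔ I by rw [map_pow]; exact hpow _ (hin s)) hcS) hx
    rw [← SetLike.mem_coe, Subgroup.normal_mul] at h1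
    obtain ⟨f, hf, i, hi, e⟩ := h1
    exact ⟨f, hf, i, hi, e.symm⟩
  let π₀ : G →* G ⧸ F₀ := QuotientGroup.mk' F₀
  have hπ : ∀ a, π₀ a = 1 ↔ a ∈ F₀ := fun a => QuotientGroup.eq_one_iff a
  have hmem : ∀ x : S, x ∈ F₀.comap τ ↔ π₀ (τ x) = 1 := fun x => (hπ _).symm
  have hmodI : ∀ {x : S} {f i : G}, f ∈ F₀ → τ x = f * i → π₀ (τ x) = π₀ i := fun hf e => by
    rw [e, map_mul, (hπ _).2 hf, one_mul]
  have hZc : ∀ z ∈ c.Z, ∀ s : S, π₀ ⁅z, τ s⁆ = 1 := fun z hz s => by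
    rw [commutatorElement_eq_one_iff_mul_comm.2 (hz.2.2 _ (hin s)).symm, map_one]
  have h1 : p ≠ 3 → ⁅frattini S, (⊤ : Subgroup S)⁆ ≤ F₀.comap τ := fun hp3 =>
    Subgroup.commutator_le.2 fun x hx s _ => by
      obtain ⟨f, hf, i, hi, e⟩ := hΦ x hx
      rw [hmem, map_commutatorElement, map_commutatorElement, hmodI hf e, ← map_commutatorElement, hπ]
      exact hIS' hp3 i hi _ (hin s)
  have h2 : (frattini ↥(frattini S)).map (frattini S).subtype ≤ F₀.comap τ := by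
    rw [Subgroup.map_le_iff_le_comap]
    refine PGroups.frattini_le_of_pow_commutator (p := p) _ (fun x => ?_) ?_
    · obtain ⟨f, hf, i, hi, e⟩ := hΦ x x.2
      show ((x ^ p : ↥(frattini S)) : S) ∈ F₀.comap τ
      rw [Subgroup.coe_pow, hmem, map_pow, map_pow, hmodI hf e, ← map_pow, hIp i hi, map_one]
    · rw [commutator_def]
      refine Subgroup.commutator_le.2 fun x _ y _ => ?_
      obtain ⟨f, hf, i, hi, e⟩ := hΦ x x.2
      obtain ⟨f', hf', i', hi', e'⟩ := hΦ y y.2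
      show ((⁅x, y⁆ : ↥(frattini S)) : S) ∈ F₀.comap τ
      rw [show ((⁅x, y⁆ : ↥(frattini S)) : S) = ⁅(x : S), (y : S)⁆ from rfl, hmem, map_commutatorElement,
        map_commutatorElement, hmodI hf e, hmodI hf' e', ← map_commutatorElement, hπ]
      exact hII i hi i' hi'
  rw [hS₀]
  split_ifs with hp2 hp3
  · exact sup_le (h1 (by omega)) h2
  · refine sup_le (Subgroup.commutator_le.2 fun x hx s _ => ?_) h2
    have hle : ⁅frattini S, (⊤ : Subgroup S)⁆ ≤ (c.Z.map π₀).comap (π₀.comp τ) :=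
      Subgroup.commutator_le.2 fun y hy r _ => by
        obtain ⟨f, hf, i, hi, e⟩ := hΦ y hy
        refine ⟨⁅i, τ r⁆, hIS i hi _ (hin r), ?_⟩
        show π₀ ⁅i, τ r⁆ = π₀ (τ ⁅y, r⁆)
        rw [map_commutatorElement, map_commutatorElement, map_commutatorElement, hmodI hf e]
    obtain ⟨z, hz, he⟩ := hle hx
    rw [hmem, map_commutatorElement, map_commutatorElement,
      show π₀ (τ x) = π₀ z from he.symm, ← map_commutatorElement]
    exact hZc z hz s
  · refine sup_le (h1 hp3) ((Subgroup.closure_le _).2 ?_)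
    rintro x ⟨y, -, rfl⟩
    show τ (y ^ p ^ 1) ∈ F₀
    rw [pow_one, map_pow]
    exact hodd hp2 hp3 _ (hin y)

end Sit

/-- With `[ZJ(S), S] = 1`: one characteristic abelian subgroup of `S` is normal in, and contains `⟨Ω₁(Z(S))^G⟩`
for, every pushing-up group `G` over `S` in which `S₀ ⊓ Ω₁(Z(S))` is not normal. -/
theorem exists_common {S : Type u} [Group S] [Finite S] {p : ℕ} [Fact p.Prime] (hS : IsPGroup p S)
    (hZJ : ⁅Cfsg.thompsonSubgroupA S ⊓ Subgroup.centralizer (Cfsg.thompsonSubgroupA S : Set S),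
      (⊤ : Subgroup S)⁆ = ⊥)
    (S₀ : Subgroup S)
    (hS₀ : S₀ = if p = 2 then ⁅frattini S, (⊤ : Subgroup S)⁆ ⊔ (frattini ↥(frattini S)).map (frattini S).subtype
      else if p = 3 then ⁅⁅frattini S, (⊤ : Subgroup S)⁆, (⊤ : Subgroup S)⁆ ⊔
        (frattini ↥(frattini S)).map (frattini S).subtype
      else ⁅frattini S, (⊤ : Subgroup S)⁆ ⊔ Cfsg.powerClosure p 1 (⊤ : Subgroup S)) :
    ∃ W : Subgroup S, W.Characteristic ∧ (∀ a ∈ W, a ^ p = 1 ∧ ∀ b ∈ W, a * b = b * a) ∧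
      ∀ (G : Type u) [Group G] [Finite G] (τ : S →* G), Function.Injective τ →
        (∃ P : Sylow p G, (P : Subgroup G) = τ.range) →
        Subgroup.centralizer (Cfsg.pCore p G : Set G) ≤ Cfsg.pCore p G →
        (∃! M : Subgroup G, IsCoatom M ∧ τ.range ≤ M) →
        (∃ (K : Subgroup G) (_ : K.Normal) (F : Type) (_ : Field F) (_ : Fintype F) (n : ℕ), 1 ≤ n ∧
          Fintype.card F = p ^ n ∧ Nonempty (G ⧸ K ≃* Matrix.ProjectiveSpecialLinearGroup (Fin 2) F)) →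
        ((S₀ ⊓ omZ p S).map τ).Normal ∨ ((W.map τ).Normal ∧
          Subgroup.normalClosure ((omZ p S).map τ : Set G) ≤ W.map τ ∧
          ((Subgroup.centralizer (W : Set S)).map τ).Normal) := by
  classical
  have hZJ' : ∀ z ∈ Cfsg.thompsonSubgroupA S, (∀ y ∈ Cfsg.thompsonSubgroupA S, y * z = z * y) →
      z ∈ Subgroup.center S := fun z hz hzc => Subgroup.mem_center_iff.2 fun g => by
    have h : ⁅z, g⁆ ∈ ⁅Cfsg.thompsonSubgroupA S ⊓ Subgroup.centralizer (Cfsg.thompsonSubgroupA S : Set S),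
        (⊤ : Subgroup S)⁆ :=
      Subgroup.commutator_mem_commutator ⟨hz, Subgroup.mem_centralizer_iff.2 hzc⟩ (Subgroup.mem_top g)
    rw [hZJ, Subgroup.mem_bot, commutatorElement_eq_one_iff_mul_comm] at h
    exact h.symm
  let Cand : Subgroup S → Prop := fun W => W.Characteristic ∧ ∀ a ∈ W, a ^ p = 1 ∧ ∀ b ∈ W, a * b = b * a
  let Hyp : ∀ (G : Type u) [Group G] [Finite G], (S →* G) → Prop := fun G _ _ τ =>
    Function.Injective τ ∧ (∃ P : Sylow p G, (P : Subgroup G) = τ.range) ∧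
      Subgroup.centralizer (Cfsg.pCore p G : Set G) ≤ Cfsg.pCore p G ∧
      (∃! M : Subgroup G, IsCoatom M ∧ τ.range ≤ M) ∧
      (∃ (K : Subgroup G) (_ : K.Normal) (F : Type) (_ : Field F) (_ : Fintype F) (n : ℕ), 1 ≤ n ∧
        Fintype.card F = p ^ n ∧ Nonempty (G ⧸ K ≃* Matrix.ProjectiveSpecialLinearGroup (Fin 2) F))
  -- every bad group gives a situation
  have sit : ∀ (G : Type u) [Group G] [Finite G] (τ : S →* G), Hyp G τ → ¬ ((S₀ ⊓ omZ p S).map τ).Normal →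
      ∃ (F : Type) (_ : Field F) (_ : Fintype F) (c : Sit G p F), c.TT = τ.range ∧ c.Good := by
    rintro G _ _ τ ⟨hτ, ⟨P, hP⟩, hE₁, hE₂, K, hK, F, hFi, hFt, n, hn, hF, hE₃⟩ hbad
    obtain ⟨c, hcP, -⟩ := exists_sit P hE₁ (by rwa [hP]) K n hn hF hE₃
    have hT : c.TT = τ.range := by show (c.S : Subgroup G) = _; rw [hcP, hP]
    exact ⟨F, hFi, hFt, c, hT, Sit.good_of_bad hτ hT hZJ' inf_le_right hbad⟩
  suffices h : ∃ W : Subgroup S, Cand W ∧ ∀ (G : Type u) [Group G] [Finite G] (τ : S →* G), Hyp G τ →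
      ¬ ((S₀ ⊓ omZ p S).map τ).Normal →
        (W.map τ).Normal ∧ Subgroup.normalClosure ((omZ p S).map τ : Set G) ≤ W.map τ by
    obtain ⟨W, ⟨hWc, hWab⟩, hW⟩ := h
    refine ⟨W, hWc, hWab, fun G _ _ τ h1 h2 h3 h4 h5 => or_iff_not_imp_left.2 fun hbad => ?_⟩
    obtain ⟨hWn, hVW⟩ := hW G τ ⟨h1, h2, h3, h4, h5⟩ hbad
    refine ⟨hWn, hVW, ?_⟩
    obtain ⟨F, _, _, c, hT, hg⟩ := sit G τ ⟨h1, h2, h3, h4, h5⟩ hbad
    rw [Sit.map_omZ (c := c) h1 hT] at hVW
    haveI := hWn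
    have e : (Subgroup.centralizer (W : Set S)).map τ =
        Cfsg.pCore p G ⊓ Subgroup.centralizer ((W.map τ : Subgroup G) : Set G) := by
      ext x
      constructor
      · rintro ⟨s, hs, rfl⟩
        have hsc : τ s ∈ Subgroup.centralizer ((W.map τ : Subgroup G) : Set G) := by
          refine Subgroup.mem_centralizer_iff.2 ?_
          rintro _ ⟨w, hw, rfl⟩
          rw [← map_mul, ← map_mul, Subgroup.mem_centralizer_iff.1 hs w hw]
        refine ⟨(c.mem_Q (hT ▸ ⟨s, rfl⟩)).2 (c.cent_V_le hg ?_), hsc⟩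
        exact Subgroup.centralizer_le (show (c.V : Set G) ⊆ W.map τ from hVW) hsc
      · rintro ⟨hxQ, hxc⟩
        obtain ⟨s, rfl⟩ : x ∈ τ.range := hT ▸ c.Q_le_S hxQ
        refine ⟨s, Subgroup.mem_centralizer_iff.2 fun w hw => h1 ?_, rfl⟩
        rw [map_mul, map_mul]
        exact Subgroup.mem_centralizer_iff.1 hxc _ ⟨w, hw, rfl⟩
    rw [e]
    infer_instance
  by_contra hcon
  push Not at hcon
  let ι := {W : Subgroup S // Cand W}
  haveI : Nonempty ι := ⟨⟨⊥, inferInstance, fun a ha => by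
    rw [Subgroup.mem_bot.1 ha]
    exact ⟨one_pow p, fun b _ => by rw [one_mul, mul_one]⟩⟩⟩
  have hch : ∀ W : ι, ∃ (G : Type u) (_ : Group G) (_ : Finite G) (τ : S →* G), Hyp G τ ∧
      ¬ ((S₀ ⊓ omZ p S).map τ).Normal ∧
      ((W.1.map τ).Normal → ¬ Subgroup.normalClosure ((omZ p S).map τ : Set G) ≤ W.1.map τ) := fun W => by
    obtain ⟨G, i1, i2, τ, h1, h2, h3⟩ := hcon W.1 W.2
    exact ⟨G, i1, i2, τ, h1, h2, h3⟩
  choose G iG iF τ hyp hbad hfail using hch
  letI := iG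
  haveI := iF
  choose Fs iFi iFt cs hT hg using fun i => sit (G i) (τ i) (hyp i) (hbad i)
  letI := iFi
  letI := iFt
  obtain ⟨m, f, hm, hf⟩ := exists_overgroup τ fun i => (hyp i).1
  have hρ : Function.Injective (rho S m) := fun a b h => by
    have h1 := Equiv.congr_fun h (1, ⟨0, hm⟩)
    simp only [rho_apply, mul_one, Prod.mk.injEq] at h1
    exact h1.1
  have hTf : ∀ i, (cs i).TT.map (f i) = (rho S m).range := by
    intro i
    rw [hT i, MonoidHom.map_range]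
    ext x
    constructor
    · rintro ⟨s, rfl⟩; exact ⟨s, ((hf i).2 s).symm⟩
    · rintro ⟨s, rfl⟩; exact ⟨s, (hf i).2 s⟩
  let Φ : Fam (Equiv.Perm (S × Fin m)) p ι :=
    { D := fun i => (cs i).toData (hg i) (f i) (hf i).1
      T := (rho S m).range
      hT := hTf
      core := by
        intro C hC hCab hV hX hN
        set W := C.comap (rho S m) with hW
        have hWcand : Cand W := by
          refine ⟨Subgroup.characteristic_iff_le_comap.2 fun φ a ha => ?_, fun a ha => ⟨hρ ?_, fun b hb => hρ ?_⟩⟩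
          · obtain ⟨π, hπ, hπs⟩ := exists_rho_aut (m := m) φ
            show rho S m (φ a) ∈ C
            rw [← hπs a]
            exact hN π hπ _ ha
          · rw [map_pow, (hCab _ ha).1, map_one]
          · rw [map_mul, map_mul]; exact (hCab _ ha).2 _ hb
        set i : ι := ⟨W, hWcand⟩
        have hmem : ∀ x : G i, f i x ∈ C → x ∈ W.map (τ i) := by
          intro x hx
          obtain ⟨s, hs⟩ := hC hx
          refine ⟨s, show rho S m s ∈ C from hs ▸ hx, (hf i).1 ?_⟩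
          rw [(hf i).2, hs]
        refine hfail i ⟨?_⟩ ?_
        · rintro _ ⟨s, hs, rfl⟩ g
          refine hmem _ ?_
          rw [map_mul, map_mul, map_inv, (hf i).2]
          exact hX i _ ⟨g, rfl⟩ _ hs
        · intro v hv
          refine hmem v (hV i ⟨v, ?_, rfl⟩)
          rwa [Sit.map_omZ (c := cs i) (hyp i).1 (hT i)] at hv }
  -- in every configuration `S₀ ⊓ Ω₁(Z(S))` is central
  have kill : ∀ (i : ι) (R I : Subgroup (G i)) [R.Normal], R ⊔ Cfsg.pCore p (G i) = ⊤ →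
      (∀ a ∈ I, a ^ p = 1) → (∀ a ∈ I, ∀ b ∈ I, ⁅a, b⁆ ∈ Sit.fixR (cs i) R) →
      (∀ a ∈ I, ∀ s ∈ (cs i).TT, ⁅a, s⁆ ∈ (cs i).Z) →
      (p ≠ 3 → ∀ a ∈ I, ∀ s ∈ (cs i).TT, ⁅a, s⁆ ∈ Sit.fixR (cs i) R) →
      (∀ s ∈ (cs i).TT, ∀ s' ∈ (cs i).TT, ⁅s, s'⁆ ∈ Sit.fixR (cs i) R ⊔ I) →
      (∀ s ∈ (cs i).TT, s ^ p ∈ Sit.fixR (cs i) R ⊔ I) →
      (p ≠ 2 → p ≠ 3 → ∀ s ∈ (cs i).TT, s ^ p ∈ Sit.fixR (cs i) R) → False := by
    intro i R I _ hsup a1 a2 a3 a4 a5 a6 a7
    have hle := Sit.le_comap_of_facts hS (hT i) hS₀ a1 a2 a3 a4 a5 a6 a7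
    refine hbad i ⟨fun x hx g => ?_⟩
    obtain ⟨s, hs, rfl⟩ := id hx
    have hZ : τ i s ∈ (cs i).Z := Sit.map_omZ (c := cs i) (hyp i).1 (hT i) ▸ Subgroup.mem_map_of_mem _ hs.2
    have hC := Sit.fixR_inf_Z (hg i) hsup (hle hs.1) hZ
    rw [Subgroup.mem_center_iff.1 hC.2 g, mul_inv_cancel_right]
    exact hx
  rcases Sit.cases_fam hg (fun i => (hf i).1) Φ (fun i => rfl) with ⟨i, U, D₀, o⟩ | ⟨hp2, i, j, φ, T⟩
  · obtain ⟨h1, h2, h3⟩ := Sit.One.facts (hg i) o
    have h11 : ∀ a ∈ (cs i).Z, ∀ s ∈ (cs i).TT, ⁅a, s⁆ = 1 := fun a ha s hs =>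
      commutatorElement_eq_one_iff_mul_comm.2 (ha.2.2 s hs).symm
    exact kill i _ (cs i).Z (Sit.One.R_sup (hg i) o) (fun a ha => ha.2.1)
      (fun a ha b hb => by rw [h11 a ha b ((cs i).Z_le_S hb)]; exact one_mem _)
      (fun a ha s hs => by rw [h11 a ha s hs]; exact one_mem _)
      (fun _ a ha s hs => by rw [h11 a ha s hs]; exact one_mem _) h1 h2 (fun hp2 _ => h3 hp2)
  · obtain ⟨I, -, -, h1, h2, h3, h4, h5⟩ := Sit.Two.facts (hg i) (hg j) T hp2
    have hp3 := Sit.Two.eq_three (hg i) (hg j) T hp2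
    exact kill i _ _ (Sit.Two.R_sup (hg i) (hg j) T) h1 (fun a ha b hb => Sit.C₀_le_fixR (h2 a ha b hb)) h3
      (fun h => absurd hp3 h) h4 h5 fun _ h => absurd hp3 h

end Cfsg.Agent.Lib.PushUpP
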