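import Cfsg.Agent.Lib.PushUpP.Mod
import Cfsg.Agent.Lib.LAEven57.PushingUp.Setup
import Cfsg.Prelude.Def_LocalEven

/-!
The rank one situation and the sections of `O_p(G)` with small fixed points.
-/

set_option autoImplicit false
set_option linter.unusedSectionVars false
set_option linter.style.haveILetI false

open scoped commutatorElement

namespace Cfsg.Agent.Lib.PushUpP

open Cfsg.Agent.Lib.LAEven57.PushingUp

/-- A group with a Sylow subgroup in a unique maximal subgroup and a quotient `PSL₂(q)`. -/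
structure Sit (G : Type*) [Group G] (p : ℕ) (F : Type) [Field F] [Fintype F] where
  S : Sylow p G
  π : G →* PSL2 F
  n : ℕ
  hn : 1 ≤ n
  hF : Fintype.card F = p ^ n
  surj : Function.Surjective π
  map_S : (S : Subgroup G).map π = U F
  hE₁ : Subgroup.centralizer (Cfsg.pCore p G : Set G) ≤ Cfsg.pCore p G
  ker_inf : (S : Subgroup G) ⊓ π.ker = Cfsg.pCore p G
  gen : ∀ x : G, π x ∉ Subgroup.normalizer (U F : Set (PSL2 F)) →
    (S : Subgroup G) ⊔ cj x (S : Subgroup G) = ⊤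
  normal_sup : ∀ L : Subgroup G, L.Normal → ¬ L ≤ π.ker → L ⊔ (S : Subgroup G) = ⊤

variable {G : Type*} [Group G] [Finite G] {p : ℕ} [hp : Fact p.Prime] {F : Type} [Field F] [Fintype F]

/-- The hypotheses of the statements give the situation. -/
theorem exists_sit (S : Sylow p G) (hE₁ : Subgroup.centralizer (Cfsg.pCore p G : Set G) ≤ Cfsg.pCore p G)
    (hE₂ : ∃! M : Subgroup G, IsCoatom M ∧ (S : Subgroup G) ≤ M) (K : Subgroup G) [K.Normal] (n : ℕ)
    (hn : 1 ≤ n) (hF : Fintype.card F = p ^ n)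
    (hE₃ : Nonempty (G ⧸ K ≃* Matrix.ProjectiveSpecialLinearGroup (Fin 2) F)) :
    ∃ c : Sit G p F, c.S = S ∧ c.n = n := by
  obtain ⟨M, ⟨hM, hSM⟩, huniq⟩ := hE₂
  obtain ⟨e⟩ := hE₃
  have hcoatom : ∀ L : Subgroup G, (S : Subgroup G) ≤ L → L ≠ ⊤ → L ≤ M := fun L hSL hL =>
    coatom_eq (fun M' h1 h2 => huniq M' ⟨h1, h2⟩) hSL hL
  let π₀ : G →* PSL2 F := e.toMonoidHom.comp (QuotientGroup.mk' K)
  have hπ₀ : Function.Surjective π₀ := e.surjective.comp (QuotientGroup.mk'_surjective K)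
  obtain ⟨h, hh⟩ := MulAction.exists_smul_eq (PSL2 F) (S.mapSurjective hπ₀) (USylow hF)
  let π : G →* PSL2 F := (MulAut.conj h).toMonoidHom.comp π₀
  have hπ : Function.Surjective π := (MulAut.conj h).surjective.comp hπ₀
  have hPU : (S : Subgroup G).map π = U F := by
    have h1 := congrArg (fun P : Sylow p (PSL2 F) => (P : Subgroup (PSL2 F))) hh
    simp only [Sylow.coe_subgroup_smul, Sylow.coe_mapSurjective] at h1
    rw [← Subgroup.map_map]
    exact h1
  have hkM : π.ker ≤ M := by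
    refine le_sup_left.trans (hcoatom _ (le_sup_right : _ ≤ π.ker ⊔ (S : Subgroup G)) ?_)
    intro htop
    have := congrArg (Subgroup.map π) htop
    rw [Subgroup.map_sup, Subgroup.map_top_of_surjective _ hπ, hPU,
      (Subgroup.map_eq_bot_iff _).mpr le_rfl, bot_sup_eq] at this
    exact U_ne_top this
  have htop : ∀ L : Subgroup G, (S : Subgroup G) ≤ L → L.map π = ⊤ → L = ⊤ := by
    intro L hSL hL
    by_contra hne
    refine hM.1 (eq_top_iff.2 fun g _ => ?_)
    obtain ⟨l, hl, hlg⟩ : π g ∈ L.map π := hL ▸ Subgroup.mem_top _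
    have h1 : l⁻¹ * g ∈ π.ker := by rw [MonoidHom.mem_ker, map_mul, map_inv, hlg, inv_mul_cancel]
    simpa using M.mul_mem (hcoatom L hSL hne hl) (hkM h1)
  refine ⟨⟨S, π, n, hn, hF, hπ, hPU, hE₁, ?_, fun x hx => ?_, fun L hL hLk => ?_⟩, rfl, rfl⟩
  · refine le_antisymm ?_ (le_inf (Cores.pCore_le_sylow S) ?_)
    · rw [inf_comm]
      exact normal_inf_le_pCore ⟨S, rfl⟩ hM (fun M' h1 h2 => huniq M' ⟨h1, h2⟩) hkM
    · rw [← Subgroup.map_eq_bot_iff, eq_bot_iff, ← pCore_psl (p := p) hF]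
      exact Cores.map_pCore_le π hπ
  · refine htop _ le_sup_left ?_
    rw [Subgroup.map_sup, cj_map, hPU]
    exact U_sup_eq_top hx
  · haveI := hL
    haveI : (L.map π).Normal := Subgroup.Normal.map inferInstance _ hπ
    refine htop _ le_sup_right ?_
    rw [Subgroup.map_sup, hPU]
    exact normal_sup_U (p := p) hF _ fun h0 => hLk ((Subgroup.map_eq_bot_iff _).1 h0)

namespace Sit

variable (c : Sit G p F)

local notation "Qc" => Cfsg.pCore p G

/-- The Sylow subgroup. -/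
abbrev TT : Subgroup G := (c.S : Subgroup G)

/-- The elements fixing the point at infinity. -/
abbrev InB (x : G) : Prop := c.π x ∈ Subgroup.normalizer (U F : Set (PSL2 F))

theorem Q_le_S : Qc ≤ c.TT := Cores.pCore_le_sylow c.S

theorem Q_le_ker : Qc ≤ c.π.ker := c.ker_inf ▸ inf_le_right

theorem mem_Q {t : G} (ht : t ∈ c.TT) : t ∈ Qc ↔ c.π t = 1 := by
  rw [← c.ker_inf]
  exact ⟨fun h => h.2, fun h => ⟨ht, h⟩⟩

theorem ker_pElement {x : G} (hx : x ∈ c.π.ker) {k : ℕ} (hk : x ^ p ^ k = 1) : x ∈ Qc := by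
  have hP : IsPGroup p ↥(Subgroup.zpowers x) := by
    intro y
    obtain ⟨i, hi⟩ := y.2
    refine ⟨k, Subtype.ext ?_⟩
    show (y : G) ^ p ^ k = 1
    rw [← hi, ← zpow_natCast, ← zpow_mul, mul_comm, zpow_mul, zpow_natCast, hk, one_zpow]
  obtain ⟨P, hxP⟩ := hP.exists_le_sylow
  obtain ⟨g, hg⟩ := MulAction.exists_smul_eq G c.S P
  rw [← hg, Sylow.coe_subgroup_smul] at hxP
  obtain ⟨s, hs, hsx⟩ := hxP (Subgroup.mem_zpowers x)
  have h1 : g * s * g⁻¹ = x := hsx
  have h2 : s ∈ Qc := by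
    rw [c.mem_Q hs, show s = g⁻¹ * x * g by rw [← h1]; group, map_mul, map_mul,
      show c.π x = 1 from hx, mul_one, ← map_mul, inv_mul_cancel, map_one]
  rw [← h1]
  exact (inferInstance : (Qc).Normal).conj_mem s h2 g

theorem relIndex_Q : (Qc).relIndex c.TT = p ^ c.n := by
  rw [← card_U (F := F) c.hF, ← c.map_S, ← Subgroup.relIndex_ker, ← c.ker_inf, Subgroup.inf_relIndex_left]

theorem exists_notB : ∃ x : G, ¬ c.InB x := by
  obtain ⟨g, hg⟩ := exists_not_mem_normalizer (F := F)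
  obtain ⟨x, rfl⟩ := c.surj g
  exact ⟨x, hg⟩

theorem InB_of_mem {t : G} (ht : t ∈ c.TT) : c.InB t :=
  Subgroup.le_normalizer (c.map_S ▸ Subgroup.mem_map_of_mem c.π ht)

theorem exists_out : ∃ t ∈ c.TT, t ∉ Qc := by
  obtain ⟨t, ht, he⟩ : uHom F (Multiplicative.ofAdd 1) ∈ c.TT.map c.π := c.map_S.symm ▸ ⟨_, rfl⟩
  refine ⟨t, ht, fun h => ?_⟩
  rw [(c.mem_Q ht).1 h] at he
  exact one_ne_zero (α := F) (Multiplicative.ofAdd.injective (uHom_injective (he.symm.trans (map_one _).symm)))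

theorem not_normal : ¬ c.TT.Normal := fun h => by
  haveI := h
  obtain ⟨x, hx⟩ := c.exists_notB
  have h1 := c.gen x hx
  rw [cj_eq_of_normal, sup_idem] at h1
  have h2 := congrArg (Subgroup.map c.π) h1
  rw [c.map_S, Subgroup.map_top_of_surjective _ c.surj] at h2
  exact U_ne_top h2

/-- The preimage of the fixed points of `S` on `U / N`. -/
def fixS (N U₀ : Subgroup G) [N.Normal] : Subgroup G :=
  U₀ ⊓ (Subgroup.centralizer (c.TT.map (QuotientGroup.mk' N) : Set (G ⧸ N))).comap (QuotientGroup.mk' N)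

theorem mem_fixS {N U₀ : Subgroup G} [N.Normal] {u : G} :
    u ∈ c.fixS N U₀ ↔ u ∈ U₀ ∧ ∀ s ∈ c.TT, ⁅u, s⁆ ∈ N := by
  rw [fixS, Subgroup.mem_inf, Subgroup.mem_comap, Subgroup.mem_centralizer_iff]
  refine and_congr_right fun _ => ⟨fun h s hs => ?_, fun h => ?_⟩
  · rw [← QuotientGroup.eq_one_iff]
    show QuotientGroup.mk' N ⁅u, s⁆ = 1
    rw [map_commutatorElement, commutatorElement_eq_one_iff_mul_comm]
    exact (h _ (Subgroup.mem_map_of_mem _ hs)).symm
  · rintro _ ⟨s, hs, rfl⟩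
    refine (commutatorElement_eq_one_iff_mul_comm.1 ?_).symm
    rw [← map_commutatorElement]
    exact (QuotientGroup.eq_one_iff _).2 (h s hs)

/-- The kernel of the action on a section. -/
def secKer (N U₀ : Subgroup G) [N.Normal] : Subgroup G :=
  (Subgroup.centralizer (U₀.map (QuotientGroup.mk' N) : Set (G ⧸ N))).comap (QuotientGroup.mk' N)

theorem mem_secKer {N U₀ : Subgroup G} [N.Normal] {g : G} :
    g ∈ secKer N U₀ ↔ ∀ u ∈ U₀, ⁅u, g⁆ ∈ N := by
  rw [secKer, Subgroup.mem_comap, Subgroup.mem_centralizer_iff]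
  constructor
  · intro h u hu
    rw [← QuotientGroup.eq_one_iff]
    show QuotientGroup.mk' N ⁅u, g⁆ = 1
    rw [map_commutatorElement, commutatorElement_eq_one_iff_mul_comm]
    exact h _ (Subgroup.mem_map_of_mem _ hu)
  · rintro h _ ⟨u, hu, rfl⟩
    refine commutatorElement_eq_one_iff_mul_comm.1 ?_
    rw [← map_commutatorElement]
    exact (QuotientGroup.eq_one_iff _).2 (h u hu)

instance secKer_normal (N U₀ : Subgroup G) [N.Normal] [U₀.Normal] : (secKer N U₀).Normal := by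
  haveI : (U₀.map (QuotientGroup.mk' N)).Normal :=
    Subgroup.Normal.map inferInstance _ (QuotientGroup.mk'_surjective _)
  exact Subgroup.Normal.comap inferInstance _

/-- A subgroup fixed by `S` whose join with `N` is not normal shows that the action is faithful over the kernel. -/
theorem secKer_le {N U₀ A : Subgroup G} [N.Normal] [U₀.Normal] (hA : A ≤ c.fixS N U₀)
    (hAn : ¬ (A ⊔ N).Normal) : secKer N U₀ ≤ c.π.ker := by
  by_contra h
  refine hAn ⟨fun a ha g => ?_⟩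
  have htop := c.normal_sup _ inferInstance h
  have hle : secKer N U₀ ⊔ c.TT ≤ Subgroup.normalizer ((A ⊔ N : Subgroup G) : Set G) := by
    have key : ∀ y : G, (∀ u ∈ A, ⁅u, y⁆ ∈ N) → y ∈ Subgroup.normalizer ((A ⊔ N : Subgroup G) : Set G) := by
      intro y hy
      rw [← cj_eq_iff]
      refine Subgroup.eq_of_le_of_card_ge ?_ (card_cj _ _).ge
      rw [cj_sup]
      refine sup_le ?_ ((cj_eq_of_normal y N).le.trans le_sup_right)
      rintro _ ⟨u, hu, rfl⟩
      show y * u * y⁻¹ ∈ A ⊔ N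
      rw [show y * u * y⁻¹ = ⁅u, y⁆⁻¹ * u by rw [commutatorElement_def]; group]
      exact mul_mem (Subgroup.mem_sup_right (inv_mem (hy u hu))) (Subgroup.mem_sup_left hu)
    exact sup_le (fun y hy => key y fun u hu => mem_secKer.1 hy u (c.mem_fixS.1 (hA hu)).1)
      fun y hy => key y fun u hu => (c.mem_fixS.1 (hA hu)).2 y hy
  exact (Subgroup.mem_normalizer_iff.1 (hle (htop ▸ Subgroup.mem_top g)) a).1 ha

theorem secKer_pow {N U₀ : Subgroup G} [N.Normal] (hQ : Qc ≤ secKer N U₀) {y : G} (hy : y ∈ c.π.ker)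
    (hyp : y ^ p ∈ secKer N U₀) : y ∈ secKer N U₀ := by
  obtain ⟨a, l, hl, hal⟩ := Nat.exists_eq_pow_mul_and_not_dvd (orderOf_pos y).ne' p hp.out.ne_one
  have h1 : y ^ l ∈ secKer N U₀ := by
    refine hQ (c.ker_pElement (k := a) (pow_mem hy l) ?_)
    rw [← pow_mul, mul_comm, ← hal, pow_orderOf_eq_one]
  have hg : Nat.gcd p l = 1 := (hp.out.coprime_iff_not_dvd.2 hl)
  have h := Nat.gcd_eq_gcd_ab p l
  rw [hg] at h
  have h2 : y = (y ^ p) ^ Nat.gcdA p l * (y ^ l) ^ Nat.gcdB p l := by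
    rw [← zpow_natCast y p, ← zpow_natCast y l, ← zpow_mul, ← zpow_mul, ← zpow_add, ← h, Nat.cast_one,
      zpow_one]
  rw [h2]
  exact mul_mem (zpow_mem hyp _) (zpow_mem h1 _)

/-- A section of `O_p(G)` with small fixed points. -/
structure IsSec (N U₀ : Subgroup G) [N.Normal] [U₀.Normal] : Prop where
  le : N ≤ U₀
  le_Q : U₀ ≤ Qc
  comm : ∀ u ∈ U₀, ∀ v ∈ U₀, ⁅u, v⁆ ∈ N
  pow : ∀ u ∈ U₀, u ^ p ∈ N
  cent : Qc ≤ secKer N U₀
  faithful : secKer N U₀ ≤ c.π.ker
  small : (c.fixS N U₀).relIndex U₀ ≤ p ^ c.n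

variable {c}

theorem IsSec.ker_le {N U₀ : Subgroup G} [N.Normal] [U₀.Normal] (h : c.IsSec N U₀) : N ≤ c.π.ker :=
  (h.le.trans h.le_Q).trans c.Q_le_ker

/-- The module of a section. -/
def IsSec.toMod {N U₀ : Subgroup G} [N.Normal] [U₀.Normal] (h : c.IsSec N U₀) : Mod (G ⧸ N) p F where
  V := U₀.map (QuotientGroup.mk' N)
  S := c.TT.map (QuotientGroup.mk' N)
  π := QuotientGroup.lift N c.π h.ker_le
  n := c.n
  hn := c.hn
  hF := c.hF
  normal := Subgroup.Normal.map inferInstance _ (QuotientGroup.mk'_surjective _)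
  elem := by
    refine ⟨⟨⟨fun x y => ?_⟩⟩, ?_⟩
    · obtain ⟨u, hu, hux⟩ := x.2
      obtain ⟨w, hw, hwy⟩ := y.2
      apply Subtype.ext
      show (x : G ⧸ N) * y = y * x
      rw [← hux, ← hwy, ← commutatorElement_eq_one_iff_mul_comm, ← map_commutatorElement]
      exact (QuotientGroup.eq_one_iff _).2 (h.comm u hu w hw)
    · rintro _ ⟨u, hu, rfl⟩
      rw [← map_pow]
      exact (QuotientGroup.eq_one_iff _).2 (h.pow u hu)
  surj := fun x => (c.surj x).elim fun y hy => ⟨QuotientGroup.mk' N y, hy⟩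
  map_S := by
    rw [Subgroup.map_map]
    exact c.map_S
  S_p := c.S.isPGroup'.map _
  gen := fun x hx => by
    obtain ⟨y, rfl⟩ := QuotientGroup.mk'_surjective N x
    rw [← cj_map, ← Subgroup.map_sup, c.gen y hx,
      Subgroup.map_top_of_surjective _ (QuotientGroup.mk'_surjective _)]
  S_ker := by
    rintro _ ⟨s, hs, rfl⟩ h1
    exact h.cent ((c.mem_Q hs).2 h1)
  cent_le := fun x hx => by
    obtain ⟨y, rfl⟩ := QuotientGroup.mk'_surjective N x
    exact h.faithful hx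
  ker_pow := fun x hx hxp => by
    obtain ⟨y, rfl⟩ := QuotientGroup.mk'_surjective N x
    rw [← map_pow] at hxp
    exact c.secKer_pow h.cent hx hxp
  small := by
    rw [Subgroup.inf_relIndex_left, ← Subgroup.relIndex_comap]
    refine le_of_eq_of_le ?_ h.small
    rw [fixS, Subgroup.inf_relIndex_left]

end Sit

end Cfsg.Agent.Lib.PushUpP
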