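import Cfsg.Agent.Lib.PushUpP.End

/-!
Critical paths of length at least three, or two with `p = 2`, are impossible; so some conjugate of a `V` is
outside a `Q` or the distance is two.
-/

set_option autoImplicit false

namespace Cfsg.Agent.Lib.PushUpP

open scoped commutatorElement

variable {Γ : Type*} [Group Γ]

namespace Fam

variable {p : ℕ} [hp : Fact p.Prime] {ι : Type*} {F : Fam Γ p ι}

theorem adjN_self (g : Γ) (i j : ι) {n : Γ} (hn : n ∈ F.N) :
    F.AdjN n (g, i) (g * n, j) (cj g F.T) :=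
  ⟨hn, 1, (F.D i).X.one_mem, 1, (F.D j).X.one_mem, by group, by rw [mul_one]⟩

theorem exists_dist [Nonempty ι] : ∃ k v w, F.Near k v w ∧ ¬ F.VV v ≤ F.QQ w := by
  by_contra hcon
  push Not at hcon
  obtain ⟨i₀⟩ := ‹Nonempty ι›
  set W := ⨆ d ∈ {d : Γ × ι | ∃ k, F.Near k ((1 : Γ), i₀) d}, F.VV d with hW
  have hWQ : W ≤ (F.D i₀).Q := iSup₂_le fun d ⟨k, hk⟩ => by
    have := hcon k d _ hk.symm
    rwa [show F.QQ ((1 : Γ), i₀) = (F.D i₀).Q from cj_one _] at this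
  have hall : ∀ i, F.Near 1 ((1 : Γ), i₀) ((1 : Γ), i) := fun i => by
    have a := adjN_self (F := F) 1 i₀ i F.N.one_mem
    rw [mul_one] at a
    exact a.near
  have hinv : ∀ y, (∃ k, F.Near k ((1 : Γ), i₀) (lmul y ((1 : Γ), i₀))) → ∀ a ∈ W, y * a * y⁻¹ ∈ W := by
    rintro y ⟨k₀, hk₀⟩ a ha
    have key : ∀ d, (∃ k, F.Near k ((1 : Γ), i₀) d) → ∃ k, F.Near k ((1 : Γ), i₀) (lmul y d) := by
      rintro d ⟨k, hk⟩
      have h := hk.lmul y
      clear hk
      suffices ∀ k v, F.Near k (lmul y ((1 : Γ), i₀)) v → ∃ m, F.Near m ((1 : Γ), i₀) v from this k _ h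
      intro k
      induction k with
      | zero => exact fun v hv => ⟨k₀, hk₀.eqv_right hv⟩
      | succ k ih =>
        rintro v ⟨u, hu, hadj⟩
        obtain ⟨m, hm⟩ := ih u hu
        exact ⟨m + 1, u, hm, hadj⟩
    have hle : cj y W ≤ W := by
      simp only [hW, cj, Subgroup.map_iSup]
      refine iSup₂_le fun d hd => ?_
      show cj y (F.VV d) ≤ _
      rw [← lmul_V]
      exact le_biSup (fun d => F.VV d) (key d hd)
    exact hle (conj_mem_cj ha)
  have comp : ∀ {k m : ℕ} {u v w : Γ × ι}, F.Near k u v → F.Near m v w → ∃ r, F.Near r u w := by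
    intro k m u v w h
    induction m generalizing w with
    | zero => exact fun h' => ⟨k, h.eqv_right h'⟩
    | succ m ih =>
      rintro ⟨x, hx, hadj⟩
      obtain ⟨r, hr⟩ := ih hx
      exact ⟨r + 1, x, hr, hadj⟩
  have hVW : ∀ i, F.VV ((1 : Γ), i) ≤ W := fun i => le_biSup (fun d => F.VV d)
    (show ((1 : Γ), i) ∈ {d : Γ × ι | ∃ k, F.Near k ((1 : Γ), i₀) d} from ⟨1, hall i⟩)
  have hWc : W ≤ Subgroup.centralizer (W : Set Γ) := iSup₂_le fun d ⟨k, hk⟩ u hu z hz => by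
    have hle : W ≤ F.QQ d := iSup₂_le fun d' ⟨m, hm⟩ => by
      obtain ⟨r, hr⟩ := comp hm.symm hk
      exact hcon r d' d hr
    exact Data.Q_cent' (hle hz) hu
  have hWp : W ≤ ({ carrier := {a | a ∈ W ∧ a ^ p = 1}
                    one_mem' := ⟨one_mem _, one_pow p⟩
                    mul_mem' := fun {a b} ha hb => ⟨mul_mem ha.1 hb.1, by
                      rw [(show Commute a b from (hWc ha.1 b hb.1).symm).mul_pow, ha.2, hb.2, one_mul]⟩
                    inv_mem' := fun {a} ha => ⟨inv_mem ha.1, by rw [inv_pow, ha.2, inv_one]⟩ } : Subgroup Γ) :=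
    iSup₂_le fun d hd u hu => ⟨le_biSup (fun d => F.VV d) hd hu, Data.V_pow' hu⟩
  refine F.core W (hWQ.trans ((F.D i₀).Q_le_T.trans (F.hT i₀).le))
    (fun a ha => ⟨(hWp ha).2, fun b hb => (hWc ha b hb).symm⟩)
    (fun i => by
      have h := hVW i
      rwa [show F.VV ((1 : Γ), i) = (F.D i).V from cj_one _] at h)
    (fun i x hx => hinv x ⟨2, by
      have h2 : F.Eqv ((1 : Γ), i) (lmul x ((1 : Γ), i)) := ⟨rfl, by simpa using hx⟩
      exact ⟨_, (hall i).eqv_right h2, by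
        have a := (adjN_self (F := F) 1 i₀ i F.N.one_mem)
        rw [mul_one] at a
        exact ⟨_, _, a.symm.lmul x⟩⟩⟩)
    (fun n hn => hinv n ⟨1, by
      have a := adjN_self (F := F) 1 i₀ i₀ hn
      rw [one_mul] at a
      rw [show lmul n ((1 : Γ), i₀) = (n, i₀) from Prod.ext (mul_one n) rfl]
      exact a.near⟩)

theorem Path.good_both {b : ℕ} (P : F.Path b) (hF : F.Far b) (hb : 2 ≤ b) :
    ¬ F.Bad (P.f 0).2 (P.f 1).2 (P.off 0) ∧ ¬ F.Bad (P.f 1).2 (P.f 0).2 (P.off 0)⁻¹ :=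
  ⟨good_right P hF hb, P.good_left hF hb⟩

theorem triple {n : Γ} {v h h' : Γ × ι} {E E' : Subgroup Γ} (a : F.AdjN n v h E) (a' : F.AdjN n v h' E')
    (ht : h.2 = h'.2) : ∃ y ∈ F.XX v, F.Eqv h (lmul y h') ∧ cj y E' = E := by
  obtain ⟨g, i⟩ := v
  obtain ⟨u, j⟩ := h
  obtain ⟨u', j'⟩ := h'
  obtain rfl : j = j' := ht
  obtain ⟨-, x, hx, c, hc, e1, rfl⟩ := a
  obtain ⟨-, x', hx', c', hc', e2, rfl⟩ := a'
  change u = g * x * n * c at e1
  change u' = g * x' * n * c' at e2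
  subst e1 e2
  refine ⟨g * x * x'⁻¹ * g⁻¹, mem_cj.2 ?_, ⟨rfl, ?_⟩, ?_⟩
  · simpa [mul_assoc] using (F.D i).X.mul_mem hx ((F.D i).X.inv_mem hx')
  · show (g * x * n * c)⁻¹ * (g * x * x'⁻¹ * g⁻¹ * (g * x' * n * c')) ∈ (F.D j).X
    rw [show (g * x * n * c)⁻¹ * (g * x * x'⁻¹ * g⁻¹ * (g * x' * n * c')) = c⁻¹ * c' by group]
    exact (F.D j).X.mul_mem ((F.D j).X.inv_mem hc) hc'
  · rw [← cj_mul]
    congr 1; group

/-- Alternating extension of a critical path. -/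
theorem exists_chain {b : ℕ} (P₀ : F.Path b) (hF : F.Far b) (hb : 2 ≤ b) : ∀ j : ℕ,
    ∃ P : F.Path b, (∀ i < b + j, F.AdjN (P.off i) (P.f i) (P.f (i + 1)) (P.E i)) ∧
      (∀ i ≤ j, ¬ F.VV (P.f i) ≤ F.QQ (P.f (i + b))) ∧
      ∀ i < j, ¬ Same p (P.E i) (P.E (i + 1)) ∧ ∃ y ∈ F.XX (P.f (i + 1)),
        F.Eqv (P.f i) (lmul y (P.f (i + 2))) ∧ cj y (P.E (i + 1)) = P.E i := by
  intro j
  induction j with
  | zero =>
    exact ⟨P₀, P₀.adj, fun i hi => by obtain rfl := Nat.le_zero.1 hi; simpa using P₀.crit,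
      fun i hi => absurd hi (Nat.not_lt_zero i)⟩
  | succ j ih =>
    obtain ⟨P, h1, h2, h3⟩ := ih
    have hg := P.good_both hF hb
    obtain ⟨P', hne, hoff, htype, hi⟩ := P.exists_shift hF (by omega) (P.adj 0 (by omega)).1 hg.1
    refine ⟨P', fun i hij => ?_, fun i hij => ?_, fun i hij => ?_⟩
    · match i with
      | 0 => exact P'.adj 0 (by omega)
      | i + 1 =>
        rw [(hi i).2.2, (hi i).2.1, (hi i).1, (hi (i + 1)).1]
        exact h1 i (by omega)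
    · match i with
      | 0 => simpa using P'.crit
      | i + 1 =>
        rw [show i + 1 + b = (i + b) + 1 by omega, (hi i).1, (hi (i + b)).1]
        exact h2 i (by omega)
    · match i with
      | 0 =>
        refine ⟨by rw [(hi 0).2.1]; exact hne, ?_⟩
        have a := (P'.adj 0 (by omega)).symm
        rw [hoff, inv_inv, show (0 : ℕ) + 1 = 0 + 1 from rfl, (hi 0).1] at a
        rw [(hi 0).1, show (0 : ℕ) + 2 = 1 + 1 from rfl, (hi 1).1, (hi 0).2.1]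
        exact triple a (P.adj 0 (by omega)) htype
      | i + 1 =>
        rw [(hi i).1, (hi (i + 1)).1, show i + 1 + 2 = (i + 2) + 1 by omega, (hi (i + 2)).1,
          (hi i).2.1, (hi (i + 1)).2.1]
        exact h3 i (by omega)

/-- A triple carries `K`-membership across the middle vertex. -/
theorem K_transfer {v v' v'' : Γ × ι} {y x : Γ} (hy : y ∈ F.XX v') (h : F.Eqv v (lmul y v''))
    (h1 : x ∈ F.KK v') (h2 : x ∈ F.KK v'') : x ∈ F.KK v := by
  rw [← h.eqs.2.2.1, lmul_K,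
    show x = y * x * y⁻¹ by rw [Data.K_comm hy h1, mul_inv_cancel_right]]
  exact conj_mem_cj h2

theorem false_of_three {b : ℕ} (P₀ : F.Path b) (hF : F.Far b) (hb : 3 ≤ b) : False := by
  obtain ⟨P, hadj, hcrit, htr⟩ := exists_chain P₀ hF (by omega) 3
  have win : ∀ i ≤ 3, F.Crit (P.f i) (P.f (i + b)) (P.E i) (P.E (i + (b - 1))) := fun i hi =>
    (Path.mk (fun k => P.f (i + k)) (fun k => P.E (i + k)) (fun k => P.off (i + k))
      (fun k hk => hadj (i + k) (by omega)) (hcrit i hi) : F.Path b).toCrit hF (by omega)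
  have c1 := win 1 (by omega)
  obtain ⟨v, hv, hvQ⟩ := SetLike.not_le_iff_exists.1 c1.2.2.2.2
  obtain ⟨w, hw, hwQ⟩ := SetLike.not_le_iff_exists.1 c1.symm.2.2.2.2
  have hwE : w ∈ P.E 1 := c1.2.2.1 hw
  have hvE : v ∈ P.E (1 + (b - 1)) := c1.2.2.2.1 hv
  have hvZ : ¬ InZ p (P.E 1) v := fun h => hvQ (c1.2.1.mem_Q hvE fun u hu =>
    (h.2.2 u (c1.2.2.1 hu)).symm)
  set x := ⁅v, w⁆ with hxdef
  have hx1 : InZ p (P.E 1) x := c1.1.comm_inZ hwE hv
  have hxK1 : x ∉ F.KK (P.f 1) := c1.1.comm_notK hwE hwQ hv hvZ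
  have hxb : x ∈ F.VV (P.f (1 + b)) := by
    have h := inZ_inv (c1.2.1.comm_inZ hvE hw)
    rw [commutatorElement_inv] at h
    exact c1.2.1.inZ_mem_V h
  have hxV2 : x ∈ F.VV (P.f 2) := (hadj 1 (by omega)).edge'.inZ_mem_V hx1
  obtain ⟨hne1, -⟩ := htr 1 (by omega)
  obtain ⟨hne2, -⟩ := htr 2 (by omega)
  have hxK2 : x ∈ F.KK (P.f 2) := by
    refine (win 2 (by omega)).mem_K (hadj 1 (by omega)).edge' hne1 hxV2 hx1.2.2 fun u hu => ?_
    have a := (hadj (1 + b) (by omega)).symm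
    rw [show 1 + b + 1 = 2 + b by omega] at a
    exact hF.commute (by omega) a.near hu hxb
  have hx2 : InZ p (P.E 2) x := (win 2 (by omega)).1.K_inZ hxK2
  have hxV3 : x ∈ F.VV (P.f 3) := (hadj 2 (by omega)).edge'.inZ_mem_V hx2
  have hxK3 : x ∈ F.KK (P.f 3) := by
    refine (win 3 (by omega)).mem_K (hadj 2 (by omega)).edge' hne2 hxV3 hx2.2.2 fun u hu => ?_
    have a := (hadj (1 + b) (by omega)).symm
    rw [show 1 + b + 1 = 2 + b by omega] at a
    have a' := (hadj (2 + b) (by omega)).symm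
    rw [show 2 + b + 1 = 3 + b by omega] at a'
    exact hF.commute (k := 2) (by omega) (a'.near.extend a) hu hxb
  obtain ⟨-, y, hy, hyg, -⟩ := htr 1 (by omega)
  exact hxK1 (K_transfer hy hyg hxK2 hxK3)

theorem comm_eq_of_sq {a b : Γ} (h : ⁅a, b⁆ * ⁅a, b⁆ = 1) : ⁅b, a⁆ = ⁅a, b⁆ := by
  rw [← commutatorElement_inv a b]
  exact inv_eq_of_mul_eq_one_left h

theorem false_of_two (hp2 : p = 2) (P₀ : F.Path 2) (hF : F.Far 2) : False := by
  subst hp2
  obtain ⟨P, hadj, hcrit, htr⟩ := exists_chain P₀ hF le_rfl 2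
  let P1 : F.Path 2 := Path.mk (fun k => P.f (1 + k)) (fun k => P.E (1 + k))
    (fun k => P.off (1 + k)) (fun k hk => hadj (1 + k) (by omega)) (hcrit 1 (by omega))
  have c0 := P.toCrit hF (by omega)
  have c1 : F.Crit (P.f 1) (P.f 3) (P.E 1) (P.E 2) := P1.toCrit hF (by omega)
  obtain ⟨hne01, y, hy, hyg, hyE⟩ := htr 0 (by omega)
  obtain ⟨hne12, -⟩ := htr 1 (by omega)
  obtain ⟨v, hv, hvQ⟩ := SetLike.not_le_iff_exists.1 c0.2.2.2.2
  obtain ⟨w, hw, hwQ⟩ := SetLike.not_le_iff_exists.1 c1.symm.2.2.2.2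
  have hvE1 : v ∈ P.E 1 := c0.2.2.2.1 hv
  have hwE1 : w ∈ P.E 1 := c1.2.2.1 hw
  have a0 := hadj 0 (by omega)
  have a1 := hadj 1 (by omega)
  have a2 := hadj 2 (by omega)
  have hwX : w ∈ F.XX (P.f 1) := a1.edge.le_X hwE1
  have hmov : ¬ Same 2 (cj w (P.E 0)) (P.E 0) := a1.edge.moved a0.edge' hne01 hwE1 hwQ
  set h := w * y with hh
  have hhX : F.Eqv (P.f 1) (lmul h (P.f 1)) := Eqv.of_mem (mul_mem hwX hy)
  have hh2 : F.Eqv (lmul w (P.f 0)) (lmul h (P.f 2)) := by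
    have h1 := hyg.lmul w
    rwa [show lmul w (lmul y (P.f 2)) = lmul h (P.f 2) from Prod.ext (mul_assoc _ _ _).symm rfl] at h1
  let Ph : F.Path 2 :=
    { f := fun k => lmul h (P.f (1 + k))
      E := fun k => cj h (P.E (1 + k))
      off := fun k => P.off (1 + k)
      adj := fun k hk => (hadj (1 + k) (by omega)).lmul h
      crit := fun hle => hcrit 1 (by omega) ((cj_le_cj (g := h)).1 (by
        rw [← lmul_V, ← lmul_Q]; exact hle)) }
  have ch : F.Crit (lmul h (P.f 1)) (lmul h (P.f 3)) (cj h (P.E 1)) (cj h (P.E 2)) :=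
    Ph.toCrit hF (by omega)
  have hne : ¬ Same 2 (P.E 0) (cj h (P.E 1)) := by
    rw [hh, cj_mul, hyE]; exact not_same_symm hmov
  have hkey : ¬ F.VV (P.f 0) ≤ F.QQ (lmul w (P.f 0)) := fun hle => by
    refine shift ch (a0.symm.eqv_left hhX) hne (P.good_both hF le_rfl).2 (hle.trans ?_)
    rw [← hh2.eqs.2.1]
    exact (a2.lmul h).edge.Q_le
  have aw : F.AdjN (P.off 0) (lmul w (P.f 0)) (P.f 1) (cj w (P.E 0)) :=
    (a0.lmul w).eqv_right (Eqv.of_mem hwX).symm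
  let Pz : F.Path 2 :=
    { f := fun k => match k with
        | 0 => P.f 0
        | 1 => P.f 1
        | _ + 2 => lmul w (P.f 0)
      E := fun k => match k with
        | 0 => P.E 0
        | _ + 1 => cj w (P.E 0)
      off := fun k => match k with
        | 0 => P.off 0
        | _ + 1 => (P.off 0)⁻¹
      adj := fun k hk => match k with
        | 0 => a0
        | 1 => aw.symm
      crit := hkey }
  have cz : F.Crit (P.f 0) (lmul w (P.f 0)) (P.E 0) (cj w (P.E 0)) := Pz.toCrit hF (by omega)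
  set v' := w * v * w⁻¹ with hv'
  have hv'V : v' ∈ F.VV (lmul w (P.f 0)) := by rw [lmul_V]; exact conj_mem_cj hv
  have hv'E : v' ∈ P.E 0 := cz.2.2.1 hv'V
  have hvE' : v ∈ cj w (P.E 0) := cz.2.2.2.1 hv
  have hvZ : ¬ InZ 2 (P.E 0) v := fun hz => hvQ (c0.2.1.mem_Q hvE1 fun u hu =>
    (hz.2.2 u (c0.2.2.1 hu)).symm)
  have hv'Q : v' ∉ F.QQ (P.f 0) := by
    intro hq
    obtain ⟨u, hu, huQ⟩ := SetLike.not_le_iff_exists.1 hkey
    have hz := cz.2.1.fix (cz.2.2.2.1 hu) huQ hv'V (Data.Q_cent' hq hu).symm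
    rw [inZ_cj] at hz
    exact hvZ (by simpa [hv', mul_assoc] using hz)
  set x := ⁅v, v'⁆ with hxdef
  have hx0 : InZ 2 (P.E 0) x := cz.1.comm_inZ hv'E hv
  have hx0' : InZ 2 (cj w (P.E 0)) x := by
    have h' := cz.2.1.comm_inZ hvE' hv'V
    rwa [comm_eq_of_sq (by rw [← pow_two]; exact hx0.2.1)] at h'
  have hxK0 : x ∉ F.KK (P.f 0) := cz.1.comm_notK hv'E hv'Q hv hvZ
  have hxK1 : x ∈ F.KK (P.f 1) :=
    Data.mem_K_of_edges a0.edge' aw.edge' (not_same_symm hmov) (a0.edge'.inZ_mem_V hx0) hx0.2.2 hx0'.2.2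
  -- the same commutator seen from `P.f 2`
  have hvv : v * v = 1 := by rw [← pow_two]; exact Data.V_pow' hv
  have hww : w * w = 1 := by rw [← pow_two]; exact Data.V_pow' hw
  set w' := v * w * v⁻¹ with hw'
  have hvX2 : v ∈ F.XX (P.f 2) := a1.edge'.le_X hvE1
  have hwQ2 : w ∈ F.QQ (P.f 2) := hF 1 (by omega) (P.f 3) (P.f 2) a2.symm.near hw
  have hw'Q2 : w' ∈ F.QQ (P.f 2) := Data.Q_conj _ hvX2 hwQ2
  have hw'V : w' ∈ F.VV (lmul v (P.f 3)) := by rw [lmul_V]; exact conj_mem_cj hw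
  have hw'w : w' * w' = 1 := by rw [← pow_two]; exact Data.V_pow' hw'V
  have hv'v : v' * v' = 1 := by rw [← pow_two]; exact Data.V_pow' hv'V
  have sqc : ∀ {a b : Γ}, a * a = 1 → b * b = 1 → ⁅a, b⁆ = a * b * (a * b) := by
    intro a b ha hb
    rw [commutatorElement_def, inv_eq_of_mul_eq_one_left ha, inv_eq_of_mul_eq_one_left hb]
    group
  have hxeq : x = ⁅w', w⁆ := by
    have e : v * v' = w' * w := by
      rw [hv', hw', inv_eq_of_mul_eq_one_left hvv, inv_eq_of_mul_eq_one_left hww]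
      group
    rw [hxdef, sqc hvv hv'v, sqc hw'w hww, e]
  have av : F.AdjN (P.off 2) (P.f 2) (lmul v (P.f 3)) (cj v (P.E 2)) :=
    (a2.lmul v).eqv_left (Eqv.of_mem hvX2).symm
  have hx2' : InZ 2 (cj v (P.E 2)) x := by
    rw [hxeq]; exact av.edge'.comm_inZ (av.edge.Q_le hwQ2) hw'V
  have hx2 : InZ 2 (P.E 2) x := by
    have h' := a2.edge'.comm_inZ (a2.edge.Q_le hw'Q2) hw
    have e : ⁅w', w⁆ = ⁅w, w'⁆ :=
      comm_eq_of_sq (a := w) (b := w') (by rw [← pow_two]; exact h'.2.1)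
    rw [hxeq, e]
    exact h'
  have hxK2 : x ∈ F.KK (P.f 2) :=
    Data.mem_K_of_edges a2.edge av.edge (not_same_symm (a1.edge'.moved a2.edge (not_same_symm hne12) hvE1 hvQ))
      (a2.edge.inZ_mem_V hx2) hx2.2.2 hx2'.2.2
  exact hxK0 (K_transfer hy hyg hxK1 hxK2)

/-- The minimal noncommuting distance is one or two. -/
theorem one_or_two [Nonempty ι] :
    (∃ n ∈ F.N, ∃ i j, ¬ cj n (F.D j).V ≤ (F.D i).Q) ∨ (Nonempty (F.Path 2) ∧ F.Far 2) := by
  classical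
  obtain ⟨g, h, hn, hcr⟩ := Nat.find_spec (exists_dist (F := F))
  set b := Nat.find (exists_dist (F := F)) with hb
  have hF : F.Far b := fun k hk g h hgh => not_not.1 fun hne =>
    Nat.find_min (exists_dist (F := F)) hk ⟨g, h, hgh, hne⟩
  obtain ⟨f, E, off, h0, hfb, hadj⟩ := exists_seq hn
  let P : F.Path b :=
    { f := f, E := E, off := off, adj := hadj
      crit := by rw [hfb, h0.eqs.1]; exact hcr }
  match b, hF, P with
  | 0, _, P => exact absurd (cj_mono (P.f 0).1 (F.D (P.f 0).2).V_le_Q) P.crit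
  | 1, _, P =>
    obtain ⟨hnN, x, hx, x', hx', he, -⟩ := P.adj 0 (by omega)
    refine Or.inl ⟨(P.off 0)⁻¹, F.N.inv_mem hnN, (P.f (0 + 1)).2, (P.f 0).2, fun hle => P.crit ?_⟩
    show cj (P.f 0).1 (F.D (P.f 0).2).V ≤ cj (P.f (0 + 1)).1 (F.D (P.f (0 + 1)).2).Q
    rw [he, (Data.cj_mulX _ hx').2.1, cj_mul, ← (Data.cj_mulX (P.f 0).1 hx).1]
    refine cj_mono _ ?_
    rw [← cj_le_cj (g := (P.off 0)⁻¹), cj_inv_cancel]
    exact hle
  | 2, hF, P => exact Or.inr ⟨⟨P⟩, hF⟩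
  | b + 3, hF, P => exact (false_of_three P hF (by omega)).elim

end Fam

end Cfsg.Agent.Lib.PushUpP
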