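import Cfsg.Agent.Lib.PushUpP.Psl
import Mathlib.Tactic.Group
import Mathlib.GroupTheory.PGroup

/-!
Pushing up in rank one: the data of one group inside an overgroup `Γ`.  (After the characteristic two argument in
`PushUp2`.)
-/

set_option autoImplicit false

namespace Cfsg.Agent.Lib.PushUpP

open scoped commutatorElement

variable {Γ : Type*} [Group Γ]

/-- The facts about `X` (with `X / Q` over `PSL₂(pⁿ)`, `T` a Sylow `p`-subgroup, `Z = Ω₁(Z(T))`,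
`V = ⟨Z^X⟩`, `K = C_V(X)`) used by the chain argument. -/
structure Data (Γ : Type*) [Group Γ] (p : ℕ) where
  X : Subgroup Γ
  Q : Subgroup Γ
  T : Subgroup Γ
  V : Subgroup Γ
  Z : Subgroup Γ
  K : Subgroup Γ
  finX : Finite ↥X
  Q_le_T : Q ≤ T
  T_le_X : T ≤ X
  V_le_Q : V ≤ Q
  Z_le_V : Z ≤ V
  K_le_Z : K ≤ Z
  V_ne : V ≠ ⊥
  Q_norm : ∀ x ∈ X, ∀ a ∈ Q, x * a * x⁻¹ ∈ Q
  V_norm : ∀ x ∈ X, ∀ a ∈ V, x * a * x⁻¹ ∈ V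
  V_pow : ∀ v ∈ V, v ^ p = 1
  Q_cent : ∀ a ∈ Q, ∀ v ∈ V, a * v = v * a
  mem_Q : ∀ t ∈ T, (∀ v ∈ V, t * v = v * t) → t ∈ Q
  mem_Z : ∀ z, z ∈ Z ↔ z ∈ T ∧ z ^ p = 1 ∧ ∀ t ∈ T, t * z = z * t
  mem_K : ∀ k ∈ V, k ∈ K ↔ ∀ x ∈ X, x * k = k * x
  fix_eq : ∀ t ∈ T, t ∉ Q → ∀ v ∈ V, t * v = v * t → v ∈ Z
  comm_mem : ∀ t ∈ T, ∀ v ∈ V, ⁅v, t⁆ ∈ Z
  comm_not_mem : ∀ t ∈ T, t ∉ Q → ∀ v ∈ V, v ∉ Z → ⁅v, t⁆ ∉ K
  relIndex_eq : Z.relIndex V = Q.relIndex T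
  gen : ∀ x ∈ X, cj x Z ≠ Z → X ≤ T ⊔ cj x T
  exists_other : ∃ x ∈ X, cj x Z ≠ Z
  no_norm : ∀ t ∈ T, t ∉ Q → ∀ x ∈ X, cj x Z ≠ Z → cj t (cj x Z) ≠ cj x Z
  T_p : IsPGroup p ↥T
  neg : p ≠ 2 → ∃ r ∈ X, ∀ v ∈ V, r * v * r⁻¹ * v ∈ K
  coprime_mem : ∀ k ∈ X, (∀ v ∈ V, ⁅v, k⁆ ∈ K) →
    (∀ z ∈ Subgroup.zpowers k, (orderOf z).Coprime p → ∀ a ∈ Q, z * a = a * z) → k ∈ Q
  off : ∃ A : Subgroup Γ, A ≤ T ∧ (∀ a ∈ A, ∀ b ∈ A, a * b = b * a) ∧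
    (∀ B : Subgroup Γ, B ≤ T → (∀ a ∈ B, ∀ b ∈ B, a * b = b * a) →
      (∀ m : ℕ, (∀ a ∈ A, a ^ m = 1) → ∀ b ∈ B, b ^ m = 1) → Nat.card ↥B ≤ Nat.card ↥A) ∧
    (∀ m : ℕ, (∀ a ∈ A, a ^ m = 1) → p ∣ m) ∧ ¬ A ≤ Q

namespace Data

variable {p : ℕ} (D : Data Γ p)

/-- The set of automorphism-inducing elements. -/
def N : Subgroup Γ := Subgroup.normalizer (D.T : Set Γ)

theorem cj_T {n : Γ} (hn : n ∈ D.N) : cj n D.T = D.T := by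
  ext a
  rw [mem_cj]
  exact ((Subgroup.mem_normalizer_iff''.1 hn) a).symm

theorem cj_Q {x : Γ} (hx : x ∈ D.X) : cj x D.Q = D.Q := by
  ext a
  rw [mem_cj]
  refine ⟨fun h => ?_, fun h => ?_⟩
  · simpa [mul_assoc] using D.Q_norm x hx _ h
  · simpa [mul_assoc] using D.Q_norm x⁻¹ (D.X.inv_mem hx) _ h

theorem cj_V {x : Γ} (hx : x ∈ D.X) : cj x D.V = D.V := by
  ext a
  rw [mem_cj]
  refine ⟨fun h => ?_, fun h => ?_⟩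
  · simpa [mul_assoc] using D.V_norm x hx _ h
  · simpa [mul_assoc] using D.V_norm x⁻¹ (D.X.inv_mem hx) _ h

theorem cj_K {x : Γ} (hx : x ∈ D.X) : cj x D.K = D.K := by
  have key : ∀ y ∈ D.X, ∀ k ∈ D.K, y⁻¹ * k * y = k := fun y hy k hk => by
    rw [mul_assoc, ← ((D.mem_K k (D.Z_le_V (D.K_le_Z hk))).1 hk y hy), inv_mul_cancel_left]
  ext a
  rw [mem_cj]
  refine ⟨fun h => ?_, fun h => ?_⟩
  · have h1 := key x⁻¹ (D.X.inv_mem hx) _ h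
    have h2 : a = x⁻¹ * a * x := by
      simpa [mul_assoc] using h1
    rw [h2]; exact h
  · rw [key x hx a h]; exact h

theorem cj_Z {n : Γ} (hn : n ∈ D.N) : cj n D.Z = D.Z := by
  have key : ∀ m ∈ D.N, ∀ z ∈ D.Z, m * z * m⁻¹ ∈ D.Z := by
    intro m hm z hz
    obtain ⟨hzT, hz2, hzc⟩ := (D.mem_Z z).1 hz
    refine (D.mem_Z _).2 ⟨(Subgroup.mem_normalizer_iff.1 hm z).1 hzT, ?_, fun t ht => ?_⟩
    · rw [conj_pow, hz2, mul_one, mul_inv_cancel]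
    · have h := hzc (m⁻¹ * t * m) ((Subgroup.mem_normalizer_iff''.1 hm t).1 ht)
      calc t * (m * z * m⁻¹) = m * ((m⁻¹ * t * m) * z) * m⁻¹ := by group
        _ = m * (z * (m⁻¹ * t * m)) * m⁻¹ := by rw [h]
        _ = m * z * m⁻¹ * t := by group
  ext a
  rw [mem_cj]
  refine ⟨fun h => ?_, fun h => ?_⟩
  · simpa [mul_assoc] using key n hn _ h
  · simpa [mul_assoc] using key n⁻¹ (D.N.inv_mem hn) _ h

end Data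

end Cfsg.Agent.Lib.PushUpP
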