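import Cfsg.Agent.Lib.PushUpP.SL2

/-!
Coprime steps along a series, chief factors inside `Q`, and iterated commutators.
-/

set_option autoImplicit false
set_option linter.unusedSectionVars false
set_option linter.style.haveILetI false

open scoped commutatorElement

namespace Cfsg.Agent.Lib.PushUpP.Sit

variable {G : Type*} [Group G] [Finite G] {p : ℕ} [hp : Fact p.Prime] {F : Type} [Field F] [Fintype F]
variable {c : Sit G p F}

local notation "Qc" => Cfsg.pCore p G

/-- A coprime element centralizing a `p`-subgroup `N` and `M / N` centralizes `M`. -/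
theorem cent_step {N M : Subgroup G} [N.Normal] (hNp : N ≤ Qc) {z : G} (hz : (orderOf z).Coprime p)
    (h1 : z ∈ Subgroup.centralizer (N : Set G)) (h2 : z ∈ secKer N M) :
    z ∈ Subgroup.centralizer (M : Set G) := by
  refine Subgroup.mem_centralizer_iff.2 fun u hu => ?_
  set w := ⁅z, u⁆ with hw
  have hwN : w ∈ N := by
    rw [hw, ← commutatorElement_inv]
    exact inv_mem (mem_secKer.1 h2 u hu)
  have hwz : z * w = w * z := (Subgroup.mem_centralizer_iff.1 h1 w hwN).symm
  obtain ⟨k, hk⟩ := Cores.pCore_isPGroup (G := G) p ⟨w, hNp hwN⟩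
  have h3 := pow_conj_of_fix (conj_eq_comm_mul z u) hwz (orderOf z)
  rw [pow_orderOf_eq_one, one_mul, inv_one, mul_one] at h3
  have hwo : w ^ orderOf z = 1 := mul_eq_right.1 h3.symm
  have h4 : orderOf w ∣ Nat.gcd (p ^ k) (orderOf z) :=
    Nat.dvd_gcd (orderOf_dvd_of_pow_eq_one (congrArg Subtype.val hk)) (orderOf_dvd_of_pow_eq_one hwo)
  rw [Nat.Coprime.gcd_eq_one (hz.symm.pow_left k), Nat.dvd_one, orderOf_eq_one_iff] at h4
  rw [← mul_inv_eq_iff_eq_mul.1 (show z * u * z⁻¹ = u by rw [conj_eq_comm_mul, ← hw, h4, one_mul])]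

/-- An element of the kernel whose coprime part centralizes `Q` lies in `Q`. -/
theorem mem_Q_of_coprime_part {y : G} (hy : y ∈ c.π.ker)
    (h : ∀ z ∈ Subgroup.zpowers y, (orderOf z).Coprime p → z ∈ Subgroup.centralizer (Qc : Set G)) : y ∈ Qc := by
  obtain ⟨a, l, hl, hal⟩ := Nat.exists_eq_pow_mul_and_not_dvd (orderOf_pos y).ne' p hp.out.ne_one
  refine c.ker_pElement (k := a) hy ?_
  set z := y ^ p ^ a
  have hzo : orderOf z = l := by
    rw [orderOf_pow_of_dvd (pow_ne_zero _ hp.out.ne_zero) (hal ▸ dvd_mul_right _ _), hal,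
      Nat.mul_div_cancel_left _ (pow_pos hp.out.pos a)]
  have hcop : l.Coprime p := ((hp.out.coprime_iff_not_dvd).2 hl).symm
  have hz : z ∈ Qc := c.hE₁ (h z (Subgroup.pow_mem _ (Subgroup.mem_zpowers y) _) (hzo.symm ▸ hcop))
  obtain ⟨k, hk⟩ := Cores.pCore_isPGroup (G := G) p ⟨z, hz⟩
  have h4 : orderOf z ∣ Nat.gcd (p ^ k) l :=
    Nat.dvd_gcd (orderOf_dvd_of_pow_eq_one (congrArg Subtype.val hk)) hzo.dvd
  rw [Nat.Coprime.gcd_eq_one (hcop.symm.pow_left k), Nat.dvd_one, orderOf_eq_one_iff] at h4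
  exact h4

/-- `O_p(G)` centralizes the chief factors inside it. -/
theorem chief_Q_central {U' W' : Subgroup G} [W'.Normal] (hch : Cfsg.IsChiefFactor U' W') (hU : U' ≤ Qc) :
    Qc ≤ secKer W' U' := by
  obtain ⟨hlt, hUn, -, hmin⟩ := hch
  haveI := hUn
  let f : G →* G ⧸ W' := QuotientGroup.mk' W'
  have hfs : Function.Surjective f := QuotientGroup.mk'_surjective _
  haveI : ((Qc).map f).Normal := Subgroup.Normal.map inferInstance _ hfs
  haveI : (U'.map f).Normal := Subgroup.Normal.map inferInstance _ hfs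
  set P := (Qc).map f with hP
  haveI : ((U'.map f).subgroupOf P).Normal := Subgroup.normal_subgroupOf
  have hne : (U'.map f).subgroupOf P ≠ ⊥ := by
    intro h
    rw [Subgroup.subgroupOf_eq_bot, disjoint_iff, inf_eq_left.2 (hP ▸ Subgroup.map_mono hU)] at h
    exact hlt.not_ge ((Subgroup.map_eq_bot_iff _).1 h |>.trans_eq (QuotientGroup.ker_mk' W'))
  have hPp : IsPGroup p ↥P := (Cores.pCore_isPGroup (G := G) p).map f
  have hz := PGroups.normal_inf_center_ne_bot hPp _ hne
  set N := (U'.map f ⊓ Subgroup.centralizer (P : Set (G ⧸ W'))).comap f with hN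
  have hmemN : ∀ x, x ∈ N ↔ f x ∈ U'.map f ⊓ Subgroup.centralizer (P : Set (G ⧸ W')) := fun x => Iff.rfl
  have hNU : N ≤ U' := fun x hx => by
    have h : x ∈ (U'.map f).comap f := hx.1
    rwa [Subgroup.comap_map_eq_self (by rw [QuotientGroup.ker_mk']; exact hlt.le)] at h
  have hWN : W' ≤ N := fun x hx => by
    rw [hmemN, show f x = 1 from (QuotientGroup.eq_one_iff _).2 hx]; exact one_mem _
  have hNn : N.Normal := by rw [hN]; exact Subgroup.Normal.comap inferInstance _
  rcases hmin N hNn hWN hNU with h | h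
  · exfalso
    apply hz
    refine le_bot_iff.1 fun x hx => ?_
    obtain ⟨g, hg⟩ := hfs (x : G ⧸ W')
    have hgN : g ∈ N := by
      rw [hmemN, hg]
      exact ⟨hx.1, Subgroup.mem_centralizer_iff.2 fun y hy =>
        congrArg Subtype.val (Subgroup.mem_center_iff.1 hx.2 ⟨y, hy⟩)⟩
    rw [h] at hgN
    rw [Subgroup.mem_bot]
    exact Subtype.ext (hg ▸ (QuotientGroup.eq_one_iff g).2 hgN)
  · intro q hq
    refine mem_secKer.2 fun u hu => (QuotientGroup.eq_one_iff _).1 ?_
    show f ⁅u, q⁆ = 1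
    rw [map_commutatorElement, commutatorElement_eq_one_iff_mul_comm]
    rw [← h] at hu
    exact (Subgroup.mem_centralizer_iff.1 hu.2 _ (Subgroup.mem_map_of_mem f hq)).symm

/-- A chief factor over a central section is central; over an irreducible one it is isomorphic to it. -/
theorem chief_step {U' W' : Subgroup G} [W'.Normal] (hch : Cfsg.IsChiefFactor U' W') (hU : U' ≤ Qc)
    {N M : Subgroup G} [N.Normal] [M.Normal] (hUM : U' ≤ (U' ⊓ M) ⊔ W') (hUN : ¬ U' ≤ (U' ⊓ N) ⊔ W') :
    (∀ R : Subgroup G, R ⊔ Qc = ⊤ → R ≤ secKer N M → ⁅U', (⊤ : Subgroup G)⁆ ≤ W') ∧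
    (∀ {N₀ : Subgroup G} [N₀.Normal], N = fixG N₀ M → c.IsSec N₀ M → c.NatCoord N M →
      Cfsg.IsNaturalSL2Module F (U'.map (QuotientGroup.mk' W')) (⊤ : Subgroup (G ⧸ W'))) := by
  have hlt := hch.1
  haveI := hch.2.1
  have hN' : U' ⊓ N ≤ W' := by
    rcases hch.2.2.2 ((U' ⊓ N) ⊔ W') inferInstance le_sup_right (sup_le inf_le_left hlt.le) with h | h
    · exact le_sup_left.trans h.le
    · exact absurd h.ge hUN
  refine ⟨fun R hR hRM => ?_, fun {N₀} _ hN₀ hsec nc => ?_⟩
  · have hRK : R ≤ secKer W' U' := by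
      intro r hr
      refine mem_secKer.2 fun u hu => ?_
      have h := hUM hu
      rw [← SetLike.mem_coe, Subgroup.mul_normal] at h
      obtain ⟨a, ha, w, hw, rfl⟩ := h
      have h1 : ⁅a, r⁆ ∈ U' ⊓ N := by
        refine ⟨?_, mem_secKer.1 (hRM hr) a ha.2⟩
        rw [show ⁅a, r⁆ = a * (r * a⁻¹ * r⁻¹) by rw [commutatorElement_def]; group]
        exact mul_mem ha.1 ((inferInstance : U'.Normal).conj_mem _ (inv_mem ha.1) r)
      rw [show ⁅a * w, r⁆ = a * ⁅w, r⁆ * a⁻¹ * ⁅a, r⁆ by simp only [commutatorElement_def]; group]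
      refine mul_mem ((inferInstance : W'.Normal).conj_mem _ ?_ a) (hN' h1)
      rw [show ⁅w, r⁆ = w * (r * w⁻¹ * r⁻¹) by rw [commutatorElement_def]; group]
      exact mul_mem hw ((inferInstance : W'.Normal).conj_mem _ (inv_mem hw) r)
    refine Subgroup.commutator_le.2 fun u hu g _ => ?_
    have htop : (⊤ : Subgroup G) ≤ secKer W' U' := hR ▸ sup_le hRK (chief_Q_central hch hU)
    exact mem_secKer.1 (htop (Subgroup.mem_top g)) u hu
  · have hle : ∀ {A : Subgroup G} [A.Normal], A ≤ M → ¬ A ≤ N → M ≤ A ⊔ N := by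
      intro A _ hA hAN
      rw [hN₀] at hAN ⊢
      exact hsec.irreducible hA hAN
    refine nc.transfer (hlt.le.trans hU) hlt.le hUM (hle inf_le_right fun h => ?_) fun x hx => ⟨fun hxW => ?_, fun hxN => hN' ⟨hx.1, hxN⟩⟩
    · exact hUN (hUM.trans (sup_le_sup_right (le_inf inf_le_left h) W'))
    · by_contra hxN
      have h2 : M ≤ (W' ⊓ M) ⊔ N := hle inf_le_right fun h => hxN (h ⟨hxW, hx.2⟩)
      refine hlt.not_ge (hUM.trans (sup_le (fun a ha => ?_) le_rfl))
      have h3 := h2 ha.2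
      rw [← SetLike.mem_coe, Subgroup.mul_normal] at h3
      obtain ⟨w, hw, n, hn, rfl⟩ := h3
      have hnU : n ∈ U' := by
        simpa using mul_mem (inv_mem (hlt.le hw.1)) ha.1
      exact mul_mem hw.1 (hN' ⟨hnU, hn⟩)

/-- Iterated commutators reach a normal subgroup over which the action is by `Q`. -/
theorem iter_le {R B : Subgroup G} [B.Normal] (hR : R ⊔ Qc = ⊤) (hRB : R ≤ secKer B Qc) :
    ∃ k : ℕ, Cfsg.iterCommutator Qc ⊤ k ≤ B := by
  haveI := (Cores.pCore_isPGroup (G := G) p).isNilpotent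
  obtain ⟨k, hk⟩ := (Subgroup.isNilpotent_iff_lowerCentralSeries (S := Qc)).1 inferInstance
  refine ⟨k, ?_⟩
  suffices h : ∀ i, Cfsg.iterCommutator Qc ⊤ i ≤ (Qc).lowerCentralSeries i ⊔ B by
    simpa [hk] using h k
  have hnorm : ∀ i, ((Qc).lowerCentralSeries i).Normal := by
    intro i
    induction i with
    | zero => exact (inferInstance : (Qc).Normal)
    | succ i ih => rw [Subgroup.lowerCentralSeries_succ]; infer_instance
  intro i
  induction i with
  | zero => exact le_sup_left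
  | succ i ih =>
    haveI := hnorm i
    haveI := hnorm (i + 1)
    refine Subgroup.commutator_le.2 fun u hu g _ => ?_
    have hu' := ih hu
    rw [← SetLike.mem_coe, Subgroup.mul_normal] at hu'
    obtain ⟨a, ha, b, hb, rfl⟩ := hu'
    have hg : g ∈ R ⊔ Qc := hR ▸ Subgroup.mem_top g
    rw [← SetLike.mem_coe, Subgroup.mul_normal] at hg
    obtain ⟨r, hr, q, hq, rfl⟩ := hg
    set T := (Qc).lowerCentralSeries (i + 1) ⊔ B
    haveI : T.Normal := inferInstance
    show ⁅a * b, r * q⁆ ∈ T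
    rw [show ⁅a * b, r * q⁆ = a * ⁅b, r * q⁆ * a⁻¹ * (⁅a, r⁆ * (r * ⁅a, q⁆ * r⁻¹)) by
      simp only [commutatorElement_def]; group]
    refine mul_mem ((inferInstance : T.Normal).conj_mem _ (Subgroup.mem_sup_right ?_) a)
      (mul_mem (Subgroup.mem_sup_right (mem_secKer.1 (hRB hr) a ?_))
        ((inferInstance : T.Normal).conj_mem _ (Subgroup.mem_sup_left ?_) r))
    · rw [show ⁅b, r * q⁆ = b * ((r * q) * b⁻¹ * (r * q)⁻¹) by rw [commutatorElement_def]; group]
      exact mul_mem hb ((inferInstance : B.Normal).conj_mem _ (inv_mem hb) _)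
    · exact Subgroup.lowerCentralSeries_antitone (S := Qc) (Nat.zero_le i) ha
    · rw [Subgroup.lowerCentralSeries_succ]
      exact Subgroup.commutator_mem_commutator ha hq

end Cfsg.Agent.Lib.PushUpP.Sit
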