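import Cfsg.Agent.Lib.PushUpP.Chain
import Cfsg.Agent.Lib.PushUpP.Series
import Cfsg.Agent.Lib.PushUp2.Embed

/-!
The data in an overgroup, and the standard overgroup `Sym(G)`.
-/

set_option autoImplicit false
set_option linter.unusedSectionVars false
set_option linter.style.haveILetI false

open scoped commutatorElement

namespace Cfsg.Agent.Lib.PushUpP.Sit

open Cfsg.Agent.Lib.LAEven57.PushingUp

variable {G : Type*} [Group G] [Finite G] {p : ℕ} [hp : Fact p.Prime] {F : Type} [Field F] [Fintype F]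
variable (c : Sit G p F)

local notation "Qc" => Cfsg.pCore p G

/-- An overgroup in which only the trivial subgroup of `S` is invariant under `G` and the normalizer of `S`. -/
structure Over (c : Sit G p F) (Γ : Type*) [Group Γ] where
  ι : G →* Γ
  inj : Function.Injective ι
  core : ∀ C : Subgroup G, C.Normal → C ≤ c.TT →
    (∀ m ∈ Subgroup.normalizer ((c.TT.map ι : Subgroup Γ) : Set Γ), ∀ a ∈ C, m * ι a * m⁻¹ ∈ C.map ι) → C = ⊥

theorem cj_Z_iff (hd : c.Good) {x : G} : cj x c.Z = c.Z ↔ c.InB x := by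
  rw [← fixS_bot]
  exact (c.secV hd).cj_D_iff

theorem Z_inf (hd : c.Good) {x : G} (hx : ¬ c.InB x) : c.Z ⊓ cj x c.Z = c.C₀ := by
  rw [← fixS_bot, ← fixG_bot]
  exact (c.secV hd).D_inf hx

theorem Z_sup (hd : c.Good) {x : G} (hx : ¬ c.InB x) : c.Z ⊔ cj x c.Z = c.V := by
  have h := (c.secV hd).sup_eq hx
  rwa [fixS_bot] at h

theorem relIndex_ZV (hd : c.Good) : c.Z.relIndex c.V = p ^ c.n := by
  rw [← fixS_bot]
  exact (c.secV hd).D_index

theorem relIndex_CZ (hd : c.Good) : c.C₀.relIndex c.Z = p ^ c.n := by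
  rw [← fixS_bot, ← fixG_bot]
  exact (c.secV hd).C_index

theorem V_fix_eq (hd : c.Good) {t v : G} (ht : t ∈ c.TT) (htQ : t ∉ Qc) (hv : v ∈ c.V)
    (hc : t * v = v * t) : v ∈ c.Z := by
  rw [← fixS_bot]
  exact (c.secV hd).fix_eq ht htQ hv
    (Subgroup.mem_bot.2 (commutatorElement_eq_one_iff_mul_comm.2 hc.symm))

theorem V_comm_mem (hd : c.Good) {t v : G} (ht : t ∈ c.TT) (hv : v ∈ c.V) : ⁅v, t⁆ ∈ c.Z := by
  rw [← fixS_bot]
  exact (c.secV hd).comm_mem hv ht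

theorem V_comm_not_mem (hd : c.Good) {t v : G} (ht : t ∈ c.TT) (htQ : t ∉ Qc) (hv : v ∈ c.V)
    (hvZ : v ∉ c.Z) : ⁅v, t⁆ ∉ c.C₀ := by
  rw [← fixG_bot]
  exact (c.secV hd).comm_not_mem ht htQ hv (by rwa [fixS_bot])

theorem C₀_le_Z : c.C₀ ≤ c.Z := fun k hk =>
  ⟨c.V_le_S hk.1, c.V_pow hk.1, fun t _ => Subgroup.mem_center_iff.1 hk.2 t⟩

theorem exists_neg (hd : c.Good) : ∃ r : G, ∀ v ∈ c.V, r * v * r⁻¹ * v ∈ c.C₀ := by
  rw [← fixG_bot]
  exact (c.secV hd).exists_neg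

instance C₀_normal : c.C₀.Normal := by rw [← fixG_bot]; infer_instance

/-- Elements trivial on `V / C₀` whose `p'`-parts centralize `O_p(G)` lie in it. -/
theorem coprime_mem (hd : c.Good) {k : G} (h : ∀ v ∈ c.V, ⁅v, k⁆ ∈ c.C₀)
    (hc : ∀ z ∈ Subgroup.zpowers k, (orderOf z).Coprime p → ∀ a ∈ Qc, z * a = a * z) : k ∈ Qc := by
  have hle : secKer c.C₀ c.V ≤ c.π.ker := c.secKer_le (A := c.Z)
    (fun z hz => c.mem_fixS.2 ⟨c.Z_le_V hz, fun s hs => by
      rw [commutatorElement_eq_one_iff_mul_comm.2 (hz.2.2 s hs).symm]; exact one_mem _⟩)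
    fun hn => hd.1 (sup_eq_left.2 c.C₀_le_Z ▸ hn)
  exact mem_Q_of_coprime_part (hle (mem_secKer.2 h)) fun z hz hzc =>
    Subgroup.mem_centralizer_iff.2 fun a ha => (hc z hz hzc a ha).symm

variable {Γ : Type*} [Group Γ]

/-- The data in the overgroup. -/
def toData (hd : c.Good) (f : G →* Γ) (hf : Function.Injective f) : Data Γ p where
  X := f.range
  Q := (Qc).map f
  T := c.TT.map f
  V := c.V.map f
  Z := c.Z.map f
  K := c.C₀.map f
  finX := Finite.of_surjective _ f.rangeRestrict_surjective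
  Q_le_T := Subgroup.map_mono c.Q_le_S
  T_le_X := by rintro _ ⟨t, -, rfl⟩; exact ⟨t, rfl⟩
  V_le_Q := Subgroup.map_mono c.V_le_Q
  Z_le_V := Subgroup.map_mono c.Z_le_V
  K_le_Z := Subgroup.map_mono c.C₀_le_Z
  V_ne := fun h => c.V_ne ((Subgroup.map_eq_bot_iff_of_injective _ hf).1 h)
  Q_norm := by
    rintro _ ⟨x, rfl⟩ _ ⟨a, ha, rfl⟩
    exact ⟨x * a * x⁻¹, (inferInstance : (Qc).Normal).conj_mem a ha x, by simp⟩
  V_norm := by
    rintro _ ⟨x, rfl⟩ _ ⟨a, ha, rfl⟩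
    exact ⟨x * a * x⁻¹, c.V_normal.conj_mem a ha x, by simp⟩
  V_pow := by
    rintro _ ⟨v, hv, rfl⟩
    rw [← map_pow, c.V_pow hv, map_one]
  Q_cent := by
    rintro _ ⟨a, ha, rfl⟩ _ ⟨v, hv, rfl⟩
    rw [← map_mul, ← map_mul, c.Q_cent ha hv]
  mem_Q := by
    rintro _ ⟨t, ht, rfl⟩ h
    refine ⟨t, (c.mem_Q ht).2 (c.cent_V_le hd (Subgroup.mem_centralizer_iff.2 fun v hv => ?_)), rfl⟩
    exact (hf (by simpa using h _ ⟨v, hv, rfl⟩)).symm
  mem_Z := fun z => by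
    constructor
    · rintro ⟨z, hz, rfl⟩
      refine ⟨⟨z, hz.1, rfl⟩, by rw [← map_pow, hz.2.1, map_one], ?_⟩
      rintro _ ⟨t, ht, rfl⟩
      rw [← map_mul, ← map_mul, hz.2.2 t ht]
    · rintro ⟨⟨z, hz, rfl⟩, h2, h3⟩
      refine ⟨z, ⟨hz, hf (by simpa using h2), fun t ht => hf ?_⟩, rfl⟩
      simpa using h3 _ ⟨t, ht, rfl⟩
  mem_K := by
    rintro _ ⟨k, hk, rfl⟩
    rw [Subgroup.mem_map_iff_mem hf]
    constructor
    · rintro h _ ⟨x, rfl⟩
      rw [← map_mul, ← map_mul, Subgroup.mem_center_iff.1 h.2 x]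
    · intro h
      exact ⟨hk, Subgroup.mem_center_iff.2 fun x => hf (by simpa using h _ ⟨x, rfl⟩)⟩
  fix_eq := by
    rintro _ ⟨t, ht, rfl⟩ htQ _ ⟨v, hv, rfl⟩ hc
    exact ⟨v, c.V_fix_eq hd ht (fun h => htQ ⟨t, h, rfl⟩) hv (hf (by simpa using hc)), rfl⟩
  comm_mem := by
    rintro _ ⟨t, ht, rfl⟩ _ ⟨v, hv, rfl⟩
    exact ⟨⁅v, t⁆, c.V_comm_mem hd ht hv, map_commutatorElement _ _ _⟩
  comm_not_mem := by
    rintro _ ⟨t, ht, rfl⟩ htQ _ ⟨v, hv, rfl⟩ hvZ h
    rw [← map_commutatorElement, Subgroup.mem_map_iff_mem hf] at h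
    exact c.V_comm_not_mem hd ht (fun h => htQ ⟨t, h, rfl⟩) hv (fun h => hvZ ⟨v, h, rfl⟩) h
  relIndex_eq := by
    rw [Subgroup.relIndex_map_map_of_injective _ _ hf,
      Subgroup.relIndex_map_map_of_injective _ _ hf, c.relIndex_ZV hd, c.relIndex_Q]
  gen := by
    rintro _ ⟨x, rfl⟩ hne
    rw [← cj_map, ← Subgroup.map_sup, MonoidHom.range_eq_map,
      c.gen x fun h => hne (by rw [← cj_map, (c.cj_Z_iff hd).2 h])]
  exists_other := by
    obtain ⟨x, hx⟩ := c.exists_notB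
    refine ⟨f x, ⟨x, rfl⟩, fun h => hx ((c.cj_Z_iff hd).1 (Subgroup.map_injective hf ?_))⟩
    rw [cj_map]; exact h
  no_norm := by
    rintro _ ⟨t, ht, rfl⟩ htQ _ ⟨x, rfl⟩ hne h
    rw [← cj_map] at hne
    rw [← cj_map, ← cj_map] at h
    replace h := Subgroup.map_injective hf h
    have hx : ¬ c.InB x := fun hb => hne (by rw [(c.cj_Z_iff hd).2 hb])
    obtain ⟨v, hv, hvZ⟩ : ∃ v ∈ cj x c.Z, v ∉ c.Z := by
      by_contra hcon
      push Not at hcon
      exact hx ((c.cj_Z_iff hd).1 (Subgroup.eq_of_le_of_card_ge hcon (card_cj x c.Z).ge))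
    have hvV : v ∈ c.V := (cj_mono x c.Z_le_V).trans_eq (cj_eq_of_normal x c.V) hv
    refine c.V_comm_not_mem hd ht (fun hQ => htQ ⟨t, hQ, rfl⟩) hvV hvZ ?_
    rw [← c.Z_inf hd hx]
    refine ⟨c.V_comm_mem hd ht hvV, ?_⟩
    rw [show ⁅v, t⁆ = v * (t * v⁻¹ * t⁻¹) by rw [commutatorElement_def]; group]
    refine mul_mem hv ?_
    rw [← h]
    exact conj_mem_cj (inv_mem hv)
  T_p := c.S.isPGroup'.map f
  neg := fun _ => by
    obtain ⟨r, hr⟩ := c.exists_neg hd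
    refine ⟨f r, ⟨r, rfl⟩, ?_⟩
    rintro _ ⟨v, hv, rfl⟩
    exact ⟨_, hr v hv, by simp⟩
  coprime_mem := by
    rintro _ ⟨k, rfl⟩ h hc
    refine ⟨k, c.coprime_mem hd (fun v hv => ?_) (fun z hz hzc a ha => hf ?_), rfl⟩
    · have h1 := h _ ⟨v, hv, rfl⟩
      rwa [← map_commutatorElement, Subgroup.mem_map_iff_mem hf] at h1
    · rw [map_mul, map_mul]
      refine hc _ ?_ ?_ _ ⟨a, ha, rfl⟩
      · rw [← MonoidHom.map_zpowers]; exact Subgroup.mem_map_of_mem f hz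
      · rwa [orderOf_injective f hf]
  off := by
    obtain ⟨A, ⟨hAT, hAc⟩, hmax, hAQ⟩ := hd.2
    refine ⟨A.map f, Subgroup.map_mono hAT, ?_, fun B hB hBc hBe => ?_,
      fun m hm => c.dvd_of_forall_pow hAT hAQ fun a ha => hf (by
        rw [map_pow, map_one]; exact hm _ ⟨a, ha, rfl⟩),
      fun h => hAQ ((Subgroup.map_le_map_iff_of_injective hf).1 h)⟩
    · rintro _ ⟨a, ha, rfl⟩ _ ⟨b, hb, rfl⟩
      rw [← map_mul, ← map_mul, hAc a ha b hb]
    · have hmap : (B.comap f).map f = B := Subgroup.map_comap_eq_self fun b hb => by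
        obtain ⟨t, -, rfl⟩ := hB hb
        exact ⟨t, rfl⟩
      have h1 := hmax (B.comap f) ⟨fun b hb => by
        obtain ⟨t, ht, htb⟩ := hB hb
        exact hf htb ▸ ht, fun a ha b hb => hf (by rw [map_mul, map_mul]; exact hBc _ ha _ hb)⟩
        fun m hm b hb => hf (by
          rw [map_pow, map_one]
          refine hBe m ?_ _ hb
          rintro _ ⟨a, ha, rfl⟩
          rw [← map_pow, hm a ha, map_one])
      calc Nat.card ↥B = Nat.card ↥((B.comap f).map f) := by rw [hmap]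
        _ = Nat.card ↥(B.comap f) := Subgroup.card_map_of_injective hf
        _ ≤ Nat.card ↥A := h1
        _ = Nat.card ↥(A.map f) := (Subgroup.card_map_of_injective hf).symm

/-- The family of a single group. -/
def Over.toFam {c : Sit G p F} (o : c.Over Γ) (hd : c.Good) : Fam Γ p Unit where
  D _ := c.toData hd o.ι o.inj
  T := c.TT.map o.ι
  hT _ := rfl
  core := by
    intro C hC _ hVC hX' hN
    have hX := hX' ()
    have hCn : (C.comap o.ι).Normal := ⟨fun a ha x => by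
      show o.ι (x * a * x⁻¹) ∈ C
      rw [map_mul, map_mul, map_inv]
      exact hX _ ⟨x, rfl⟩ _ ha⟩
    have hle : C.comap o.ι ≤ c.TT := fun a ha => by
      obtain ⟨t, ht, hta⟩ := hC ha
      exact o.inj hta ▸ ht
    have hmap : (C.comap o.ι).map o.ι = C := Subgroup.map_comap_eq_self fun a ha => by
      obtain ⟨t, -, rfl⟩ := hC ha
      exact ⟨t, rfl⟩
    have h := o.core (C.comap o.ι) hCn hle fun m hm a ha => by
      rw [hmap]
      exact hN m hm _ ha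
    have h0 : C = ⊥ := by rw [← hmap, h, Subgroup.map_bot]
    exact c.V_ne ((Subgroup.map_eq_bot_iff_of_injective _ o.inj).1 (le_bot_iff.1 ((hVC ()).trans h0.le)))

/-- Every automorphism of `S` is a conjugation in `Sym(G)`. -/
def permOver (hd : c.NoChar) : c.Over (Equiv.Perm G) where
  ι := PushUp2.reg G
  inj := PushUp2.reg_injective G
  core := by
    intro C hCn hC hN
    haveI := hCn
    refine c.eq_bot_of_inv hd C hC fun φ a ha => ?_
    obtain ⟨π, hπ⟩ := PushUp2.exists_perm c.TT φ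
    have h1 := hN π (Subgroup.mem_normalizer_iff.2 fun b => ⟨?_, ?_⟩) _ ha
    · rw [hπ a, Subgroup.mem_map_iff_mem (PushUp2.reg_injective G)] at h1
      exact h1
    · rintro ⟨s, hs, rfl⟩
      exact ⟨φ ⟨s, hs⟩, (φ ⟨s, hs⟩).2, (hπ ⟨s, hs⟩).symm⟩
    · rintro ⟨s, hs, hsb⟩
      refine ⟨φ.symm ⟨s, hs⟩, (φ.symm ⟨s, hs⟩).2, ?_⟩
      have h1 := hπ (φ.symm ⟨s, hs⟩)
      rw [MulEquiv.apply_symm_apply] at h1
      exact mul_left_cancel (mul_right_cancel (h1.trans hsb))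

end Cfsg.Agent.Lib.PushUpP.Sit
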