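import Cfsg.Agent.Lib.PushUpP.FamBase
import Cfsg.Agent.Lib.LAEven57.PushingUp.Offender
import Mathlib.GroupTheory.Index

/-!
The case of edges with two cosets of `Q` at the second vertex of a bad end: an abelian subgroup of maximal
order would have to grow.
-/

set_option autoImplicit false

namespace Cfsg.Agent.Lib.PushUpP

open scoped commutatorElement Pointwise

variable {Γ : Type*} [Group Γ] {p : ℕ}

theorem same_cj {g : Γ} {E E' : Subgroup Γ} : Same p (cj g E) (cj g E') ↔ Same p E E' := by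
  constructor
  · intro h z
    have h1 := h (g * z * g⁻¹)
    rwa [inZ_cj, inZ_cj, show g⁻¹ * (g * z * g⁻¹) * g = z by group] at h1
  · intro h z
    rw [inZ_cj, inZ_cj]; exact h _

theorem inZ_mul {E : Subgroup Γ} {a b : Γ} (ha : InZ p E a) (hb : InZ p E b) : InZ p E (a * b) :=
  ⟨mul_mem ha.1 hb.1, by rw [(show Commute a b from hb.2.2 a ha.1).mul_pow, ha.2.1, hb.2.1, one_mul],
    fun t ht => ((show Commute t a from ha.2.2 t ht).mul_right (hb.2.2 t ht)).eq⟩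

theorem inZ_one (E : Subgroup Γ) : InZ p E (1 : Γ) := ⟨one_mem _, one_pow _, fun t _ => by simp⟩

theorem conj_comm_iff (g a b : Γ) :
    g * a * g⁻¹ * (g * b * g⁻¹) = g * b * g⁻¹ * (g * a * g⁻¹) ↔ a * b = b * a := by
  rw [show g * a * g⁻¹ * (g * b * g⁻¹) = g * (a * b) * g⁻¹ by group,
    show g * b * g⁻¹ * (g * a * g⁻¹) = g * (b * a) * g⁻¹ by group, mul_left_inj, mul_right_inj]

theorem le_centralizer_singleton {H : Subgroup Γ} {w : Γ} :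
    H ≤ Subgroup.centralizer ({w} : Set Γ) ↔ ∀ u ∈ H, u * w = w * u :=
  ⟨fun h u hu => (Subgroup.mem_centralizer_singleton_iff.1 (h hu)),
    fun h u hu => Subgroup.mem_centralizer_singleton_iff.2 (h u hu)⟩

namespace Fam

variable [hp : Fact p.Prime] {ι : Type*} {F : Fam Γ p ι}

theorem small (v0 v1 : Γ × ι) (E0 : Subgroup Γ) (Cc W : Subgroup Γ) (v w : Γ)
    (e0 : F.IsEdge v0 E0) (e0' : F.IsEdge v1 E0) (hV01 : F.VV v0 ≤ F.QQ v1) (hV10 : F.VV v1 ≤ F.QQ v0)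
    (hW : W ≤ F.QQ v1) (hfull : E0 = F.QQ v0 ⊔ W)
    (hgood : ∀ g ∈ F.XX v1, ¬ Same p (cj g E0) E0 → cj g (F.VV v0) ≤ F.QQ v0 ∧
      (∀ u ∈ cj g (F.VV v0), ∀ w' ∈ W, u * w' = w' * u) ∧
      ∀ u ∈ cj g (F.VV v0), ∀ s ∈ F.QQ v1, ⁅u, s⁆ ∈ Cc)
    (hker : ∀ u ∈ F.VV v0, ∀ w' ∈ W, ¬ InZ p E0 u → w' ∉ F.QQ v0 →
      ⁅u, w'⁆ ∉ Cc ∧ ⁅u, w'⁆ ∉ F.KK v1)
    (hv : v ∈ F.VV v0) (hvZ : ¬ InZ p E0 v) (hw : w ∈ W) (hwQ : w ∉ F.QQ v0)
    (hS : ∀ E, F.IsEdge v1 E → ∀ a ∈ E, ∀ b ∈ E, a ∉ F.QQ v1 → b ∉ F.QQ v1 → a * b ∈ F.QQ v1) :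
    False := by
  classical
  haveI hfinE : Finite ↥E0 := e0.finite
  have hV00 : F.VV v0 ≤ F.QQ v0 := cj_mono _ (F.D v0.2).V_le_Q
  have hWE : W ≤ E0 := hW.trans e0'.Q_le
  have hwE : w ∈ E0 := hWE hw
  set x := ⁅v, w⁆ with hxdef
  obtain ⟨hxC, hxK⟩ := hker v hv w hw hvZ hwQ
  have hxZ : InZ p E0 x := e0.comm_inZ hwE hv
  have hQX : F.QQ v1 ≤ F.XX v1 := e0'.Q_le.trans e0'.le_X
  -- another edge at `v1`
  obtain ⟨x₁, hx₁, hx₁ne⟩ := e0'.exists_other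
  set E' := cj (v1.1 * x₁) (F.D v1.2).T with hE'
  have e1 : F.IsEdge v1 E' := ⟨x₁, hx₁, rfl⟩
  haveI : Finite ↥E' := e1.finite
  obtain ⟨t, ht, htQ⟩ : ∃ t ∈ E', t ∉ F.QQ v1 := by
    refine SetLike.not_le_iff_exists.1 fun hle => ?_
    obtain ⟨A, hAT, -, -, -, hAQ⟩ := (F.D v1.2).off
    refine hAQ (hAT.trans fun s hs => ?_)
    have h1 : v1.1 * x₁ * s * (v1.1 * x₁)⁻¹ ∈ cj (v1.1 * x₁) (F.D v1.2).Q :=
      (Data.cj_mulX (D := F.D v1.2) v1.1 hx₁).2.1 ▸ hle (conj_mem_cj hs)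
    rw [mem_cj] at h1
    simpa [mul_assoc] using h1
  have htX : t ∈ F.XX v1 := e1.le_X ht
  have htm : ¬ Same p (cj t E0) E0 := e1.moved e0' (not_same_symm hx₁ne) ht htQ
  -- the abelian subgroup of maximal order
  obtain ⟨c, hc, hcV, hcQ, hcK, hcX⟩ := id e0'.base
  obtain ⟨A₀, hA₀T, hA₀c, hA₀max, hA₀p, hA₀Q⟩ := (F.D v1.2).off
  set A := cj c A₀ with hA
  have hAE : A ≤ E0 := hc ▸ cj_mono c hA₀T
  haveI : Finite ↥A := Finite.of_injective _ (Subgroup.inclusion_injective hAE)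
  have hAc : ∀ a ∈ A, ∀ b ∈ A, a * b = b * a := fun a ha b hb =>
    (Data.comm_cj c a b).1 (hA₀c _ (mem_cj.1 ha) _ (mem_cj.1 hb))
  have hAp : ∀ m : ℕ, (∀ a ∈ A, a ^ m = 1) → p ∣ m := fun m hm => hA₀p m fun a ha => by
    have h1 := hm _ (conj_mem_cj (g := c) ha)
    rw [conj_pow] at h1
    simpa using mul_left_cancel (mul_right_cancel (h1.trans (mul_inv_cancel c).symm) |>.trans (mul_one c).symm)
  have hAmax : ∀ B : Subgroup Γ, B ≤ E0 → (∀ a ∈ B, ∀ b ∈ B, a * b = b * a) →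
      (∀ m : ℕ, (∀ a ∈ A, a ^ m = 1) → ∀ b ∈ B, b ^ m = 1) → Nat.card ↥B ≤ Nat.card ↥A := by
    intro B hB hBc hBe
    have hcard : ∀ H : Subgroup Γ, Nat.card ↥(cj c⁻¹ H) = Nat.card ↥H := fun H =>
      Subgroup.card_map_of_injective (MulAut.conj c⁻¹).injective
    have h := hA₀max (cj c⁻¹ B) (by rw [← cj_inv_cancel c (F.D v1.2).T, ← hc]; exact cj_mono _ hB)
      fun a ha b hb => by
        rw [mem_cj, inv_inv] at ha hb
        have h1 := hBc _ ha _ hb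
        exact (conj_comm_iff c a b).1 (by simpa using h1)
      fun m hm b hb => by
        rw [mem_cj, inv_inv] at hb
        have h1 := hBe m (fun a ha => by
          rw [show a = c * (c⁻¹ * a * c) * c⁻¹ by group, conj_pow, hm _ (mem_cj.1 ha), mul_one, mul_inv_cancel]) _ hb
        rw [conj_pow] at h1
        calc b ^ m = c⁻¹ * (c * b ^ m * c⁻¹) * c := by group
          _ = 1 := by rw [h1]; group
    rwa [hcard, ← cj_inv_cancel c A₀, hcard] at h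
  obtain ⟨a, ha, haQ⟩ : ∃ a ∈ A, a ∉ F.QQ v1 := by
    refine SetLike.not_le_iff_exists.1 fun hle => hA₀Q ((cj_le_cj (g := c)).1 ?_)
    rw [← hcQ]; exact hle
  have haX : a ∈ F.XX v1 := e0'.le_X (hAE ha)
  have haE : cj a E0 = E0 := cj_eq_of_mem (hAE ha)
  have hedge : ∀ g ∈ F.XX v1, F.IsEdge v1 (cj g E0) := fun g hg => by
    obtain ⟨x', hx', he'⟩ := id e0'
    exact ⟨v1.1⁻¹ * g * v1.1 * x', (F.D v1.2).X.mul_mem (mem_cj.1 hg) hx', by
      rw [he', ← cj_mul]; congr 1; group⟩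
  have hatm : ¬ Same p (cj (a * t) E0) E0 := by
    rw [cj_mul]
    intro h
    exact htm ((same_cj (g := a)).1 (haE.symm ▸ h))
  have hatm' : ¬ Same p (cj (a * t) E0) (cj t E0) := by
    rw [cj_mul]
    exact e0'.moved (hedge t htX) htm (hAE ha) haQ
  -- relative positions
  have rel : ∀ g ∈ F.XX v1, ∀ g' ∈ F.XX v1, ¬ Same p (cj g E0) (cj g' E0) →
      (∀ u ∈ cj g' (F.VV v0), u ∈ cj g (F.QQ v0)) ∧
      ∀ u ∈ cj g' (F.VV v0), ∀ w' ∈ W, u * (g * w' * g⁻¹) = g * w' * g⁻¹ * u := by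
    intro g hg g' hg' hne
    have hm : ¬ Same p (cj (g⁻¹ * g') E0) E0 := fun h => hne (same_symm (by
      have h' := (same_cj (g := g)).2 h
      rwa [← cj_mul, mul_inv_cancel_left] at h'))
    obtain ⟨h1, h2, -⟩ := hgood _ (mul_mem (inv_mem hg) hg') hm
    have hmem : ∀ u ∈ cj g' (F.VV v0), g⁻¹ * u * g ∈ cj (g⁻¹ * g') (F.VV v0) := fun u hu => by
      rw [mem_cj] at hu ⊢
      simpa [mul_assoc] using hu
    refine ⟨fun u hu => mem_cj.2 (h1 (hmem u hu)), fun u hu w' hw' => ?_⟩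
    have h3 := (conj_comm_iff g _ _).2 (h2 _ (hmem u hu) w' hw')
    rwa [show g * (g⁻¹ * u * g) * g⁻¹ = u by group] at h3
  have inQ : ∀ g ∈ F.XX v1, cj g (F.VV v0) ≤ F.QQ v1 := fun g hg => by
    rw [← cj_Q_self hg]; exact cj_mono g hV01
  have h1X : (1 : Γ) ∈ F.XX v1 := one_mem _
  have hatX : a * t ∈ F.XX v1 := mul_mem haX htX
  have ht1 : ¬ Same p (cj t E0) (cj (1 : Γ) E0) := by rwa [cj_one]
  have hat1 : ¬ Same p (cj (a * t) E0) (cj (1 : Γ) E0) := by rwa [cj_one]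
  have R01 := rel 1 h1X t htX (not_same_symm ht1)
  have R10 := rel t htX 1 h1X ht1
  have R02 := rel 1 h1X (a * t) hatX (not_same_symm hat1)
  have R20 := rel (a * t) hatX 1 h1X hat1
  have R12 := rel t htX (a * t) hatX (not_same_symm hatm')
  have R21 := rel (a * t) hatX t htX hatm'
  simp only [cj_one, one_mul, inv_one, mul_one] at R01 R10 R02 R20
  set w2 := t * w * t⁻¹ with hw2
  set w1 := a * t * w * (a * t)⁻¹ with hw1
  set x2 := t * x * t⁻¹ with hx2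
  set x1 := a * t * x * (a * t)⁻¹ with hx1
  have hw12 : a * w2 * a⁻¹ = w1 := by rw [hw1, hw2]; group
  have hconjZ : ∀ g ∈ F.XX v1, InZ p (cj g E0) (g * x * g⁻¹) := fun g _ => inZ_cj.2 (by
    rwa [show g⁻¹ * (g * x * g⁻¹) * g = x by group])
  have hxC2 : ∀ g ∈ F.XX v1, ¬ Same p (cj g E0) E0 → g * x * g⁻¹ ∈ Cc := fun g hg hm => by
    rw [show g * x * g⁻¹ = ⁅g * v * g⁻¹, g * w * g⁻¹⁆ by rw [hxdef, commutatorElement_def, commutatorElement_def]; group]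
    exact (hgood g hg hm).2.2 _ (conj_mem_cj hv) _ (Data.Q_conj _ hg (hW hw))
  -- two cosets
  have hidx : Nat.card ↥E' ≤ 2 * Nat.card ↥(F.QQ v1) :=
    card_le_two e1.Q_le fun a' ha' b' hb' hna hnb =>
      hS E' e1 a' ha' b'⁻¹ (inv_mem hb') hna fun h => hnb (by simpa using inv_mem h)
  have hrel2 : (F.QQ v1).relIndex E' ≤ 2 := by
    have h1 := Subgroup.relIndex_mul_relIndex (⊥ : Subgroup Γ) (F.QQ v1) E' bot_le e1.Q_le
    rw [Subgroup.relIndex_bot_left, Subgroup.relIndex_bot_left] at h1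
    haveI : Finite ↥(F.QQ v1) := Finite.of_injective _ (Subgroup.inclusion_injective e1.Q_le)
    have hpos : 0 < Nat.card ↥(F.QQ v1) := Nat.card_pos
    nlinarith
  obtain ⟨S', hS', hS'V, hS'idx⟩ := e1.zSub
  rw [← e1.relIndex_eq] at hS'idx
  have hK2 : ∀ z z', InZ p E0 z → InZ p E0 z' → z ∉ F.KK v1 → z' ∉ F.KK v1 → z * z' ∈ F.KK v1 := by
    intro z z' hz hz' hzK hz'K
    have hzV := e0'.inZ_mem_V hz
    have hz'V := e0'.inZ_mem_V hz'
    have hkey : ∀ y, InZ p E0 y → (y ∈ S' ↔ y ∈ F.KK v1) := fun y hy => by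
      rw [hS']
      exact ⟨fun h => Data.mem_K_of_edges e0' e1 (not_same_symm hx₁ne) (e0'.inZ_mem_V hy) hy.2.2 h.2.2,
        fun h => e1.K_inZ h⟩
    have h2 : (S'.subgroupOf (F.VV v1)).index = 2 := by
      have hne : (S'.subgroupOf (F.VV v1)).index ≠ 1 := fun h => hzK ((hkey z hz).1
        (Subgroup.relIndex_eq_one.1 h hzV))
      haveI : Finite ↥(F.VV v1) := Finite.of_injective _ (Subgroup.inclusion_injective e1.V_le)
      have h0 : (S'.subgroupOf (F.VV v1)).index ≠ 0 := Subgroup.index_ne_zero_of_finite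
      have hle : (S'.subgroupOf (F.VV v1)).index ≤ 2 := hS'idx.trans_le hrel2
      omega
    refine (hkey _ (inZ_mul hz hz')).1 ?_
    have h3 := Subgroup.mul_mem_iff_of_index_two h2 (a := (⟨z, hzV⟩ : ↥(F.VV v1))) (b := ⟨z', hz'V⟩)
    simp only [Subgroup.mem_subgroupOf, Subgroup.coe_mul] at h3
    rw [h3]
    exact ⟨fun h => absurd ((hkey z hz).1 h) hzK, fun h => absurd ((hkey z' hz').1 h) hz'K⟩
  -- single cosets
  have hconjQ : ∀ u ∈ E0, ∀ q ∈ F.QQ v0, u * q * u⁻¹ ∈ F.QQ v0 := fun u hu q hq =>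
    Data.Q_conj _ (e0.le_X hu) hq
  have hcen : ∀ z, InZ p E0 z → ∀ u ∈ E0, u * z * u⁻¹ = z := fun z hz u hu => by
    rw [hz.2.2 u hu, mul_inv_cancel_right]
  have hWc : ∀ w' ∈ W, w' ∉ F.QQ v0 → w' * w⁻¹ ∈ F.QQ v0 := by
    intro w' hw' hw'Q
    have hwi : w⁻¹ ∉ F.QQ v0 := fun h => hwQ (by simpa using inv_mem h)
    by_contra hn
    refine (hker v hv _ (mul_mem hw' (inv_mem hw)) hvZ hn).2 ?_
    have h1 := e0.comm_inZ (hWE hw') hv
    have h2 := e0.comm_inZ (hWE (inv_mem hw)) hv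
    rw [show ⁅v, w' * w⁻¹⁆ = ⁅v, w'⁆ * (w' * ⁅v, w⁻¹⁆ * w'⁻¹) by simp only [commutatorElement_def]; group,
      hcen _ h2 w' (hWE hw')]
    exact hK2 _ _ h1 h2 (hker v hv w' hw' hvZ hw'Q).2 (hker v hv _ (inv_mem hw) hvZ hwi).2
  have hQc : ∀ s ∈ F.QQ v1, s ∉ F.QQ v0 → s * w⁻¹ ∈ F.QQ v0 := by
    intro s hs hsQ
    have h1 : s ∈ W ⊔ F.QQ v0 := by rw [sup_comm, ← hfull]; exact e0'.Q_le hs
    obtain ⟨w', hw', q, hq, rfl⟩ := mem_sup_mul (Data.Q_normalizes e0 hWE) h1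
    have hw'Q : w' ∉ F.QQ v0 := fun h => hsQ (mul_mem h hq)
    rw [show w' * q * w⁻¹ = w' * q * w'⁻¹ * (w' * w⁻¹) by group]
    exact mul_mem (hconjQ w' (hWE hw') q hq) (hWc w' hw' hw'Q)
  have hVc : ∀ u ∈ F.VV v0, ¬ InZ p E0 u → InZ p E0 (u * v⁻¹) := by
    intro u hu huZ
    have hvi : ¬ InZ p E0 v⁻¹ := fun h => hvZ (by simpa using inZ_inv h)
    by_contra hn
    refine (hker _ (mul_mem hu (inv_mem hv)) w hw hn hwQ).2 ?_
    have h1 := e0.comm_inZ hwE hu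
    have h2 := e0.comm_inZ hwE (inv_mem hv)
    rw [show ⁅u * v⁻¹, w⁆ = u * ⁅v⁻¹, w⁆ * u⁻¹ * ⁅u, w⁆ by simp only [commutatorElement_def]; group,
      hcen _ h2 u (e0.V_le hu)]
    exact hK2 _ _ h2 h1 (hker _ (inv_mem hv) w hw hvi hwQ).2 (hker u hu w hw huZ hwQ).2
  have val : ∀ u ∈ F.VV v0, ∀ s ∈ F.QQ v1, ¬ InZ p E0 u → s ∉ F.QQ v0 → ⁅u, s⁆ = x := by
    intro u hu s hs huZ hsQ
    have hq := hQc s hs hsQ
    have hz := hVc u hu huZ
    set q := s * w⁻¹ with hqd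
    set z := u * v⁻¹ with hzd
    have hs' : s = q * w := by rw [hqd]; group
    have hu' : u = z * v := by rw [hzd]; group
    have hvq : ⁅v, q⁆ = 1 := commutatorElement_eq_one_iff_mul_comm.2 (Data.Q_cent' hq hv).symm
    have hvs : ⁅v, s⁆ = x := by
      rw [hs', show ⁅v, q * w⁆ = ⁅v, q⁆ * (q * ⁅v, w⁆ * q⁻¹) by simp only [commutatorElement_def]; group,
        hvq, one_mul, ← hxdef, hcen x hxZ q (e0.Q_le hq)]
    rw [hu', show ⁅z * v, s⁆ = z * ⁅v, s⁆ * z⁻¹ * ⁅z, s⁆ by simp only [commutatorElement_def]; group, hvs,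
      hcen x hxZ z hz.1, commutatorElement_eq_one_iff_mul_comm.2 (hz.2.2 s (e0'.Q_le hs)).symm, mul_one]
  have val' : ∀ u ∈ F.VV v0, ∀ s ∈ F.QQ v1, ⁅u, s⁆ = 1 ∨ ⁅u, s⁆ = x := by
    intro u hu s hs
    by_cases huZ : InZ p E0 u
    · exact .inl (commutatorElement_eq_one_iff_mul_comm.2 (huZ.2.2 s (e0'.Q_le hs)).symm)
    by_cases hsQ : s ∈ F.QQ v0
    · exact .inl (commutatorElement_eq_one_iff_mul_comm.2 (Data.Q_cent' hsQ hu).symm)
    exact .inr (val u hu s hs huZ hsQ)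
  have valg : ∀ g ∈ F.XX v1, ∀ u ∈ cj g (F.VV v0), ∀ s ∈ F.QQ v1,
      ⁅u, s⁆ = 1 ∨ ⁅u, s⁆ = g * x * g⁻¹ := by
    intro g hg u hu s hs
    have hs' : g⁻¹ * s * g ∈ F.QQ v1 := by simpa using Data.Q_conj _ (inv_mem hg) hs
    have e : g * ⁅g⁻¹ * u * g, g⁻¹ * s * g⁆ * g⁻¹ = ⁅u, s⁆ := by
      simp only [commutatorElement_def]; group
    rcases val' _ (mem_cj.1 hu) _ hs' with h | h
    · exact .inl (by rw [← e, h]; group)
    · exact .inr (by rw [← e, h])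
  have valne : ∀ g ∈ F.XX v1, ∀ u ∈ cj g (F.VV v0), ∀ s ∈ F.QQ v1, u * (g * w * g⁻¹) ≠ g * w * g⁻¹ * u →
      s ∉ cj g (F.QQ v0) → ⁅u, s⁆ = g * x * g⁻¹ := by
    intro g hg u hu s hs hne hsQ
    have hs' : g⁻¹ * s * g ∈ F.QQ v1 := by simpa using Data.Q_conj _ (inv_mem hg) hs
    have huZ : ¬ InZ p E0 (g⁻¹ * u * g) := fun h => hne (by
      have h1 := (conj_comm_iff g _ _).2 (h.2.2 w hwE).symm
      rwa [show g * (g⁻¹ * u * g) * g⁻¹ = u by group] at h1)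
    rw [← val _ (mem_cj.1 hu) _ hs' huZ fun h => hsQ (mem_cj.2 h)]
    simp only [commutatorElement_def]; group
  -- the abelian group `Fg`
  have hV1Q : F.VV v1 ≤ F.QQ v1 := cj_mono _ (F.D v1.2).V_le_Q
  set V0 := F.VV v0 with hV0
  set V1 := F.VV v1 with hV1
  set V2 := cj t V0 with hV2
  set V1' := cj (a * t) V0 with hV1'
  set S₂ := V1 ⊔ V0 with hS₂
  set S₃ := S₂ ⊔ V2 with hS₃
  set Fg := S₃ ⊔ V1' with hFg
  have hS₂Q : S₂ ≤ F.QQ v1 := sup_le hV1Q hV01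
  have hS₃Q : S₃ ≤ F.QQ v1 := sup_le hS₂Q (inQ t htX)
  have hFQ : Fg ≤ F.QQ v1 := sup_le hS₃Q (inQ _ hatX)
  haveI : Finite ↥Fg := Finite.of_injective _ (Subgroup.inclusion_injective (hFQ.trans e0'.Q_le))
  have hgV : ∀ g ∈ F.XX v1, ∀ u ∈ cj g V0, ∀ z ∈ V1, u * z = z * u := fun g hg u hu z hz =>
    Data.Q_cent' (inQ g hg hu) hz
  have hgg : ∀ g g' : Γ, (∀ u ∈ cj g' V0, u ∈ cj g (F.QQ v0)) →
      ∀ u ∈ cj g' V0, ∀ u' ∈ cj g V0, u * u' = u' * u := fun g g' h u hu u' hu' =>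
    (Data.comm_cj g u u').1 (Data.Q_cent' (mem_cj.1 (h u hu)) (mem_cj.1 hu'))
  have hc01 : ∀ u ∈ V2, ∀ u' ∈ V0, u * u' = u' * u := fun u hu u' hu' => Data.Q_cent' (R01.1 u hu) hu'
  have hc02 : ∀ u ∈ V1', ∀ u' ∈ V0, u * u' = u' * u := fun u hu u' hu' => Data.Q_cent' (R02.1 u hu) hu'
  have hc12 : ∀ u ∈ V1', ∀ u' ∈ V2, u * u' = u' * u := hgg t (a * t) R12.1
  have cz_of : ∀ {H : Subgroup Γ} {u : Γ}, (∀ y ∈ H, u * y = y * u) → H ≤ Subgroup.centralizer ({u} : Set Γ) :=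
    fun h => le_centralizer_singleton.2 fun y hy => (h y hy).symm
  have nrm : ∀ {H K : Subgroup Γ}, (∀ u ∈ H, ∀ y ∈ K, u * y = y * u) → H ≤ Subgroup.normalizer (K : Set Γ) :=
    fun h => le_normalizer_of fun u hu y hy => by rw [h u hu y hy, mul_inv_cancel_right]; exact hy
  have n2 : ∀ u ∈ V0, ∀ y ∈ V1, u * y = y * u := fun u hu y hy => Data.Q_cent' (hV01 hu) hy
  have n3 : ∀ u ∈ V2, ∀ y ∈ S₂, u * y = y * u := fun u hu y hy =>
    (le_centralizer_singleton.1 (sup_le (cz_of (hgV t htX u hu)) (cz_of (hc01 u hu))) y hy).symm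
  have n4 : ∀ u ∈ V1', ∀ y ∈ S₃, u * y = y * u := fun u hu y hy =>
    (le_centralizer_singleton.1 (sup_le (sup_le (cz_of (hgV _ hatX u hu)) (cz_of (hc02 u hu)))
      (cz_of (hc12 u hu))) y hy).symm
  have decF : ∀ f ∈ Fg, ∃ z ∈ V1, ∃ a0 ∈ V0, ∃ a2 ∈ V2, ∃ a1 ∈ V1', f = a1 * (a2 * (a0 * z)) := by
    intro f hf
    rw [hFg, sup_comm] at hf
    obtain ⟨a1, ha1, s3, hs3, rfl⟩ := mem_sup_mul (nrm n4) hf
    rw [hS₃, sup_comm] at hs3
    obtain ⟨a2, ha2, s2, hs2, rfl⟩ := mem_sup_mul (nrm n3) hs3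
    rw [hS₂, sup_comm] at hs2
    obtain ⟨a0, ha0, z, hz, rfl⟩ := mem_sup_mul (nrm n2) hs2
    exact ⟨z, hz, a0, ha0, a2, ha2, a1, ha1, rfl⟩
  have hFc : ∀ f ∈ Fg, ∀ f' ∈ Fg, f * f' = f' * f := by
    have cV : ∀ {H : Subgroup Γ}, (∀ u ∈ H, u ∈ Subgroup.centralizer (Fg : Set Γ)) → H ≤ Subgroup.centralizer (Fg : Set Γ) :=
      fun h => h
    have into : ∀ u, (∀ y ∈ V1, u * y = y * u) → (∀ y ∈ V0, u * y = y * u) → (∀ y ∈ V2, u * y = y * u) →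
        (∀ y ∈ V1', u * y = y * u) → u ∈ Subgroup.centralizer (Fg : Set Γ) := fun u h1 h2 h3 h4 y hy =>
      (le_centralizer_singleton.1 (sup_le (sup_le (sup_le (cz_of h1) (cz_of h2)) (cz_of h3)) (cz_of h4)) y hy)
    have hle : Fg ≤ Subgroup.centralizer (Fg : Set Γ) := by
      refine sup_le (sup_le (sup_le (cV fun u hu => ?_) (cV fun u hu => ?_)) (cV fun u hu => ?_)) (cV fun u hu => ?_)
      · exact into u (fun y hy => Data.V_comm hu hy) (fun y hy => (n2 y hy u hu).symm)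
          (fun y hy => (hgV t htX y hy u hu).symm) fun y hy => (hgV _ hatX y hy u hu).symm
      · exact into u (n2 u hu) (fun y hy => Data.V_comm hu hy) (fun y hy => (hc01 y hy u hu).symm)
          fun y hy => (hc02 y hy u hu).symm
      · exact into u (hgV t htX u hu) (hc01 u hu) (fun y hy => (Data.comm_cj t u y).1 (Data.V_comm (mem_cj.1 hu) (mem_cj.1 hy)))
          fun y hy => (hc12 y hy u hu).symm
      · exact into u (hgV _ hatX u hu) (hc02 u hu) (hc12 u hu)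
          fun y hy => (Data.comm_cj (a * t) u y).1 (Data.V_comm (mem_cj.1 hu) (mem_cj.1 hy))
    exact fun f hf f' hf' => (hle hf f' hf').symm
  have hV1w : ∀ z ∈ V1, ∀ s ∈ F.QQ v1, z * s = s * z := fun z hz s hs => (Data.Q_cent' hs hz).symm
  have hw2Q : w2 ∈ F.QQ v1 := Data.Q_conj _ htX (hW hw)
  have hw1Q : w1 ∈ F.QQ v1 := Data.Q_conj _ hatX (hW hw)
  set AF := A ⊓ Fg with hAF
  haveI : Finite ↥AF := Finite.of_injective _ (Subgroup.inclusion_injective (inf_le_left : AF ≤ A))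
  have hAFw : ∀ f ∈ AF, (f * w2 = w2 * f ↔ f * w1 = w1 * f) := by
    intro f hf
    have hfa : a * f * a⁻¹ = f := by rw [hAc a ha f hf.1, mul_inv_cancel_right]
    have h1 := conj_comm_iff a f w2
    rw [hfa, hw12] at h1
    exact h1.symm
  set C := A ⊓ F.QQ v1 with hC
  have hCw : ∀ c' ∈ C, (c' ∈ cj t (F.QQ v0) ↔ c' ∈ cj (a * t) (F.QQ v0)) := by
    intro c' hc'
    have hca : a⁻¹ * c' * a = c' := by rw [mul_assoc, ← hAc a ha c' hc'.1, inv_mul_cancel_left]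
    have e : (a * t)⁻¹ * c' * (a * t) = t⁻¹ * c' * t := by
      conv_rhs => rw [← hca]
      group
    rw [mem_cj (g := t), mem_cj (g := a * t), e]
  -- the commutator of `f` with an element of `C`
  have key : ∀ f ∈ AF, ∀ c' ∈ C, ∀ z ∈ V1, ∀ a0 ∈ V0, ∀ a2 ∈ V2, ∀ a1 ∈ V1', f = a1 * (a2 * (a0 * z)) →
      ⁅a0, c'⁆ * ⁅a2, c'⁆ * ⁅a1, c'⁆ = 1 := by
    intro f hf c' hc' z hz a0 ha0 a2 ha2 a1 ha1 hfe
    have h1 : ⁅f, c'⁆ = 1 := commutatorElement_eq_one_iff_mul_comm.2 (hAc f hf.1 c' hc'.1)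
    have h0 : ⁅z, c'⁆ = 1 := commutatorElement_eq_one_iff_mul_comm.2 (hV1w z hz c' hc'.2)
    have hQ1c : ∀ g ∈ F.XX v1, ∀ u ∈ cj g V0, ∀ s ∈ F.QQ v1, ⁅u, c'⁆ * s = s * ⁅u, c'⁆ := by
      intro g hg u hu s hs
      rcases valg g hg u hu c' hc'.2 with h | h
      · rw [h]; simp
      · rw [h]
        exact hV1w _ ((cj_V_self hg).le (conj_mem_cj (e0'.inZ_mem_V hxZ))) s hs
    have ex : ∀ u r : Γ, ⁅u * r, c'⁆ = u * ⁅r, c'⁆ * u⁻¹ * ⁅u, c'⁆ := fun u r => by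
      simp only [commutatorElement_def]; group
    have q0 : a0 ∈ F.QQ v1 := hV01 ha0
    have q2 : a2 ∈ F.QQ v1 := inQ t htX ha2
    have q1 : a1 ∈ F.QQ v1 := inQ _ hatX ha1
    have ha0' : a0 ∈ cj (1 : Γ) V0 := by rwa [cj_one]
    rw [hfe, ex a1, ex a2, ex a0, h0, mul_one, mul_inv_cancel, one_mul] at h1
    rw [← hQ1c 1 h1X a0 ha0' a2 q2, mul_inv_cancel_right] at h1
    rw [← h1]
    have e1 := hQ1c 1 h1X a0 ha0' a1 q1
    have e2 := hQ1c t htX a2 ha2 a1 q1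
    rw [show a1 * (⁅a0, c'⁆ * ⁅a2, c'⁆) * a1⁻¹ = ⁅a0, c'⁆ * ⁅a2, c'⁆ by
      rw [← mul_assoc a1, ← e1, mul_assoc _ a1, ← e2, ← mul_assoc, mul_inv_cancel_right]]
  have alpha : (∃ f ∈ AF, f * w ≠ w * f) → C ≤ F.QQ v0 := by
    rintro ⟨f, hf, hfw⟩ c' hc'
    obtain ⟨z, hz, a0, ha0, a2, ha2, a1, ha1, hfe⟩ := decF f hf.2
    have k := key f hf c' hc' z hz a0 ha0 a2 ha2 a1 ha1 hfe
    by_contra hcQ'
    have ha0w : a0 * w ≠ w * a0 := fun h => hfw (by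
      rw [hfe]
      exact (show Commute a1 w from R02.2 a1 ha1 w hw).mul_left
        ((show Commute a2 w from R01.2 a2 ha2 w hw).mul_left
          ((show Commute a0 w from h).mul_left (hV1w z hz w (hW hw)))))
    have h0 : ⁅a0, c'⁆ = x := by
      have h := valne 1 h1X a0 (by rwa [cj_one]) c' hc'.2 (by simpa using ha0w) (by rwa [cj_one])
      simpa using h
    have h2C : ⁅a2, c'⁆ ∈ Cc := (hgood t htX htm).2.2 a2 ha2 c' hc'.2
    have h1C : ⁅a1, c'⁆ ∈ Cc := (hgood _ hatX hatm).2.2 a1 ha1 c' hc'.2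
    rw [h0, mul_assoc, ← eq_inv_iff_mul_eq_one] at k
    refine hxC ?_
    show x ∈ Cc
    rw [k]; exact inv_mem (mul_mem h2C h1C)
  have beta : (∃ f ∈ AF, f * w2 ≠ w2 * f) → C ≤ cj t (F.QQ v0) := by
    rintro ⟨f, hf, hfw⟩ c' hc'
    obtain ⟨z, hz, a0, ha0, a2, ha2, a1, ha1, hfe⟩ := decF f hf.2
    have k := key f hf c' hc' z hz a0 ha0 a2 ha2 a1 ha1 hfe
    by_contra hcQ'
    have ha2w : a2 * w2 ≠ w2 * a2 := fun h => hfw (by
      rw [hfe]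
      exact (show Commute a1 w2 from R12.2 a1 ha1 w hw).mul_left
        ((show Commute a2 w2 from h).mul_left
          ((show Commute a0 w2 from R10.2 a0 ha0 w hw).mul_left (hV1w z hz w2 hw2Q))))
    have hfw1 : f * w1 ≠ w1 * f := fun h => hfw ((hAFw f hf).2 h)
    have ha1w : a1 * w1 ≠ w1 * a1 := fun h => hfw1 (by
      rw [hfe]
      exact (show Commute a1 w1 from h).mul_left
        ((show Commute a2 w1 from R21.2 a2 ha2 w hw).mul_left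
          ((show Commute a0 w1 from R20.2 a0 ha0 w hw).mul_left (hV1w z hz w1 hw1Q))))
    rw [valne t htX a2 ha2 c' hc'.2 ha2w hcQ',
      valne (a * t) hatX a1 ha1 c' hc'.2 ha1w fun h => hcQ' ((hCw c' hc').2 h)] at k
    rcases val' a0 ha0 c' hc'.2 with h0 | h0
    · rw [h0, one_mul, ← eq_inv_iff_mul_eq_one] at k
      have hz2 : InZ p (cj (a * t) E0) (t * x * t⁻¹) := by rw [k]; exact inZ_inv (hconjZ _ hatX)
      have hK : x2 ∈ F.KK v1 := by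
        have et := hedge t htX
        exact Data.mem_K_of_edges et (hedge _ hatX) (not_same_symm hatm') (et.inZ_mem_V (hconjZ t htX))
          (hconjZ t htX).2.2 hz2.2.2
      refine hxK ?_
      show x ∈ F.KK v1
      have h1 : t⁻¹ * x2 = x2 * t⁻¹ := Data.K_comm (inv_mem htX) hK
      have : x = x2 := by
        calc x = t⁻¹ * x2 * t := by rw [hx2]; group
          _ = x2 := by rw [h1, inv_mul_cancel_right]
      rwa [this]
    · rw [h0, mul_assoc, ← eq_inv_iff_mul_eq_one] at k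
      refine hxC ?_
      show x ∈ Cc
      rw [k]; exact inv_mem (mul_mem (hxC2 t htX htm) (hxC2 _ hatX hatm))
  -- counting
  set C₀ := C ⊓ F.QQ v0 with hC₀
  set N := C₀ ⊓ cj t (F.QQ v0) with hN
  haveI : Finite ↥C := Finite.of_injective _ (Subgroup.inclusion_injective (inf_le_left : C ≤ A))
  haveI : Finite ↥C₀ := Finite.of_injective _ (Subgroup.inclusion_injective (inf_le_left : C₀ ≤ C))
  have hNF : ∀ n ∈ N, ∀ y ∈ Fg, n * y = y * n := by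
    intro n hn y hy
    have hat' : n ∈ cj (a * t) (F.QQ v0) := (hCw n hn.1.1).1 hn.2
    refine (le_centralizer_singleton.1 (sup_le (sup_le (sup_le (cz_of fun y hy => (hV1w y hy n hn.1.1.2).symm)
      (cz_of fun y hy => Data.Q_cent' hn.1.2 hy)) (cz_of fun y hy => ?_)) (cz_of fun y hy => ?_)) y hy).symm
    · exact (Data.comm_cj t n y).1 (Data.Q_cent' (mem_cj.1 hn.2) (mem_cj.1 hy))
    · exact (Data.comm_cj (a * t) n y).1 (Data.Q_cent' (mem_cj.1 hat') (mem_cj.1 hy))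
  set B := N ⊔ Fg with hB
  have hBE : B ≤ E0 := sup_le ((inf_le_left.trans inf_le_left).trans (inf_le_left.trans hAE)) (hFQ.trans e0'.Q_le)
  haveI : Finite ↥B := Finite.of_injective _ (Subgroup.inclusion_injective hBE)
  have hBc : ∀ b ∈ B, ∀ b' ∈ B, b * b' = b' * b := by
    intro b hb b' hb'
    obtain ⟨n, hn, f, hf, rfl⟩ := mem_sup_mul (nrm hNF) hb
    obtain ⟨n', hn', f', hf', rfl⟩ := mem_sup_mul (nrm hNF) hb'
    exact (((show Commute n n' from hAc n hn.1.1.1 n' hn'.1.1.1).mul_right (hNF n hn f' hf')).mul_left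
      ((show Commute f n' from (hNF n' hn' f hf).symm).mul_right (hFc f hf f' hf'))).eq
  have hBe : ∀ m : ℕ, (∀ a ∈ A, a ^ m = 1) → ∀ b ∈ B, b ^ m = 1 := by
    intro m hm b hb
    obtain ⟨n, hn, f, hf, rfl⟩ := mem_sup_mul (nrm hNF) hb
    rw [(show Commute n f from hNF n hn f hf).mul_pow, hm n hn.1.1.1, one_mul]
    obtain ⟨j, rfl⟩ := hAp m hm
    obtain ⟨z, hz, a0, ha0, a2, ha2, a1, ha1, rfl⟩ := decF f hf
    have hV : ∀ (g : Γ) (v' : Γ × ι), ∀ u ∈ cj g (F.VV v'), u ^ p = 1 := fun g v' u hu => by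
      have h1 := (F.D v'.2).V_pow _ (mem_cj.1 (mem_cj.1 hu))
      rw [show u = g * v'.1 * (v'.1⁻¹ * (g⁻¹ * u * g) * v'.1) * (g * v'.1)⁻¹ by group, conj_pow, h1,
        mul_one, mul_inv_cancel]
    have hp1 : ∀ u ∈ V1, u ^ p = 1 := fun u hu => hV 1 v1 u (by rwa [cj_one])
    have hp0 : ∀ u ∈ V0, u ^ p = 1 := fun u hu => hV 1 v0 u (by rwa [cj_one])
    have hz0 : z ∈ S₃ := le_sup_left (b := V2) (le_sup_left (b := V0) hz)
    have h0 : a0 ∈ S₃ := le_sup_left (b := V2) (le_sup_right (a := V1) ha0)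
    have h2 : a2 ∈ S₃ := le_sup_right (a := S₂) ha2
    rw [pow_mul, (show Commute a1 (a2 * (a0 * z)) from n4 a1 ha1 _ (mul_mem h2 (mul_mem h0 hz0))).mul_pow,
      (show Commute a2 (a0 * z) from n3 a2 ha2 _ (mul_mem (le_sup_right (a := V1) ha0) (le_sup_left (b := V0) hz))).mul_pow,
      (show Commute a0 z from n2 a0 ha0 z hz).mul_pow, hV _ v0 a1 ha1, hV _ v0 a2 ha2, hp0 a0 ha0, hp1 z hz]
    simp
  have hprod : Nat.card ↥N * Nat.card ↥Fg ≤ Nat.card ↥A * Nat.card ↥AF := by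
    rw [← Cfsg.Agent.Lib.LAEven57.PushingUp.card_sup_mul_inf (nrm hNF)]
    exact Nat.mul_le_mul (hAmax B hBE hBc hBe) (Subgroup.card_le_of_le
      (inf_le_inf_right Fg ((inf_le_left.trans inf_le_left).trans inf_le_left)))
  have hAC : Nat.card ↥A ≤ 2 * Nat.card ↥C := card_le_two inf_le_left fun a' ha' b' hb' hna hnb =>
    Subgroup.mem_inf.2 ⟨A.mul_mem ha' (A.inv_mem hb'), hS E0 e0' a' (hAE ha') b'⁻¹ (inv_mem (hAE hb'))
      (fun h => hna (Subgroup.mem_inf.2 ⟨ha', h⟩))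
      fun h => hnb (Subgroup.mem_inf.2 ⟨hb', by simpa using inv_mem h⟩)⟩
  have hCC₀ : Nat.card ↥C ≤ 2 * Nat.card ↥C₀ := card_le_two inf_le_left fun a' ha' b' hb' hna hnb => by
    refine Subgroup.mem_inf.2 ⟨C.mul_mem ha' (C.inv_mem hb'), ?_⟩
    have h1 := hQc a' ha'.2 fun h => hna (Subgroup.mem_inf.2 ⟨ha', h⟩)
    have h2 := hQc b' hb'.2 fun h => hnb (Subgroup.mem_inf.2 ⟨hb', h⟩)
    rw [show a' * b'⁻¹ = a' * w⁻¹ * (b' * w⁻¹)⁻¹ by group]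
    exact mul_mem h1 (inv_mem h2)
  have hC₀N : Nat.card ↥C₀ ≤ 2 * Nat.card ↥N := card_le_two inf_le_left fun a' ha' b' hb' hna hnb => by
    refine Subgroup.mem_inf.2 ⟨C₀.mul_mem ha' (C₀.inv_mem hb'), mem_cj.2 ?_⟩
    have hq : ∀ s ∈ F.QQ v1, t⁻¹ * s * t ∈ F.QQ v1 := fun s hs => by
      simpa using Data.Q_conj _ (inv_mem htX) hs
    have h1 := hQc _ (hq a' ha'.1.2) fun h => hna (Subgroup.mem_inf.2 ⟨ha', mem_cj.2 h⟩)
    have h2 := hQc _ (hq b' hb'.1.2) fun h => hnb (Subgroup.mem_inf.2 ⟨hb', mem_cj.2 h⟩)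
    rw [show t⁻¹ * (a' * b'⁻¹) * t = t⁻¹ * a' * t * w⁻¹ * (t⁻¹ * b' * t * w⁻¹)⁻¹ by group]
    exact mul_mem h1 (inv_mem h2)
  set S₁ := AF ⊔ V1 with hS₁
  have hV1F : V1 ≤ Fg := (le_sup_left.trans le_sup_left).trans le_sup_left
  have hV0F : V0 ≤ Fg := (le_sup_right.trans le_sup_left).trans le_sup_left
  have hV2F : V2 ≤ Fg := le_sup_right.trans le_sup_left
  have hV1'F : V1' ≤ Fg := le_sup_right
  have hS₁F : S₁ ≤ Fg := sup_le inf_le_right hV1F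
  haveI : Finite ↥S₁ := Finite.of_injective _ (Subgroup.inclusion_injective hS₁F)
  have c1 : 2 * Nat.card ↥AF ≤ Nat.card ↥S₁ := card_lt_double le_sup_left fun h => haQ
    (e0'.mem_Q (hAE ha) fun z hz => hAc a ha z (h (Subgroup.mem_sup_right hz)).1)
  set u2 := t * v * t⁻¹ with hu2
  have hu2V : u2 ∈ V2 := conj_mem_cj hv
  have hvw : v * w ≠ w * v := fun h => by
    refine hxK ?_
    show ⁅v, w⁆ ∈ _
    rw [commutatorElement_eq_one_iff_mul_comm.2 h]; exact one_mem _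
  have hu2w : u2 * w2 ≠ w2 * u2 := fun h => hvw ((conj_comm_iff t v w).1 h)
  have hu2w1 : u2 * w1 = w1 * u2 := R21.2 u2 hu2V w hw
  have hu2not : ∀ {H : Subgroup Γ}, H ≤ Fg → (∀ y ∈ H, y * w1 = w1 * y) → (∀ y ∈ H, y * w2 = w2 * y) →
      ¬ u2 ∈ AF ⊔ H := by
    intro H hHF h1 h2 hmem
    obtain ⟨f, hf, y, hy, he⟩ := mem_sup_mul (H := AF) (nrm fun f hf y hy => hFc f (Subgroup.mem_inf.1 hf).2 y (hHF hy)) hmem
    have e1 : f = u2 * y⁻¹ := by rw [he]; group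
    have h4 : f * w1 = w1 * f := by
      rw [e1]; exact (show Commute u2 w1 from hu2w1).mul_left (Commute.inv_left (h1 y hy))
    refine hu2w ?_
    rw [he]; exact (show Commute f w2 from (hAFw f hf).2 h4).mul_left (h2 y hy)
  have hv0w2 : ∀ y ∈ V0, y * w2 = w2 * y := fun y hy => R10.2 y hy w hw
  have hv0w1 : ∀ y ∈ V0, y * w1 = w1 * y := fun y hy => R20.2 y hy w hw
  have hv2w1 : ∀ y ∈ V2, y * w1 = w1 * y := fun y hy => R21.2 y hy w hw
  have hv'w1 : a * t * v * (a * t)⁻¹ * w1 ≠ w1 * (a * t * v * (a * t)⁻¹) := fun h =>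
    hvw ((conj_comm_iff (a * t) v w).1 h)
  have cle : ∀ {H K : Subgroup Γ} {r : Γ}, (∀ y ∈ H, y * r = r * y) → (∀ y ∈ K, y * r = r * y) →
      ∀ y ∈ H ⊔ K, y * r = r * y := fun h h' =>
    le_centralizer_singleton.1 (sup_le (le_centralizer_singleton.2 h) (le_centralizer_singleton.2 h'))
  have hposN : 0 < Nat.card ↥N := by
    haveI : Finite ↥N := Finite.of_injective _ (Subgroup.inclusion_injective (inf_le_left : N ≤ C₀))
    exact Nat.card_pos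
  have hposAF : 0 < Nat.card ↥AF := Nat.card_pos
  by_cases hα : ∃ f ∈ AF, f * w ≠ w * f <;> by_cases hβ : ∃ f ∈ AF, f * w2 ≠ w2 * f
  · have e1 : C₀ = C := le_antisymm inf_le_left (le_inf le_rfl (alpha hα))
    have e2 : N = C₀ := le_antisymm inf_le_left (le_inf le_rfl (e1.le.trans (beta hβ)))
    have c2 : 2 * Nat.card ↥S₁ ≤ Nat.card ↥Fg := card_lt_double hS₁F fun h =>
      hu2not hV1F (fun y hy => hV1w y hy w1 hw1Q) (fun y hy => hV1w y hy w2 hw2Q) (h (hV2F hu2V))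
    rw [e2, e1] at hprod
    rw [e2, e1] at hposN
    nlinarith
  · have e1 : C₀ = C := le_antisymm inf_le_left (le_inf le_rfl (alpha hα))
    push Not at hβ
    have s2 : ∀ y ∈ S₁, y * w2 = w2 * y := cle hβ fun y hy => hV1w y hy w2 hw2Q
    have s1 : ∀ y ∈ S₁, y * w1 = w1 * y :=
      cle (fun y hy => (hAFw y hy).1 (hβ y hy)) fun y hy => hV1w y hy w1 hw1Q
    haveI : Finite ↥(S₁ ⊔ V2) := Finite.of_injective _ (Subgroup.inclusion_injective (sup_le hS₁F hV2F))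
    have c2 : 2 * Nat.card ↥S₁ ≤ Nat.card ↥(S₁ ⊔ V2) := card_lt_double le_sup_left fun h =>
      hu2w (s2 u2 (h (Subgroup.mem_sup_right hu2V)))
    have c3 : 2 * Nat.card ↥(S₁ ⊔ V2) ≤ Nat.card ↥Fg := card_lt_double (sup_le hS₁F hV2F) fun h =>
      hv'w1 (cle s1 hv2w1 _ (h (hV1'F (conj_mem_cj hv))))
    rw [e1] at hC₀N
    nlinarith
  · push Not at hα
    have e2 : N = C₀ := le_antisymm inf_le_left (le_inf le_rfl (inf_le_left.trans (beta hβ)))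
    have s0 : ∀ y ∈ S₁, y * w = w * y := cle hα fun y hy => hV1w y hy w (hW hw)
    haveI : Finite ↥(S₁ ⊔ V0) := Finite.of_injective _ (Subgroup.inclusion_injective (sup_le hS₁F hV0F))
    have c2 : 2 * Nat.card ↥S₁ ≤ Nat.card ↥(S₁ ⊔ V0) := card_lt_double le_sup_left fun h =>
      hvw (s0 v (h (Subgroup.mem_sup_right hv)))
    have c3 : 2 * Nat.card ↥(S₁ ⊔ V0) ≤ Nat.card ↥Fg := card_lt_double (sup_le hS₁F hV0F) fun h => by
      have h' := h (hV2F hu2V)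
      rw [hS₁, sup_assoc] at h'
      exact hu2not (sup_le hV1F hV0F) (cle (fun y hy => hV1w y hy w1 hw1Q) hv0w1)
        (cle (fun y hy => hV1w y hy w2 hw2Q) hv0w2) h'
    rw [e2] at hprod
    rw [e2] at hposN
    nlinarith
  · push Not at hα hβ
    have s0 : ∀ y ∈ S₁, y * w = w * y := cle hα fun y hy => hV1w y hy w (hW hw)
    have s2 : ∀ y ∈ S₁, y * w2 = w2 * y := cle hβ fun y hy => hV1w y hy w2 hw2Q
    have s1 : ∀ y ∈ S₁, y * w1 = w1 * y :=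
      cle (fun y hy => (hAFw y hy).1 (hβ y hy)) fun y hy => hV1w y hy w1 hw1Q
    have hT2 : S₁ ⊔ V0 ≤ Fg := sup_le hS₁F hV0F
    have hT3 : S₁ ⊔ V0 ⊔ V2 ≤ Fg := sup_le hT2 hV2F
    haveI : Finite ↥(S₁ ⊔ V0) := Finite.of_injective _ (Subgroup.inclusion_injective hT2)
    haveI : Finite ↥(S₁ ⊔ V0 ⊔ V2) := Finite.of_injective _ (Subgroup.inclusion_injective hT3)
    have c2 : 2 * Nat.card ↥S₁ ≤ Nat.card ↥(S₁ ⊔ V0) := card_lt_double le_sup_left fun h =>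
      hvw (s0 v (h (Subgroup.mem_sup_right hv)))
    have c3 : 2 * Nat.card ↥(S₁ ⊔ V0) ≤ Nat.card ↥(S₁ ⊔ V0 ⊔ V2) := card_lt_double le_sup_left fun h =>
      hu2w (cle s2 hv0w2 u2 (h (Subgroup.mem_sup_right hu2V)))
    have c4 : 2 * Nat.card ↥(S₁ ⊔ V0 ⊔ V2) ≤ Nat.card ↥Fg := card_lt_double hT3 fun h =>
      hv'w1 (cle (cle s1 hv0w1) hv2w1 _ (h (hV1'F (conj_mem_cj hv))))
    nlinarith

end Fam

end Cfsg.Agent.Lib.PushUpP
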