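import Cfsg.Agent.Lib.PushUpP.EndTwo
import Cfsg.Agent.Lib.PushUpP.EndSmall

/-!
The first offset of a critical path of length at least two is good.
-/

set_option autoImplicit false

namespace Cfsg.Agent.Lib.PushUpP

open scoped commutatorElement Pointwise

variable {Γ : Type*} [Group Γ] {p : ℕ}

theorem conj_mem_of_comm {w a : Γ} (h : w * a = a * w) : w * a * w⁻¹ = a := by rw [h, mul_inv_cancel_right]

namespace Fam

variable [hp : Fact p.Prime] {ι : Type*} {F : Fam Γ p ι} {b : ℕ}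

/-- For a conjugate neighbour commuting with `V_b`, commutators with `Q₁`, moved by `y`, commute with `V_b`. -/
theorem claim (P : F.Path b) (hF : F.Far b) (hb : 2 ≤ b) (hbad : F.Bad (P.f 0).2 (P.f 1).2 (P.off 0))
    {y g : Γ} (hy : y ∈ F.XX (P.f 0)) (hyne : ¬ Same p (cj y (P.E 0)) (P.E 0)) (hg : g ∈ F.XX (P.f 1))
    (hgc : ∀ u ∈ cj g (F.VV (P.f 0)), ∀ w ∈ F.VV (P.f b), u * w = w * u)
    (hg0 : cj g (F.VV (P.f 0)) ≤ F.QQ (P.f 0)) :
    ∀ u ∈ cj g (F.VV (P.f 0)), ∀ s ∈ F.QQ (P.f 1), ∀ w ∈ F.VV (P.f b),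
      y * ⁅u, s⁆ * y⁻¹ * w = w * (y * ⁅u, s⁆ * y⁻¹) := by
  have a0 := P.adj 0 (by omega)
  have hH := a0.bad_iff.1 hbad
  have c := P.toCrit hF (by omega)
  set v0 := P.f 0 with hv0d
  set v1 := P.f 1 with hv1d
  set vb := P.f b with hvbd
  set E0 := P.E 0 with hE0d
  have e0 : F.IsEdge v0 E0 := a0.edge
  have e0' : F.IsEdge v1 E0 := a0.edge'
  have hV01 : F.VV v0 ≤ F.QQ v1 := hF 1 (by omega) _ _ a0.near
  have hV10 : F.VV v1 ≤ F.QQ v0 := hF 1 (by omega) _ _ a0.near.symm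
  have hVb1 : F.VV vb ≤ F.QQ v1 :=
    hF (b - 1) (by omega) _ _ (P.near_of (i := 1) (j := b) (by omega) le_rfl).symm
  have hV1b : F.VV v1 ≤ F.QQ vb := hF (b - 1) (by omega) _ _ (P.near_of (i := 1) (j := b) (by omega) le_rfl)
  have hfull : E0 = F.QQ v0 ⊔ F.VV vb := c.full
  have hVbE : F.VV vb ≤ E0 := c.2.2.1
  have hgV1 : cj g (F.VV v0) ≤ F.QQ v1 := by
    rw [← cj_Q_self hg]; exact cj_mono g hV01
  have hHc : ∀ z ∈ F.VV v1 ⊔ F.VV v0, ∀ d ∈ F.QQ v0 ⊓ F.QQ v1, z * d = d * z := fun z hz d hd =>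
    le_centralizer_singleton.1 (sup_le
      (le_centralizer_singleton.2 fun u hu => (Data.Q_cent' hd.2 hu).symm)
      (le_centralizer_singleton.2 fun u hu => (Data.Q_cent' hd.1 hu).symm)) z hz
  have hDn : ∀ x ∈ F.XX v0, ∀ d ∈ F.QQ v0 ⊓ F.QQ v1, x * d * x⁻¹ ∈ F.QQ v0 ⊓ F.QQ v1 := by
    intro x hx d hd
    have h0 : x * d * x⁻¹ ∈ F.QQ v0 := Data.Q_conj _ hx hd.1
    refine ⟨h0, e0'.mem_Q (e0.Q_le h0) fun v hv => ?_⟩
    have h1 : x⁻¹ * v * x ∈ F.VV v1 ⊔ F.VV v0 := by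
      simpa using hH x⁻¹ (inv_mem hx) v (Subgroup.mem_sup_left hv)
    have h2 := hHc _ h1 d hd
    calc x * d * x⁻¹ * v = x * (d * (x⁻¹ * v * x)) * x⁻¹ := by group
      _ = x * ((x⁻¹ * v * x) * d) * x⁻¹ := by rw [h2]
      _ = v * (x * d * x⁻¹) := by group
  -- the moved vertices
  set vm := lmul y v1 with hvm
  set vg := lmul g v0 with hvg
  set v2 := lmul y vg with hv2
  have ag : F.AdjN (P.off 0) vg v1 (cj g E0) := (a0.lmul g).eqv_right (Eqv.of_mem hg).symm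
  have am : F.AdjN (P.off 0) v0 vm (cj y E0) := (a0.lmul y).eqv_left (Eqv.of_mem hy).symm
  have a2 : F.AdjN (P.off 0) v2 vm (cj y (cj g E0)) := ag.lmul y
  have hvmH : F.VV vm ≤ F.VV v1 ⊔ F.VV v0 := by
    intro u hu
    rw [lmul_V] at hu
    have h1 := hH y hy _ (Subgroup.mem_sup_left (T := F.VV v0) (mem_cj.1 hu))
    simpa [mul_assoc] using h1
  have hQm : cj y (F.QQ v1) = F.QQ vm := (lmul_Q y v1).symm
  have hprev : ∀ i, i < b → F.VV (P.f i) ≤ F.QQ vm := by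
    intro i hi u hu
    have h0 : u ∈ F.QQ v0 := hF i hi _ _ (P.near_of (i := 0) (by omega) (by omega)).symm hu
    refine am.edge'.mem_Q (am.edge.Q_le h0) fun z hz => ?_
    refine (le_centralizer_singleton.1 (sup_le ?_ ?_) z (hvmH hz)).symm
    · refine le_centralizer_singleton.2 fun z hz => ?_
      rcases Nat.eq_zero_or_pos i with rfl | hi0
      · exact Data.Q_cent' (hV10 hz) hu
      · exact Data.Q_cent' (hF (i - 1) (by omega) _ _ (P.near_of (i := 1) (j := i) (by omega) (by omega)) hz) hu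
    · exact le_centralizer_singleton.2 fun z hz => (Data.Q_cent' h0 hz).symm
  have hmemD : ∀ u ∈ cj g (F.VV v0), u ∈ F.QQ v0 ⊓ F.QQ v1 := fun u hu => ⟨hg0 hu, hgV1 hu⟩
  have hV2D : F.VV v2 ≤ F.QQ v0 ⊓ F.QQ v1 := by
    intro u hu
    rw [lmul_V, mem_cj, lmul_V] at hu
    have := hDn y hy _ (hmemD _ hu)
    simpa [mul_assoc] using this
  have hconjV : ∀ u ∈ cj g (F.VV v0), y * u * y⁻¹ ∈ F.VV v2 := fun u hu => by
    rw [lmul_V, lmul_V]; exact conj_mem_cj hu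
  have hconjE : ∀ s ∈ F.QQ v1, y * s * y⁻¹ ∈ cj y (cj g E0) := fun s hs => conj_mem_cj (ag.edge'.Q_le hs)
  intro u hu s hs w hw
  have e : y * ⁅u, s⁆ * y⁻¹ = ⁅y * u * y⁻¹, y * s * y⁻¹⁆ := by simp only [commutatorElement_def]; group
  by_cases hA : 3 ≤ b ∧ ¬ F.VV v2 ≤ F.QQ (P.f (b - 2))
  · obtain ⟨hb3, hA⟩ := hA
    have aj := P.adj (b - 3) (by omega)
    rw [show b - 3 + 1 = b - 2 by omega] at aj
    have hnear : F.Near (b - 1) v2 (P.f (b - 3)) := by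
      have := Near.prepend ⟨_, _, a2⟩ (Near.prepend ⟨_, _, am.symm⟩
        (P.near_of (i := 0) (j := b - 3) (k := b - 3) (by omega) (by omega)))
      rwa [show b - 3 + 1 + 1 = b - 1 by omega] at this
    have cA : F.Crit v2 (P.f (b - 2)) (cj y (cj g E0)) (P.E (b - 3)) :=
      ⟨a2.edge, aj.edge', (hprev _ (by omega)).trans a2.edge'.Q_le,
        (hF (b - 1) (by omega) _ _ hnear).trans aj.edge.Q_le, hA⟩
    have h1 := (Data.Crit.comm_both cA (hconjV u hu) (hconjE s hs)).2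
    rw [e]
    exact hF.commute (k := 2) (by omega) (P.near_of (i := b - 2) (j := b) (by omega) le_rfl)
      (aj.edge'.inZ_mem_V h1) hw
  have hA' : F.VV v2 ≤ P.E (b - 2) := by
    rcases Nat.lt_or_ge b 3 with hb3 | hb3
    · rw [show b - 2 = 0 by omega]; exact (hV2D.trans inf_le_left).trans e0.Q_le
    · exact (not_not.1 fun h => hA ⟨hb3, h⟩ : F.VV v2 ≤ F.QQ (P.f (b - 2))).trans (P.adj (b - 2) (by omega)).edge.Q_le
  by_cases hB : ¬ F.VV v2 ≤ F.QQ (P.f (b - 1))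
  · have aj := P.adj (b - 2) (by omega)
    rw [show b - 2 + 1 = b - 1 by omega] at aj
    have cB : F.Crit v2 (P.f (b - 1)) (cj y (cj g E0)) (P.E (b - 2)) :=
      ⟨a2.edge, aj.edge', (hprev _ (by omega)).trans a2.edge'.Q_le, hA', hB⟩
    have h1 := (Data.Crit.comm_both cB (hconjV u hu) (hconjE s hs)).2
    rw [e]
    exact hF.commute (k := 1) (by omega) (P.near_of (i := b - 1) (j := b) (by omega) le_rfl)
      (aj.edge'.inZ_mem_V h1) hw
  rw [not_not] at hB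
  have aL := P.adj (b - 1) (by omega)
  rw [show b - 1 + 1 = b by omega] at aL
  -- reduce to `s` in `Q₀ ∩ Q₁`
  have hs' : s ∈ F.VV vb ⊔ F.QQ v0 := by rw [sup_comm, ← hfull]; exact e0'.Q_le hs
  obtain ⟨w1, hw1, d, hd, rfl⟩ := mem_sup_mul (Data.Q_normalizes e0 hVbE) hs'
  have hdD : d ∈ F.QQ v0 ⊓ F.QQ v1 := ⟨hd, by
    have := mul_mem (inv_mem (hVb1 hw1)) hs
    simpa using this⟩
  set d1 := w1 * d * w1⁻¹ with hd1
  have hd1D : d1 ∈ F.QQ v0 ⊓ F.QQ v1 := hDn w1 (e0.le_X (hVbE hw1)) d hdD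
  have e1 : ⁅u, w1 * d⁆ = ⁅u, d1⁆ := by
    calc ⁅u, w1 * d⁆ = (u * w1) * d * u⁻¹ * d⁻¹ * w1⁻¹ := by rw [commutatorElement_def]; group
      _ = w1 * u * d * u⁻¹ * d⁻¹ * w1⁻¹ := by rw [hgc u hu w1 hw1]
      _ = (w1 * u) * d * (w1 * u)⁻¹ * (w1 * d * w1⁻¹)⁻¹ := by group
      _ = (u * w1) * d * (u * w1)⁻¹ * (w1 * d * w1⁻¹)⁻¹ := by rw [hgc u hu w1 hw1]
      _ = ⁅u, d1⁆ := by rw [hd1, commutatorElement_def]; group
  rw [e1]
  set v' := y * u * y⁻¹ with hv'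
  set d' := y * d1 * y⁻¹ with hd'
  have hd'D : d' ∈ F.QQ v0 ⊓ F.QQ v1 := hDn y hy d1 hd1D
  have hv'V : v' ∈ F.VV v2 := hconjV u hu
  have hinm : ∀ δ ∈ F.QQ v0 ⊓ F.QQ v1, ⁅v', δ⁆ ∈ F.VV vm := by
    intro δ hδ
    have hδ' : y⁻¹ * δ * y ∈ F.QQ v1 := by simpa using (hDn y⁻¹ (inv_mem hy) δ hδ).2
    have h1 : ⁅u, y⁻¹ * δ * y⁆ ∈ F.VV v1 := ag.edge'.inZ_mem_V
      (ag.edge.comm_inZ (ag.edge'.Q_le hδ') ((lmul_V g v0).symm.le hu))
    rw [show ⁅v', δ⁆ = y * ⁅u, y⁻¹ * δ * y⁆ * y⁻¹ by rw [hv']; simp only [commutatorElement_def]; group, lmul_V]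
    exact conj_mem_cj h1
  set z := y * ⁅u, d1⁆ * y⁻¹ with hz
  have hze : z = ⁅v', d'⁆ := by rw [hz, hv', hd']; simp only [commutatorElement_def]; group
  have hwE : w ∈ E0 := hVbE hw
  have hl := (Data.Crit.comm_both c.symm hw (aL.edge.Q_le (hB hv'V))).2
  set l := ⁅w, v'⁆ with hld
  have hv'E : v' ∈ E0 := e0.Q_le (hV2D hv'V).1
  set d'' := w * d' * w⁻¹ with hd''
  have hd''D : d'' ∈ F.QQ v0 ⊓ F.QQ v1 := hDn w (e0.le_X hwE) d' hd'D
  have hwz : w * z * w⁻¹ = ⁅v', d''⁆ := by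
    have hl1 : d'' * l = l * d'' := hl.2.2 d'' (e0.Q_le hd''D.1)
    calc w * z * w⁻¹ = ⁅l * v', d''⁆ := by rw [hze, hld, hd'']; simp only [commutatorElement_def]; group
      _ = l * ⁅v', d''⁆ * l⁻¹ * ⁅l, d''⁆ := by simp only [commutatorElement_def]; group
      _ = ⁅v', d''⁆ := by
        rw [commutatorElement_eq_one_iff_mul_comm.2 hl1.symm, mul_one]
        refine conj_mem_of_comm (hl.2.2 _ ?_).symm
        rw [commutatorElement_def]
        exact mul_mem (mul_mem (mul_mem hv'E (e0.Q_le hd''D.1)) (inv_mem hv'E)) (inv_mem (e0.Q_le hd''D.1))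
  have hzm : z ∈ F.VV vm := hze ▸ hinm d' hd'D
  set r := w * z * w⁻¹ * z⁻¹ with hr
  have hrm : r ∈ F.VV vm := mul_mem (hwz ▸ hinm d'' hd''D) (inv_mem hzm)
  obtain ⟨a, ha, c', hc', hzac⟩ := mem_sup_mul
    (le_normalizer_of fun a ha u' hu' => Data.V_conj _ (e0.le_X (e0'.V_le ha)) hu') (hvmH hzm)
  have hwa : w * a = a * w := (Data.Q_cent' (hV1b ha) hw).symm
  have ha0 : a * ⁅w, c'⁆ = ⁅w, c'⁆ * a := (e0.comm_inZ' hwE hc').2.2 a (e0'.V_le ha)
  have hre : r = ⁅w, c'⁆ := by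
    calc r = (w * a) * (c' * w⁻¹ * c'⁻¹ * a⁻¹) := by rw [hr, hzac]; group
      _ = a * ⁅w, c'⁆ * a⁻¹ := by rw [hwa, commutatorElement_def]; group
      _ = _ := by rw [ha0, mul_inv_cancel_right]
  suffices h : ⁅w, c'⁆ = 1 by
    rw [← hre, hr, mul_inv_eq_one, mul_inv_eq_iff_eq_mul] at h
    exact h.symm
  by_cases hwQ : w ∈ F.QQ v0
  · exact commutatorElement_eq_one_iff_mul_comm.2 (Data.Q_cent' hwQ hc')
  have hrZ : InZ p E0 r := hre ▸ e0.comm_inZ' hwE hc'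
  have hrc : ∀ t ∈ cj y E0, t * r = r * t := by
    rw [hfull, cj_sup, cj_Q_self hy]
    refine le_centralizer_singleton.1 (sup_le ?_ ?_)
    · exact le_centralizer_singleton.2 fun q hq => Data.Q_cent' hq (hre ▸ e0.inZ_mem_V (e0.comm_inZ' hwE hc'))
    · exact le_centralizer_singleton.2 fun t ht => Data.Q_cent' (hQm.le (cj_mono y hVb1 ht)) hrm
  have hK : r ∈ F.KK v0 :=
    Data.mem_K_of_edges e0 am.edge (not_same_symm hyne) (e0.inZ_mem_V hrZ) hrZ.2.2 hrc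
  by_contra hne
  refine e0.comm_notK hwE hwQ hc' (fun h => hne ?_) ?_
  · exact commutatorElement_eq_one_iff_mul_comm.2 (h.2.2 w hwE)
  · rw [← commutatorElement_inv, ← hre]; exact inv_mem hK

/-- The first offset of a critical path of length at least two is good. -/
theorem good_right (P : F.Path b) (hF : F.Far b) (hb : 2 ≤ b) :
    ¬ F.Bad (P.f 0).2 (P.f 1).2 (P.off 0) := by
  intro hbad
  have a0 := P.adj 0 (by omega)
  have a1 := P.adj 1 (by omega)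
  have c := P.toCrit hF (by omega)
  obtain ⟨y, hy, hyne⟩ : ∃ y ∈ F.XX (P.f 0), ¬ Same p (cj y (P.E 0)) (P.E 0) := by
    obtain ⟨x₀, hx₀, hne⟩ := a0.edge.exists_other
    have e' : F.IsEdge (P.f 0) (cj ((P.f 0).1 * x₀) (F.D (P.f 0).2).T) := ⟨x₀, hx₀, rfl⟩
    obtain ⟨y, hy, hye⟩ := a0.edge.trans e'
    exact ⟨y, hy, hye.symm ▸ hne⟩
  have hclaim := fun {g : Γ} (hg : g ∈ F.XX (P.f 1)) hgc hg0 => claim P hF hb hbad hy hyne hg hgc hg0
  set v0 := P.f 0 with hv0d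
  set v1 := P.f 1 with hv1d
  set vb := P.f b with hvbd
  set E0 := P.E 0 with hE0d
  have e0 : F.IsEdge v0 E0 := a0.edge
  have e0' : F.IsEdge v1 E0 := a0.edge'
  have hV01 : F.VV v0 ≤ F.QQ v1 := hF 1 (by omega) _ _ a0.near
  have hV10 : F.VV v1 ≤ F.QQ v0 := hF 1 (by omega) _ _ a0.near.symm
  have hVb1 : F.VV vb ≤ F.QQ v1 :=
    hF (b - 1) (by omega) _ _ (P.near_of (i := 1) (j := b) (by omega) le_rfl).symm
  have hfull : E0 = F.QQ v0 ⊔ F.VV vb := c.full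
  have hVbE : F.VV vb ≤ E0 := c.2.2.1
  have aL := P.adj (b - 1) (by omega)
  rw [show b - 1 + 1 = b by omega] at aL
  set Cc := cj y⁻¹ (Subgroup.centralizer (F.VV vb : Set Γ)) with hCc
  have hgC : ∀ g ∈ F.XX v1, (∀ u ∈ cj g (F.VV v0), ∀ w ∈ F.VV vb, u * w = w * u) →
      cj g (F.VV v0) ≤ F.QQ v0 → ∀ u ∈ cj g (F.VV v0), ∀ s ∈ F.QQ v1, ⁅u, s⁆ ∈ Cc := by
    intro g hg hgc hg0 u hu s hs
    refine mem_cj.2 ?_
    rw [inv_inv]
    exact fun w hw => (hclaim hg hgc hg0 u hu s hs w hw).symm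
  -- commutators of the ends are not in `Cc`
  have hkillC : ∀ v ∈ F.VV v0, ∀ w ∈ F.VV vb, ¬ InZ p E0 v → w ∉ F.QQ v0 → ⁅v, w⁆ ∉ Cc := by
    intro v hv w hw hvZ hwQ hmem
    have hxZ := e0.comm_inZ (hVbE hw) hv
    refine e0.comm_notK (hVbE hw) hwQ hv hvZ ?_
    set x := ⁅v, w⁆ with hx
    have hcx := mem_cj.1 hmem
    rw [inv_inv] at hcx
    have h'V : y * x * y⁻¹ ∈ F.VV v0 := Data.V_conj _ hy (e0.inZ_mem_V hxZ)
    have h1 : ∀ t ∈ E0, t * (y * x * y⁻¹) = y * x * y⁻¹ * t := by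
      rw [hfull]
      exact le_centralizer_singleton.1 (sup_le (le_centralizer_singleton.2 fun q hq => Data.Q_cent' hq h'V)
        (le_centralizer_singleton.2 fun t ht => hcx t ht))
    have ey : F.IsEdge v0 (cj y E0) := ((a0.lmul y).eqv_left (Eqv.of_mem hy).symm).edge
    have h2 : InZ p (cj y E0) (y * x * y⁻¹) := inZ_cj.2 (by rwa [show y⁻¹ * (y * x * y⁻¹) * y = x by group])
    have hK := Data.mem_K_of_edges e0 ey (not_same_symm hyne) h'V h1 h2.2.2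
    have h3 : y⁻¹ * (y * x * y⁻¹) = y * x * y⁻¹ * y⁻¹ := Data.K_comm (inv_mem hy) hK
    have h4 : x = y * x * y⁻¹ := by
      calc x = y⁻¹ * (y * x * y⁻¹) * y := by group
        _ = _ := by rw [h3]; group
    show x ∈ _
    rw [h4]; exact hK
  -- one conjugate of `v₀` near `v_b`
  obtain ⟨g₁, hg₁, hg₁C⟩ : ∃ g ∈ F.XX v1, (∀ u ∈ cj g (F.VV v0), ∀ w ∈ F.VV vb, u * w = w * u) ∧
      cj g (F.VV v0) ≤ F.QQ v0 := by
    rcases Nat.lt_or_ge b 3 with hb3 | hb3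
    · obtain rfl : b = 2 := by omega
      have hsame : Same p E0 (P.E 1) := not_not.1 fun h => end_two P hF hbad h
      obtain ⟨x₁, hx₁, hne⟩ := e0'.exists_other
      obtain ⟨g, hg, hge⟩ := e0'.trans (⟨x₁, hx₁, rfl⟩ : F.IsEdge v1 _)
      rw [← hge] at hne
      have ag : F.AdjN (P.off 0) (lmul g v0) v1 (cj g E0) := (a0.lmul g).eqv_right (Eqv.of_mem hg).symm
      have hgV1 : cj g (F.VV v0) ≤ F.QQ v1 := by rw [← lmul_V]; exact hF 1 (by omega) _ _ ag.near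
      have h0 : cj g (F.VV v0) ≤ F.QQ v0 := by
        by_contra h
        let P' : F.Path 2 :=
          { f := fun k => match k with | 0 => v0 | 1 => v1 | _ + 2 => lmul g v0
            E := fun k => match k with | 0 => E0 | _ + 1 => cj g E0
            off := fun k => match k with | 0 => P.off 0 | _ + 1 => (P.off 0)⁻¹
            adj := fun k hk => match k with
              | 0 => a0
              | 1 => ag.symm
            crit := fun hle => h fun u hu => e0.mem_Q (e0'.Q_le (hgV1 hu)) fun v hv =>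
              (Data.Q_cent' (hle hv) ((lmul_V g v0).symm.le hu)).symm }
        exact end_two P' hF hbad (not_same_symm hne)
      refine ⟨g, hg, fun u hu w hw => ?_, h0⟩
      have h2 : cj g (F.VV v0) ≤ F.QQ (P.f 2) := by
        by_contra h
        let P' : F.Path 2 :=
          { f := fun k => match k with | 0 => lmul g v0 | 1 => v1 | _ + 2 => P.f 2
            E := fun k => match k with | 0 => cj g E0 | _ + 1 => P.E 1
            off := fun k => match k with | 0 => P.off 0 | _ + 1 => P.off 1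
            adj := fun k hk => match k with
              | 0 => ag
              | 1 => a1
            crit := fun hle => h (by rw [← lmul_V]; exact hle) }
        exact end_two P' hF hbad fun h => hne (same_trans h (same_symm hsame))
      exact Data.Q_cent' (h2 hu) hw
    · obtain ⟨g, hg, hge⟩ := e0'.trans a1.edge
      have ag : F.AdjN (P.off 0) (lmul g v0) v1 (P.E 1) := hge ▸ (a0.lmul g).eqv_right (Eqv.of_mem hg).symm
      obtain ⟨k, hk⟩ := ag.symm.share a1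
      have hn : F.Near (b - 1) (lmul g v0) vb := by
        have := Near.prepend ⟨k, _, hk⟩ (P.near_of (i := 2) (j := b) (k := b - 2) (by omega) le_rfl)
        rwa [show b - 2 + 1 = b - 1 by omega] at this
      refine ⟨g, hg, fun u hu w hw => hF.commute (k := b - 1) (by omega) hn (by rw [lmul_V]; exact hu) hw, ?_⟩
      rw [← lmul_V]
      exact hF 2 (by omega) _ _ (ag.near.extend a0.symm)
  have hker : ∀ v ∈ F.VV v0, ∀ w ∈ F.VV vb, ¬ InZ p E0 v → w ∉ F.QQ v0 →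
      ⁅v, w⁆ ∉ Cc ∧ ⁅v, w⁆ ∉ F.KK v1 := by
    intro v hv w hw hvZ hwQ
    refine ⟨hkillC v hv w hw hvZ hwQ, fun hK => hkillC v hv w hw hvZ hwQ ?_⟩
    have e : ⁅v, w⁆ = ⁅g₁ * v * g₁⁻¹, g₁ * w * g₁⁻¹⁆ := by
      rw [show ⁅g₁ * v * g₁⁻¹, g₁ * w * g₁⁻¹⁆ = g₁ * ⁅v, w⁆ * g₁⁻¹ by simp only [commutatorElement_def]; group,
        Data.K_comm hg₁ hK, mul_inv_cancel_right]
    rw [e]
    exact hgC g₁ hg₁ hg₁C.1 hg₁C.2 _ (conj_mem_cj hv) _ (Data.Q_conj _ hg₁ (hVb1 hw))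
  -- all moving conjugates behave in the same way
  have hgood : ∀ g ∈ F.XX v1, ¬ Same p (cj g E0) E0 → cj g (F.VV v0) ≤ F.QQ v0 ∧
      (∀ u ∈ cj g (F.VV v0), ∀ w ∈ F.VV vb, u * w = w * u) ∧
      ∀ u ∈ cj g (F.VV v0), ∀ s ∈ F.QQ v1, ⁅u, s⁆ ∈ Cc := by
    intro g hg hm
    have ag : F.AdjN (P.off 0) (lmul g v0) v1 (cj g E0) := (a0.lmul g).eqv_right (Eqv.of_mem hg).symm
    have hgV1 : cj g (F.VV v0) ≤ F.QQ v1 := by rw [← lmul_V]; exact hF 1 (by omega) _ _ ag.near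
    have h0 : cj g (F.VV v0) ≤ F.QQ v0 := by
      rcases Nat.lt_or_ge b 3 with hb3 | hb3
      · obtain rfl : b = 2 := by omega
        by_contra h
        let P' : F.Path 2 :=
          { f := fun k => match k with | 0 => v0 | 1 => v1 | _ + 2 => lmul g v0
            E := fun k => match k with | 0 => E0 | _ + 1 => cj g E0
            off := fun k => match k with | 0 => P.off 0 | _ + 1 => (P.off 0)⁻¹
            adj := fun k hk => match k with
              | 0 => a0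
              | 1 => ag.symm
            crit := fun hle => h fun u hu => e0.mem_Q (e0'.Q_le (hgV1 hu)) fun v hv =>
              (Data.Q_cent' (hle hv) ((lmul_V g v0).symm.le hu)).symm }
        exact end_two P' hF hbad (not_same_symm hm)
      · rw [← lmul_V]; exact hF 2 (by omega) _ _ (ag.near.extend a0.symm)
    have hE : cj g (F.VV v0) ≤ P.E (b - 1) := by
      rw [← lmul_V]
      have hn : F.Near (b - 2 + 1) (lmul g v0) (P.f (b - 1)) :=
        Near.prepend ⟨_, _, ag⟩ (P.near_of (i := 1) (by omega) (by omega))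
      exact (hF _ (by omega) _ _ hn).trans (P.adj (b - 1) (by omega)).edge.Q_le
    have hgc : ∀ u ∈ cj g (F.VV v0), ∀ w ∈ F.VV vb, u * w = w * u := by
      intro u hu w' hw'
      by_contra hne
      have hu' : u ∈ F.VV (lmul g v0) := by rw [lmul_V]; exact hu
      have h1 : InZ p E0 ⁅w', u⁆ := (Data.Crit.comm_both c.symm hw' (hE hu)).2
      have h2 : InZ p (cj g E0) ⁅u, w'⁆ := ag.edge.comm_inZ (ag.edge'.Q_le (hVb1 hw')) hu'
      set x' := ⁅u, w'⁆ with hx'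
      have h1' : InZ p E0 x' := inZ_comm_symm h1
      have hK : x' ∈ F.KK v1 :=
        Data.mem_K_of_edges e0' ag.edge' (not_same_symm hm) (e0'.inZ_mem_V h1') h1'.2.2 h2.2.2
      set v := g⁻¹ * u * g with hvd
      set s := g⁻¹ * w' * g with hsd
      have hv : v ∈ F.VV v0 := mem_cj.1 hu
      have hs : s ∈ F.QQ v1 := by simpa [hsd] using Data.Q_conj _ (inv_mem hg) (hVb1 hw')
      have he : ⁅v, s⁆ = x' := by
        rw [show ⁅v, s⁆ = g⁻¹ * x' * g by rw [hvd, hsd, hx']; simp only [commutatorElement_def]; group,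
          Data.K_comm (inv_mem hg) hK, inv_mul_cancel_right]
      have hs' : s ∈ F.VV vb ⊔ F.QQ v0 := by rw [sup_comm, ← hfull]; exact e0'.Q_le hs
      obtain ⟨w1, hw1, q, hq, hsq⟩ := mem_sup_mul (Data.Q_normalizes e0 hVbE) hs'
      have he' : ⁅v, w1⁆ = x' := by
        rw [← he, hsq, show ⁅v, w1 * q⁆ = ⁅v, w1⁆ * (w1 * ⁅v, q⁆ * w1⁻¹) by simp only [commutatorElement_def]; group,
          commutatorElement_eq_one_iff_mul_comm.2 (Data.Q_cent' hq hv).symm, mul_one, mul_inv_cancel, mul_one]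
      have hx1 : ⁅v, w1⁆ ≠ 1 := he' ▸ fun h => hne (commutatorElement_eq_one_iff_mul_comm.1 h)
      exact (hker v hv w1 hw1
        (fun h => hx1 (commutatorElement_eq_one_iff_mul_comm.2 (h.2.2 w1 (hVbE hw1)).symm))
        fun h => hx1 (commutatorElement_eq_one_iff_mul_comm.2 (Data.Q_cent' h hv).symm)).2 (he'.symm ▸ hK)
    exact ⟨h0, hgc, hgC g hg hgc h0⟩
  obtain ⟨v, hv, hvQ⟩ := SetLike.not_le_iff_exists.1 c.2.2.2.2
  obtain ⟨w, hw, hwQ⟩ := SetLike.not_le_iff_exists.1 c.symm.2.2.2.2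
  have hvZ : ¬ InZ p E0 v := fun h => hvQ (c.2.1.mem_Q (c.2.2.2.1 hv) fun u hu =>
    (h.2.2 u (hVbE hu)).symm)
  by_cases hS : ∀ E, F.IsEdge v1 E → ∀ a ∈ E, ∀ b ∈ E, a ∉ F.QQ v1 → b ∉ F.QQ v1 → a * b ∈ F.QQ v1
  · exact small v0 v1 E0 Cc (F.VV vb) v w e0 e0' hV01 hV10 hVb1 hfull hgood hker hv hvZ hw hwQ hS
  push Not at hS
  obtain ⟨E, hE, t₁, ht₁, t₂, ht₂, h1, h2, h12⟩ := hS
  -- the same for an edge moved against `E₀`
  obtain ⟨x₁, hx₁, hne'⟩ := e0'.exists_other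
  obtain ⟨r, hr, hrE⟩ := hE.trans (⟨x₁, hx₁, rfl⟩ : F.IsEdge v1 _)
  set E' := cj (v1.1 * x₁) (F.D v1.2).T with hE'd
  have e1 : F.IsEdge v1 E' := ⟨x₁, hx₁, rfl⟩
  have hnot : ∀ a, a ∉ F.QQ v1 → r * a * r⁻¹ ∉ F.QQ v1 := fun a ha h => ha (by
    have := Data.Q_conj _ (inv_mem hr) h
    simpa [mul_assoc] using this)
  set s₁ := r * t₁ * r⁻¹ with hs₁
  set s₂ := r * t₂ * r⁻¹ with hs₂
  have hs₁E : s₁ ∈ E' := hrE ▸ conj_mem_cj ht₁
  have hs₂E : s₂ ∈ E' := hrE ▸ conj_mem_cj ht₂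
  set t := s₁ * s₂ with ht
  have htQ : t ∉ F.QQ v1 := by
    have := hnot _ h12
    rwa [show r * (t₁ * t₂) * r⁻¹ = t by rw [ht, hs₁, hs₂]; group] at this
  have htE : t ∈ E' := mul_mem hs₁E hs₂E
  have hmv : ∀ s ∈ E', s ∉ F.QQ v1 → ¬ Same p (cj s E0) E0 := fun s hs hsQ =>
    e1.moved e0' (not_same_symm hne') hs hsQ
  have hconj : ∀ s ∈ E', s ∉ F.QQ v1 → s * ⁅v, w⁆ * s⁻¹ ∈ Cc := by
    intro s hs hsQ
    rw [show s * ⁅v, w⁆ * s⁻¹ = ⁅s * v * s⁻¹, s * w * s⁻¹⁆ by simp only [commutatorElement_def]; group]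
    exact (hgood s (e1.le_X hs) (hmv s hs hsQ)).2.2 _ (conj_mem_cj hv) _ (Data.Q_conj _ (e1.le_X hs) (hVb1 hw))
  refine hkillC v hv w hw hvZ hwQ ?_
  set x := ⁅v, w⁆ with hx
  have hxV : x ∈ F.VV v1 := e0'.inZ_mem_V (e0.comm_inZ (hVbE hw) hv)
  set xa := t⁻¹ * x * t with hxa
  have hxaV : xa ∈ F.VV v1 := by simpa [hxa] using Data.V_conj _ (inv_mem (e1.le_X htE)) hxV
  have hα := e1.comm_inZ' hs₂E hxaV
  set α := ⁅s₂, xa⁆ with hαd
  set β := ⁅s₁, xa⁆ with hβd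
  have hsum : x = (s₂ * t⁻¹) * x * (s₂ * t⁻¹)⁻¹ * (t⁻¹ * x * (t⁻¹)⁻¹)⁻¹ * ((s₁ * t⁻¹) * x * (s₁ * t⁻¹)⁻¹) := by
    have hc1 : s₁ * α * s₁⁻¹ = α := conj_mem_of_comm (hα.2.2 s₁ hs₁E)
    calc x = s₁ * (α * xa) * s₁⁻¹ := by rw [hαd, hxa, ht, commutatorElement_def]; group
      _ = (s₁ * α * s₁⁻¹) * (s₁ * xa * s₁⁻¹) := by group
      _ = (α * xa) * xa⁻¹ * (s₁ * xa * s₁⁻¹) := by rw [hc1]; group
      _ = _ := by rw [hαd, hxa, ht, commutatorElement_def]; group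
  show x ∈ Cc
  rw [hsum]
  refine mul_mem (mul_mem (hconj _ (mul_mem hs₂E (inv_mem htE)) ?_) (inv_mem (hconj _ (inv_mem htE) ?_)))
    (hconj _ (mul_mem hs₁E (inv_mem htE)) ?_)
  · intro h
    have : s₁ ∈ F.QQ v1 := by simpa [ht, mul_assoc] using inv_mem h
    exact hnot _ h1 this
  · exact fun h => htQ (by simpa using inv_mem h)
  · intro h
    have h' : s₁ * s₂ * s₁⁻¹ ∈ F.QQ v1 := by simpa [ht, mul_assoc] using inv_mem h
    have := Data.Q_conj _ (inv_mem (e1.le_X hs₁E)) h'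
    exact hnot _ h2 (by simpa [hs₂, mul_assoc] using this)

end Fam

end Cfsg.Agent.Lib.PushUpP
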