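import Cfsg.Agent.Lib.PushUpP.FamBase

/-!
A bad end of a critical path of length two with different edges is impossible.
-/

set_option autoImplicit false

namespace Cfsg.Agent.Lib.PushUpP

open scoped commutatorElement Pointwise

variable {Γ : Type*} [Group Γ]

namespace Fam

variable {p : ℕ} [hp : Fact p.Prime] {ι : Type*} {F : Fam Γ p ι}

theorem end_two (P : F.Path 2) (hF : F.Far 2) (hbad : F.Bad (P.f 0).2 (P.f 1).2 (P.off 0))
    (hne : ¬ Same p (P.E 0) (P.E 1)) : False := by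
  have a0 := P.adj 0 (by omega)
  have a1 := P.adj 1 (by omega)
  have hb := a0.bad_iff.1 hbad
  have c : F.Crit (P.f 0) (P.f 2) (P.E 0) (P.E 1) := P.toCrit hF (by omega)
  set v0 := P.f 0 with hv0
  set v1 := P.f 1 with hv1
  set v2 := P.f 2 with hv2
  set E0 := P.E 0 with hE0d
  set E1 := P.E 1 with hE1d
  have e0 : F.IsEdge v0 E0 := a0.edge
  have e0' : F.IsEdge v1 E0 := a0.edge'
  have e1 : F.IsEdge v1 E1 := a1.edge
  have e1' : F.IsEdge v2 E1 := a1.edge'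
  have hV21 : F.VV v2 ≤ F.QQ v1 := hF 1 (by omega) _ _ a1.near.symm
  have hV01 : F.VV v0 ≤ F.QQ v1 := hF 1 (by omega) _ _ a0.near
  have hV10 : F.VV v1 ≤ F.QQ v0 := hF 1 (by omega) _ _ a0.near.symm
  have hV00 : F.VV v0 ≤ F.QQ v0 := cj_mono _ (F.D v0.2).V_le_Q
  have hV22 : F.VV v2 ≤ F.QQ v2 := cj_mono _ (F.D v2.2).V_le_Q
  have hV2E : F.VV v2 ≤ E0 := hV21.trans e0'.Q_le
  have hfull : E0 = F.VV v2 ⊔ F.QQ v0 := by rw [sup_comm]; exact c.full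
  have hfull' : E1 = F.VV v0 ⊔ F.QQ v2 := by rw [sup_comm]; exact c.symm.full
  obtain ⟨w₀, hw₀, hw₀Q⟩ := SetLike.not_le_iff_exists.1 c.symm.2.2.2.2
  obtain ⟨x₀, hx₀, hx₀ne⟩ := e0.exists_other
  obtain ⟨y, hy, hyE⟩ : ∃ y ∈ F.XX v0, ¬ Same p (cj y E0) E0 := by
    have e' : (F.D v0.2).IsEdge v0.1 (cj (v0.1 * x₀) (F.D v0.2).T) := ⟨x₀, hx₀, rfl⟩
    obtain ⟨y, hy, hye⟩ := e0.trans e'
    exact ⟨y, hy, hye.symm ▸ hx₀ne⟩
  -- the subgroup `D`
  set D := F.QQ v0 ⊓ F.QQ v1 with hDdef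
  have hDV : ∀ d ∈ D, ∀ v ∈ F.VV v0, d * v = v * d := fun d hd v hv => Data.Q_cent' hd.1 hv
  have hDn : ∀ u ∈ F.XX v0, ∀ d ∈ D, u * d * u⁻¹ ∈ D := by
    intro u hu d hd
    have h0 : u * d * u⁻¹ ∈ F.QQ v0 := Data.Q_conj _ hu hd.1
    refine ⟨h0, e0'.mem_Q (e0.Q_le h0) fun v hv => ?_⟩
    have h1 : u⁻¹ * v * u ∈ F.VV v1 ⊔ F.VV v0 := by
      simpa using hb u⁻¹ (inv_mem hu) v (Subgroup.mem_sup_left hv)
    have hle : F.VV v1 ⊔ F.VV v0 ≤ Subgroup.centralizer ({d} : Set Γ) := sup_le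
      (fun a ha => Subgroup.mem_centralizer_singleton_iff.2 (Data.Q_cent' hd.2 ha).symm)
      fun a ha => Subgroup.mem_centralizer_singleton_iff.2 (hDV d hd a ha).symm
    have h2 := Subgroup.mem_centralizer_singleton_iff.1 (hle h1)
    calc u * d * u⁻¹ * v = u * (d * (u⁻¹ * v * u)) * u⁻¹ := by group
      _ = u * ((u⁻¹ * v * u) * d) * u⁻¹ := by rw [h2]
      _ = v * (u * d * u⁻¹) := by group
  have hDE : D ≤ E1 := inf_le_right.trans e1.Q_le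
  have dec : ∀ d ∈ D, ∃ v ∈ F.VV v0, ∃ l ∈ D, l ∈ F.QQ v2 ∧ d = v * l := by
    intro d hd
    have h1 : d ∈ F.VV v0 ⊔ F.QQ v2 := hfull' ▸ hDE hd
    obtain ⟨v, hv, l, hl, rfl⟩ := mem_sup_mul (Data.Q_normalizes e1' (hV01.trans e1.Q_le)) h1
    refine ⟨v, hv, l, ?_, hl, rfl⟩
    simpa using mul_mem (inv_mem (show v ∈ D from ⟨hV00 hv, hV01 hv⟩)) hd
  have hlV : ∀ l ∈ F.QQ v2, ∀ w ∈ F.VV v2, l * w = w * l := fun l hl w hw => Data.Q_cent' hl hw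
  -- invariant subgroups in `Q₂` meet `Z(E₀)` in `K₀`
  have kill : ∀ M : Subgroup Γ, (∀ u ∈ F.XX v0, ∀ m ∈ M, u * m * u⁻¹ ∈ M) → M ≤ F.QQ v2 →
      ∀ v ∈ F.VV v0, ∀ w ∈ F.VV v2, w ∉ F.QQ v0 → ⁅w, v⁆ ∈ M → InZ p E0 v := by
    intro M hM hMQ v hv w hw hwQ hmem
    have hz : InZ p E0 ⁅w, v⁆ := e0.comm_inZ' (hV2E hw) hv
    have hzV : ⁅w, v⁆ ∈ F.VV v0 := e0.inZ_mem_V hz
    set z := ⁅w, v⁆
    have hz'V : y * z * y⁻¹ ∈ F.VV v0 := Data.V_conj _ hy hzV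
    have h1 : ∀ t ∈ E0, t * (y * z * y⁻¹) = y * z * y⁻¹ * t := by
      intro t ht
      have hle : F.VV v2 ⊔ F.QQ v0 ≤ Subgroup.centralizer ({y * z * y⁻¹} : Set Γ) := sup_le
        (fun a ha => Subgroup.mem_centralizer_singleton_iff.2 (hlV _ (hMQ (hM y hy _ hmem)) a ha).symm)
        fun a ha => Subgroup.mem_centralizer_singleton_iff.2 (Data.Q_cent' ha hz'V)
      exact Subgroup.mem_centralizer_singleton_iff.1 (hle (hfull ▸ ht))
    have ey : F.IsEdge v0 (cj y E0) := ((a0.lmul y).eqv_left (Eqv.of_mem hy).symm).edge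
    have h2 : InZ p (cj y E0) (y * z * y⁻¹) := inZ_cj.2 (by
      rwa [show y⁻¹ * (y * z * y⁻¹) * y = z by group])
    have hK := Data.mem_K_of_edges e0 ey (not_same_symm hyE) hz'V h1 h2.2.2
    have hK' : z ∈ F.KK v0 := by
      have h3 : y⁻¹ * (y * z * y⁻¹) = y * z * y⁻¹ * y⁻¹ := Data.K_comm (inv_mem hy) hK
      have h4 : z = y * z * y⁻¹ := by
        calc z = y⁻¹ * (y * z * y⁻¹) * y := by group
          _ = _ := by rw [h3]; group
      rw [h4]; exact hK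
    by_contra hvZ
    refine e0.comm_notK (hV2E hw) hwQ hv hvZ ?_
    rw [← commutatorElement_inv]
    exact inv_mem hK'
  have part : ∀ (v l w : Γ), v ∈ F.VV v0 → l ∈ F.QQ v2 → w ∈ F.VV v2 →
      w * (v * l) * w⁻¹ = ⁅w, v⁆ * (v * l) := by
    intro v l w hv hl hw
    calc w * (v * l) * w⁻¹ = w * v * (l * w⁻¹) := by group
      _ = w * v * (w⁻¹ * l) := by rw [show l * w⁻¹ = w⁻¹ * l from (Commute.inv_right (hlV l hl w hw)).eq]
      _ = _ := by simp only [commutatorElement_def]; group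
  have fin : ∀ u ∈ D, ∀ v l : Γ, l ∈ F.QQ v2 → u = v * l → (∀ w ∈ F.VV v2, w * v = v * w) →
      u ∈ F.QQ v2 := by
    intro u hu v l hl hul hv
    refine e1'.mem_Q (hDE hu) fun w hw => ?_
    rw [hul]
    calc v * l * w = v * (l * w) := mul_assoc _ _ _
      _ = v * w * l := by rw [hlV l hl w hw, mul_assoc]
      _ = w * (v * l) := by rw [← hv w hw, mul_assoc]
  -- commutators inside `D`
  set M₁ := Subgroup.closure {m | ∃ d ∈ D, ∃ d' ∈ D, m = ⁅d, d'⁆} with hM₁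
  have hM₁n : ∀ u ∈ F.XX v0, ∀ m ∈ M₁, u * m * u⁻¹ ∈ M₁ := fun u hu => closure_conj fun m hm => by
    obtain ⟨d, hd, d', hd', rfl⟩ := hm
    exact Subgroup.subset_closure ⟨_, hDn u hu d hd, _, hDn u hu d' hd', by
      simp only [commutatorElement_def]; group⟩
  have hM₁Q : M₁ ≤ F.QQ v2 := (Subgroup.closure_le _).2 fun m hm => by
    obtain ⟨d, hd, d', hd', rfl⟩ := hm
    obtain ⟨v, hv, l, hlD, hl, rfl⟩ := dec d hd
    obtain ⟨v', hv', l', hl'D, hl', rfl⟩ := dec d' hd'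
    have e1 : ⁅v * l, v' * l'⁆ = ⁅l, l'⁆ := by
      have h1 : ∀ d ∈ D, ⁅v, d⁆ = 1 := fun d hd =>
        commutatorElement_eq_one_iff_mul_comm.2 (hDV d hd v hv).symm
      have h2 : ⁅l, v'⁆ = 1 := commutatorElement_eq_one_iff_mul_comm.2 (hDV l hlD v' hv')
      have h3 : v * ⁅l, v' * l'⁆ = ⁅l, v' * l'⁆ * v := by
        refine (hDV _ ?_ v hv).symm
        rw [commutatorElement_def]
        exact mul_mem (mul_mem (mul_mem hlD hd') (inv_mem hlD)) (inv_mem hd')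
      have h4 : v' * ⁅l, l'⁆ = ⁅l, l'⁆ * v' := by
        refine (hDV _ ?_ v' hv').symm
        rw [commutatorElement_def]
        exact mul_mem (mul_mem (mul_mem hlD hl'D) (inv_mem hlD)) (inv_mem hl'D)
      rw [show ⁅v * l, v' * l'⁆ = v * ⁅l, v' * l'⁆ * v⁻¹ * ⁅v, v' * l'⁆ by
          simp only [commutatorElement_def]; group, h1 _ hd', mul_one, h3, mul_inv_cancel_right,
        show ⁅l, v' * l'⁆ = ⁅l, v'⁆ * (v' * ⁅l, l'⁆ * v'⁻¹) by simp only [commutatorElement_def]; group, h2,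
        one_mul, h4, mul_inv_cancel_right]
    show ⁅v * l, v' * l'⁆ ∈ F.QQ v2
    rw [e1, commutatorElement_def]
    exact mul_mem (mul_mem (mul_mem hl hl') (inv_mem hl)) (inv_mem hl')
  have hconjQ : ∀ u ∈ E0, ∀ q ∈ F.QQ v0, u * q * u⁻¹ ∈ F.QQ v0 := fun u hu q hq =>
    Data.Q_conj _ (e0.le_X hu) hq
  have hcwq : ∀ w ∈ F.VV v2, ∀ q ∈ F.QQ v0, ⁅w, q⁆ ∈ D := by
    intro w hw q hq
    refine ⟨(F.QQ v0).mul_mem (hconjQ w (hV2E hw) q hq) ((F.QQ v0).inv_mem hq), ?_⟩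
    rw [show ⁅w, q⁆ = w * (q * w⁻¹ * q⁻¹) by rw [commutatorElement_def]; group]
    exact mul_mem (hV21 hw) (Data.Q_conj _ (e0'.le_X (e0.Q_le hq)) ((F.QQ v1).inv_mem (hV21 hw)))
  -- (i) `[Q₀, D] ≤ Q₂`
  have hi : ∀ q ∈ F.QQ v0, ∀ d ∈ D, ⁅q, d⁆ ∈ F.QQ v2 := by
    intro q hq d hd
    obtain ⟨v, hv, l, hlD, hl, rfl⟩ := dec d hd
    have hqX : q ∈ F.XX v0 := e0.le_X (e0.Q_le hq)
    have e : ⁅q, v * l⁆ = ⁅q, l⁆ := by
      have h1 : ⁅q, v⁆ = 1 := commutatorElement_eq_one_iff_mul_comm.2 (Data.Q_cent' hq hv)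
      have h2 : v * ⁅q, l⁆ = ⁅q, l⁆ * v := by
        refine (hDV _ ?_ v hv).symm
        rw [commutatorElement_def]
        exact mul_mem (hDn q hqX l hlD) (inv_mem hlD)
      rw [show ⁅q, v * l⁆ = ⁅q, v⁆ * (v * ⁅q, l⁆ * v⁻¹) by simp only [commutatorElement_def]; group, h1,
        one_mul, h2, mul_inv_cancel_right]
    rw [e]
    have huD : ⁅q, l⁆ ∈ D := by
      rw [commutatorElement_def]
      exact mul_mem (hDn q hqX l hlD) (inv_mem hlD)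
    set u := ⁅q, l⁆ with hu
    obtain ⟨vu, hvu, lu, hluD, hlu, hul⟩ := dec u huD
    have hm : ⁅w₀, vu⁆ ∈ M₁ := by
      set t := ⁅w₀, q⁆ with ht
      have htD : t ∈ D := hcwq w₀ hw₀ q hq
      have hwl : w₀ * l * w₀⁻¹ = l := by rw [← hlV l hl w₀ hw₀]; group
      have e1 : w₀ * u * w₀⁻¹ = u * (⁅u⁻¹, t⁆ * ⁅t, l⁆) := by
        calc w₀ * u * w₀⁻¹ = ⁅w₀ * q * w₀⁻¹, w₀ * l * w₀⁻¹⁆ := by
              rw [hu]; simp only [commutatorElement_def]; group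
          _ = ⁅t * q, l⁆ := by rw [hwl]; congr 1; rw [ht, commutatorElement_def]; group
          _ = _ := by rw [hu]; simp only [commutatorElement_def]; group
      have e2 : ⁅w₀, vu⁆ = w₀ * u * w₀⁻¹ * u⁻¹ := by
        rw [hul, part vu lu w₀ hvu hlu hw₀, mul_inv_cancel_right]
      rw [e2, e1]
      exact hM₁n u (e0.le_X (e0.Q_le huD.1)) _ (mul_mem (Subgroup.subset_closure ⟨_, inv_mem huD, _, htD, rfl⟩)
        (Subgroup.subset_closure ⟨_, htD, _, hlD, rfl⟩))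
    exact fin u huD vu lu hlu hul fun w hw => (kill M₁ hM₁n hM₁Q vu hvu w₀ hw₀ hw₀Q hm).2.2 w (hV2E hw)
  -- (i') commutators inside `Q₀`
  set M₂ := Subgroup.closure {m | ∃ q ∈ F.QQ v0, ∃ d ∈ D, m = ⁅q, d⁆} with hM₂
  have hM₂n : ∀ u ∈ F.XX v0, ∀ m ∈ M₂, u * m * u⁻¹ ∈ M₂ := fun u hu => closure_conj fun m hm => by
    obtain ⟨q, hq, d, hd, rfl⟩ := hm
    exact Subgroup.subset_closure ⟨_, Data.Q_conj _ hu hq, _, hDn u hu d hd, by
      simp only [commutatorElement_def]; group⟩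
  have hM₂Q : M₂ ≤ F.QQ v2 := (Subgroup.closure_le _).2 fun m hm => by
    obtain ⟨q, hq, d, hd, rfl⟩ := hm
    exact hi q hq d hd
  have hQQD : ∀ q ∈ F.QQ v0, ∀ q' ∈ F.QQ v0, ⁅q, q'⁆ ∈ D := by
    intro q hq q' hq'
    have hmem : ⁅q, q'⁆ ∈ F.QQ v0 := by
      rw [commutatorElement_def]; exact mul_mem (mul_mem (mul_mem hq hq') (inv_mem hq)) (inv_mem hq')
    refine ⟨hmem, e0'.mem_Q (e0.Q_le hmem) fun v hv => ?_⟩
    have key : ∀ r ∈ F.QQ v0, ∀ z, InZ p E0 z → r * z * r⁻¹ = z := fun r hr z hz => by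
      rw [hz.2.2 r (e0.Q_le hr), mul_inv_cancel_right]
    have h1 := e0'.comm_inZ' (e0.Q_le hq) hv
    have h2 := e0'.comm_inZ' (e0.Q_le hq') hv
    set a := ⁅q, v⁆ with ha
    set b := ⁅q', v⁆ with hb'
    have hqv : q * v * q⁻¹ = a * v := by rw [ha, commutatorElement_def]; group
    have hqv' : q' * v * q'⁻¹ = b * v := by rw [hb', commutatorElement_def]; group
    have hab : a * b = b * a := h2.2.2 a h1.1
    have e1 : q⁻¹ * v * q = a⁻¹ * v := by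
      calc q⁻¹ * v * q = q⁻¹ * (a⁻¹ * (q * v * q⁻¹)) * q := by rw [hqv]; group
        _ = (q⁻¹ * a⁻¹ * q) * v := by group
        _ = a⁻¹ * v := by
          rw [show q⁻¹ * a⁻¹ * q = a⁻¹ from by simpa using key q⁻¹ (inv_mem hq) _ (inZ_inv h1)]
    have e2 : q'⁻¹ * v * q' = b⁻¹ * v := by
      calc q'⁻¹ * v * q' = q'⁻¹ * (b⁻¹ * (q' * v * q'⁻¹)) * q' := by rw [hqv']; group
        _ = (q'⁻¹ * b⁻¹ * q') * v := by group
        _ = b⁻¹ * v := by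
          rw [show q'⁻¹ * b⁻¹ * q' = b⁻¹ from by simpa using key q'⁻¹ (inv_mem hq') _ (inZ_inv h2)]
    have e : ⁅q, q'⁆ * v * ⁅q, q'⁆⁻¹ = v := by
      calc ⁅q, q'⁆ * v * ⁅q, q'⁆⁻¹ = q * (q' * (q⁻¹ * (q'⁻¹ * v * q') * q) * q'⁻¹) * q⁻¹ := by
            rw [commutatorElement_def]; group
        _ = q * (q' * ((q⁻¹ * b⁻¹ * q) * (q⁻¹ * v * q)) * q'⁻¹) * q⁻¹ := by rw [e2]; group
        _ = q * (q' * (b⁻¹ * a⁻¹ * v) * q'⁻¹) * q⁻¹ := by
            rw [e1, show q⁻¹ * b⁻¹ * q = b⁻¹ from by simpa using key q⁻¹ (inv_mem hq) _ (inZ_inv h2),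
              mul_assoc b⁻¹]
        _ = q * ((q' * b⁻¹ * q'⁻¹) * (q' * a⁻¹ * q'⁻¹) * (q' * v * q'⁻¹)) * q⁻¹ := by group
        _ = q * (b⁻¹ * a⁻¹ * (b * v)) * q⁻¹ := by
            rw [key q' hq' _ (inZ_inv h2), key q' hq' _ (inZ_inv h1), hqv']
        _ = q * (a⁻¹ * v) * q⁻¹ := by
            congr 2
            calc b⁻¹ * a⁻¹ * (b * v) = (a * b)⁻¹ * b * v := by group
              _ = (b * a)⁻¹ * b * v := by rw [hab]
              _ = a⁻¹ * v := by group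
        _ = (q * a⁻¹ * q⁻¹) * (q * v * q⁻¹) := by group
        _ = v := by rw [key q hq _ (inZ_inv h1), hqv, inv_mul_cancel_left]
    exact mul_inv_eq_iff_eq_mul.1 e
  have hii : ∀ q ∈ F.QQ v0, ∀ q' ∈ F.QQ v0, ⁅q, q'⁆ ∈ F.QQ v2 := by
    intro q hq q' hq'
    have huD := hQQD q hq q' hq'
    set u := ⁅q, q'⁆ with hu
    obtain ⟨vu, hvu, lu, hluD, hlu, hul⟩ := dec u huD
    have hm : ⁅w₀, vu⁆ ∈ M₂ := by
      set a := ⁅w₀, q⁆ with ha
      set b := ⁅w₀, q'⁆ with hb'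
      have haD : a ∈ D := hcwq w₀ hw₀ q hq
      have hbD : b ∈ D := hcwq w₀ hw₀ q' hq'
      have e2 : ⁅w₀, vu⁆ = w₀ * u * w₀⁻¹ * u⁻¹ := by
        rw [hul, part vu lu w₀ hvu hlu hw₀, mul_inv_cancel_right]
      have e1 : w₀ * u * w₀⁻¹ = (a * ⁅q, b⁆ * a⁻¹) * ⁅a * b, u⁆ * u * (⁅a, b⁆ * (b * ⁅a, q'⁆ * b⁻¹)) := by
        calc w₀ * u * w₀⁻¹ = ⁅a * q, b * q'⁆ := by
              rw [hu, ha, hb']; simp only [commutatorElement_def]; group
          _ = _ := by rw [hu]; simp only [commutatorElement_def]; group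
      have hgen : ∀ r ∈ F.QQ v0, ∀ d ∈ D, ⁅r, d⁆ ∈ M₂ := fun r hr d hd =>
        Subgroup.subset_closure ⟨r, hr, d, hd, rfl⟩
      have hgen' : ∀ r ∈ F.QQ v0, ∀ d ∈ D, ⁅d, r⁆ ∈ M₂ := fun r hr d hd => by
        rw [← commutatorElement_inv r d]; exact inv_mem (hgen r hr d hd)
      have hX : ∀ r ∈ F.QQ v0, r ∈ F.XX v0 := fun r hr => e0.le_X (e0.Q_le hr)
      rw [e2, e1, mul_assoc ((a * ⁅q, b⁆ * a⁻¹) * ⁅a * b, u⁆) u, mul_assoc ((a * ⁅q, b⁆ * a⁻¹) * ⁅a * b, u⁆)]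
      exact mul_mem (mul_mem (hM₂n a (hX a haD.1) _ (hgen q hq b hbD)) (hgen _ (mul_mem haD.1 hbD.1) u huD))
        (hM₂n u (hX u huD.1) _ (mul_mem (hgen a haD.1 b hbD) (hM₂n b (hX b hbD.1) _ (hgen' q' hq' a haD))))
    exact fin u huD vu lu hlu hul fun w hw => (kill M₂ hM₂n hM₂Q vu hvu w₀ hw₀ hw₀Q hm).2.2 w (hV2E hw)
  -- (ii) `[Q₀, V₂] ≤ Q₂`
  have hiii : ∀ q ∈ F.QQ v0, ∀ w ∈ F.VV v2, ⁅q, w⁆ ∈ F.QQ v2 := by
    intro q hq w hw
    set t := ⁅q, w⁆ with ht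
    have htD : t ∈ D := by
      rw [ht, ← commutatorElement_inv]; exact inv_mem (hcwq w hw q hq)
    obtain ⟨v, hv, l, hlD, hl, htl⟩ := dec t htD
    refine fin t htD v l hl htl ?_
    by_cases hp2 : p = 2
    · subst hp2
      intro w' hw'
      by_cases hwQ : w ∈ F.QQ v0
      · have h1 : t ∈ F.QQ v2 := hi q hq w ⟨hwQ, hV21 hw⟩
        have h2 : v ∈ F.QQ v2 := by rw [show v = t * l⁻¹ by rw [htl]; group]; exact mul_mem h1 (inv_mem hl)
        exact (hlV v h2 w' hw').symm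
      set M₅ := Subgroup.closure {m | ∃ d ∈ D, m = d * d} with hM₅
      have hM₅n : ∀ u ∈ F.XX v0, ∀ m ∈ M₅, u * m * u⁻¹ ∈ M₅ := fun u hu => closure_conj fun m hm => by
        obtain ⟨d, hd, rfl⟩ := hm
        exact Subgroup.subset_closure ⟨_, hDn u hu d hd, by group⟩
      have sq : ∀ a ∈ F.VV v0, ∀ b ∈ D, a * b * (a * b) = b * b := by
        intro a ha b hb
        have ha2 : a * a = 1 := by rw [← pow_two]; exact Data.V_pow' ha
        calc a * b * (a * b) = a * (b * a) * b := by group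
          _ = (a * a) * (b * b) := by rw [hDV b hb a ha]; group
          _ = b * b := by rw [ha2, one_mul]
      have hM₅Q : M₅ ≤ F.QQ v2 := (Subgroup.closure_le _).2 fun m hm => by
        obtain ⟨d, hd, rfl⟩ := hm
        obtain ⟨a, ha, b, hbD, hb, rfl⟩ := dec d hd
        show a * b * (a * b) ∈ F.QQ v2
        rw [sq a ha b hbD]; exact mul_mem hb hb
      have hw2 : w⁻¹ = w := inv_eq_of_mul_eq_one_left (by rw [← pow_two]; exact Data.V_pow' hw)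
      have e : ⁅w, v⁆ = (t * t)⁻¹ := by
        have h1 : w * t * w⁻¹ = t⁻¹ := by
          calc w * t * w⁻¹ = w * q * w * q⁻¹ * (w⁻¹ * w⁻¹) := by rw [ht, commutatorElement_def]; group
            _ = w * q * w⁻¹ * q⁻¹ * (w * w⁻¹) := by rw [hw2]
            _ = t⁻¹ := by rw [ht, commutatorElement_def]; group
        have h2 := part v l w hv hl hw
        rw [← htl, h1] at h2
        rw [_root_.mul_inv_rev]
        calc ⁅w, v⁆ = ⁅w, v⁆ * t * t⁻¹ := by group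
          _ = t⁻¹ * t⁻¹ := by rw [← h2]
      have hm : ⁅w, v⁆ ∈ M₅ := by rw [e]; exact inv_mem (Subgroup.subset_closure ⟨t, htD, rfl⟩)
      exact ((kill M₅ hM₅n hM₅Q v hv w hw hwQ hm).2.2 w' (hV2E hw'))
    · obtain ⟨r, hr, hrneg⟩ := Data.neg' (D := F.D v0.2) hp2 v0.1
      have hX2 : ∀ u ∈ F.VV v2, u ∈ F.XX v0 := fun u hu => e0.le_X (hV2E hu)
      have hXQ : ∀ u ∈ F.QQ v0, u ∈ F.XX v0 := fun u hu => e0.le_X (e0.Q_le hu)
      have hV0n : ∀ u ∈ F.XX v0, ∀ a ∈ F.VV v0, u * a * u⁻¹ ∈ F.VV v0 := fun u hu a ha => Data.V_conj _ hu ha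
      have hQ0n : ∀ u ∈ F.XX v0, ∀ a ∈ F.QQ v0, u * a * u⁻¹ ∈ F.QQ v0 := fun u hu a ha => Data.Q_conj _ hu ha
      have hK0n : ∀ u ∈ F.XX v0, ∀ a ∈ F.KK v0, u * a * u⁻¹ ∈ F.KK v0 := fun u hu a ha => by
        rw [Data.K_comm hu ha, mul_inv_cancel_right]; exact ha
      set Ks := centMod (F.XX v0) D (F.VV v0) hDn hV0n with hKs
      set G4 := centMod (F.XX v0) (F.QQ v0) D hQ0n hDn with hG4
      have hKsV : ∀ u ∈ F.VV v2, u ∈ Ks := fun u hu => ⟨hX2 u hu, fun d hd => by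
        obtain ⟨a, ha, b, -, hb, rfl⟩ := dec d hd
        rw [show ⁅a * b, u⁆ = a * ⁅b, u⁆ * a⁻¹ * ⁅a, u⁆ by simp only [commutatorElement_def]; group,
          commutatorElement_eq_one_iff_mul_comm.2 (hlV b hb u hu), mul_one, mul_inv_cancel, one_mul]
        exact e0.inZ_mem_V (e0.comm_inZ (hV2E hu) ha)⟩
      have hgen : F.XX v0 ≤ E0 ⊔ cj y E0 :=
        e0.gen ((a0.lmul y).eqv_left (Eqv.of_mem hy).symm).edge (not_same_symm hyE)
      have hconjle : ∀ A : Subgroup Γ, (∀ u ∈ A, y * u * y⁻¹ ∈ A) → cj y A ≤ A := fun A hA => by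
        rintro _ ⟨u, hu, rfl⟩; exact hA u hu
      have hG4top : ∀ u ∈ F.XX v0, u ∈ G4 := by
        intro u hu
        have hle : E0 ≤ G4 := by
          rw [hfull]
          refine sup_le (fun w hw => ⟨hX2 w hw, fun a ha => ?_⟩) fun a ha => ⟨hXQ a ha, fun a' ha' => hQQD a' ha' a ha⟩
          rw [← commutatorElement_inv]; exact inv_mem (hcwq w hw a ha)
        exact sup_le hle ((cj_mono y hle).trans (hconjle G4 fun b hb => centMod_conj hy hb)) (hgen hu)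
      obtain ⟨ρ, hρ, q', hq', hrρ⟩ : ∃ ρ ∈ Ks, ∃ q' ∈ F.QQ v0, r = ρ * q' := by
        have hle : E0 ≤ Ks ⊔ F.QQ v0 := hfull ▸ sup_le_sup_right hKsV _
        refine mem_sup_mul (le_normalizer_of fun u (hu : u ∈ Ks) a ha => hQ0n u hu.1 a ha) ?_
        refine sup_le hle ((cj_mono y hle).trans ?_) (hgen hr)
        rw [cj_sup]
        exact sup_le_sup (hconjle Ks fun b hb => centMod_conj hy hb) (hconjle _ (hQ0n y hy))
      have hρneg : ∀ a ∈ F.VV v0, ρ * a * ρ⁻¹ * a ∈ F.KK v0 := by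
        intro a ha
        have h1 : q' * a * q'⁻¹ = a := by rw [Data.Q_cent' hq' ha, mul_inv_cancel_right]
        have h2 := hrneg a ha
        rwa [hrρ, show ρ * q' * a * (ρ * q')⁻¹ = ρ * (q' * a * q'⁻¹) * ρ⁻¹ by group, h1] at h2
      have hρX : ρ ∈ F.XX v0 := hρ.1
      have hρD : ∀ a ∈ F.QQ v0, ⁅ρ, a⁆ ∈ D := fun a ha => by
        rw [← commutatorElement_inv]; exact inv_mem ((hG4top ρ hρX).2 a ha)
      have hkQ : ∀ u ∈ F.VV v2, ⁅ρ, u⁆ ∈ F.QQ v0 := by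
        intro u hu
        set k := ⁅ρ, u⁆ with hk
        have huX := hX2 u hu
        have hkKs : k ∈ Ks := by
          rw [hk, show ⁅ρ, u⁆ = ρ * (u * ρ⁻¹ * u⁻¹) by rw [commutatorElement_def]; group]
          exact mul_mem hρ (centMod_conj huX (inv_mem hρ))
        have hkV : ∀ a ∈ F.VV v0, ⁅a, k⁆ ∈ F.KK v0 := by
          intro a ha
          set b := u⁻¹ * a * u with hb'
          have hbV : b ∈ F.VV v0 := by simpa using hV0n u⁻¹ (inv_mem huX) a ha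
          set c₀ := ρ⁻¹ * b * ρ with hc₀
          have hc₀V : c₀ ∈ F.VV v0 := by simpa using hV0n ρ⁻¹ (inv_mem hρX) b hbV
          have h1 : b * c₀ ∈ F.KK v0 := by
            have h := hρneg c₀ hc₀V
            rwa [show ρ * c₀ * ρ⁻¹ = b by rw [hc₀]; group] at h
          set κ := b * c₀ with hκ
          have hc₀e : c₀ = b⁻¹ * κ := by rw [hκ]; group
          have hua : u * c₀ * u⁻¹ = a⁻¹ * κ := by
            rw [hc₀e, show u * (b⁻¹ * κ) * u⁻¹ = (u * b * u⁻¹)⁻¹ * (u * κ * u⁻¹) by group,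
              show u * b * u⁻¹ = a by rw [hb']; group, Data.K_comm huX h1, mul_inv_cancel_right]
          have h2 := hρneg a⁻¹ (inv_mem ha)
          set κ' := ρ * a⁻¹ * ρ⁻¹ * a⁻¹ with hκ'
          have hkak : k * a * k⁻¹ = κ' * a * κ := by
            calc k * a * k⁻¹ = ρ * (u * c₀ * u⁻¹) * ρ⁻¹ := by
                  rw [hc₀, hb', hk, commutatorElement_def]; group
              _ = (ρ * a⁻¹ * ρ⁻¹) * (ρ * κ * ρ⁻¹) := by rw [hua]; group
              _ = κ' * a * κ := by rw [Data.K_comm hρX h1, mul_inv_cancel_right, hκ']; group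
          rw [show ⁅a, k⁆ = a * (k * a * k⁻¹)⁻¹ by simp only [commutatorElement_def]; group, hkak,
            show a * (κ' * a * κ)⁻¹ = a * κ⁻¹ * a⁻¹ * κ'⁻¹ by group]
          refine mul_mem ?_ (inv_mem h2)
          rw [(Data.V_comm ha (Data.K_le_V (inv_mem h1))), mul_inv_cancel_right]
          exact inv_mem h1
        refine Data.coprime_mem' hkKs.1 hkV fun z hz hzc a ha => ?_
        have hzKs : z ∈ Ks := Subgroup.zpowers_le.2 hkKs hz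
        have hzK : z ∈ centMod (F.XX v0) (F.VV v0) (F.KK v0) hV0n hK0n :=
          Subgroup.zpowers_le.2 (show k ∈ centMod (F.XX v0) (F.VV v0) (F.KK v0) hV0n hK0n from ⟨hkKs.1, hkV⟩) hz
        have hpow : ∀ m ∈ F.QQ v0, ∃ i, m ^ p ^ i = 1 := fun m hm => by
          obtain ⟨i, hi⟩ := e0.isPGroup ⟨m, e0.Q_le hm⟩
          exact ⟨i, congrArg Subtype.val hi⟩
        have hVc : ∀ m ∈ F.VV v0, z * m = m * z := fun m hm => by
          have hk' : ⁅z, m⁆ ∈ F.KK v0 := by rw [← commutatorElement_inv]; exact inv_mem (hzK.2 m hm)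
          exact comm_of_coprime hzc (Data.K_comm hzKs.1 hk') (hpow _ (hV00 (Data.K_le_V hk')))
        have hDc : ∀ m ∈ D, z * m = m * z := fun m hm => by
          have hk' : ⁅z, m⁆ ∈ F.VV v0 := by rw [← commutatorElement_inv]; exact inv_mem (hzKs.2 m hm)
          exact comm_of_coprime hzc (hVc _ hk') (hpow _ (hV00 hk'))
        have hk' : ⁅z, a⁆ ∈ D := by rw [← commutatorElement_inv]; exact inv_mem ((hG4top z hzKs.1).2 a ha)
        exact comm_of_coprime hzc (hDc _ hk') (hpow _ hk'.1)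
      -- the part of `l` moved by `ρ`
      set vl := ⁅ρ, l⁆ with hvl'
      have hvlV : vl ∈ F.VV v0 := by rw [hvl', ← commutatorElement_inv]; exact inv_mem (hρ.2 l hlD)
      have hvlZ : ∀ u ∈ F.VV v2, u * vl = vl * u := by
        set k := ⁅ρ, w₀⁆ with hk
        have hkQ0 : k ∈ F.QQ v0 := hkQ w₀ hw₀
        have h1 : ⁅vl * l, k * w₀⁆ = 1 := by
          rw [show ⁅vl * l, k * w₀⁆ = ρ * ⁅l, w₀⁆ * ρ⁻¹ by
            rw [hvl', hk]; simp only [commutatorElement_def]; group,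
            commutatorElement_eq_one_iff_mul_comm.2 (hlV l hl w₀ hw₀), mul_one, mul_inv_cancel]
        have hlk : ⁅l, k⁆ ∈ M₂ := by
          rw [← commutatorElement_inv]; exact inv_mem (Subgroup.subset_closure ⟨k, hkQ0, l, hlD, rfl⟩)
        have hkv : k * vl = vl * k := Data.Q_cent' hkQ0 hvlV
        have hzw : ⁅vl, w₀⁆ ∈ F.VV v0 := e0.inZ_mem_V (e0.comm_inZ (hV2E hw₀) hvlV)
        have hlkQ : ⁅l, k⁆ ∈ F.QQ v0 := by
          rw [commutatorElement_def]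
          exact mul_mem (mul_mem (mul_mem hlD.1 hkQ0) (inv_mem hlD.1)) (inv_mem hkQ0)
        have e : ⁅vl * l, k * w₀⁆ = ⁅l, k⁆ * ⁅vl, w₀⁆ := by
          rw [show ⁅vl * l, k * w₀⁆ = vl * (⁅l, k⁆ * (k * ⁅l, w₀⁆ * k⁻¹)) * vl⁻¹ *
              (⁅vl, k⁆ * (k * ⁅vl, w₀⁆ * k⁻¹)) by simp only [commutatorElement_def]; group,
            commutatorElement_eq_one_iff_mul_comm.2 (hlV l hl w₀ hw₀),
            commutatorElement_eq_one_iff_mul_comm.2 hkv.symm, one_mul, Data.Q_cent' hkQ0 hzw,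
            mul_inv_cancel_right, mul_one, mul_inv_cancel, mul_one, ← Data.Q_cent' hlkQ hvlV,
            mul_inv_cancel_right]
        have h2 : ⁅w₀, vl⁆ = ⁅l, k⁆ := by
          rw [← commutatorElement_inv vl w₀]
          exact inv_eq_of_mul_eq_one_left (e ▸ h1)
        exact fun u hu => (kill M₂ hM₂n hM₂Q vl hvlV w₀ hw₀ hw₀Q (h2 ▸ hlk)).2.2 u (hV2E hu)
      -- the conjugate of `t`
      set k := ⁅ρ, w⁆ with hk
      have hkQ0 : k ∈ F.QQ v0 := hkQ w hw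
      set δ := ⁅ρ, q⁆ with hδ
      have hδD : δ ∈ D := hρD q hq
      obtain ⟨vd, hvd, ld, -, hld, hδe⟩ := dec δ hδD
      set z₁ := ⁅δ, w⁆ with hz₁d
      have hz₁ : z₁ = ⁅vd, w⁆ := by
        rw [hz₁d, hδe, show ⁅vd * ld, w⁆ = vd * ⁅ld, w⁆ * vd⁻¹ * ⁅vd, w⁆ by
          simp only [commutatorElement_def]; group,
          commutatorElement_eq_one_iff_mul_comm.2 (hlV ld hld w hw), mul_one, mul_inv_cancel, one_mul]
      have hz₁V : z₁ ∈ F.VV v0 := hz₁ ▸ e0.inZ_mem_V (e0.comm_inZ (hV2E hw) hvd)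
      have hz₁c : ∀ u ∈ F.VV v2, u * z₁ = z₁ * u := fun u hu =>
        (hz₁ ▸ e0.comm_inZ (hV2E hw) hvd).2.2 u (hV2E hu)
      set m₁ := ⁅δ * q, k⁆ * (k * ⁅δ, t⁆ * k⁻¹ * ⁅k, t⁆) with hm₁
      have hm₁Q : m₁ ∈ F.QQ v2 ∧ m₁ ∈ F.QQ v0 := by
        have hkD : ⁅k, t⁆ ∈ M₂ := Subgroup.subset_closure ⟨k, hkQ0, t, htD, rfl⟩
        have hdt : ⁅δ, t⁆ ∈ M₂ := Subgroup.subset_closure ⟨δ, hδD.1, t, htD, rfl⟩
        have hdq := hii (δ * q) (mul_mem hδD.1 hq) k hkQ0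
        refine ⟨mul_mem hdq (hM₂Q (mul_mem (hM₂n k (hXQ k hkQ0) _ hdt) hkD)), ?_⟩
        have hcl : ∀ x ∈ F.QQ v0, ∀ x' ∈ F.QQ v0, ⁅x, x'⁆ ∈ F.QQ v0 := fun x hx x' hx' => (hQQD x hx x' hx').1
        rw [hm₁]
        exact mul_mem (hcl _ (mul_mem hδD.1 hq) _ hkQ0) (mul_mem
          (mul_mem (mul_mem hkQ0 (hcl _ hδD.1 _ htD.1)) (inv_mem hkQ0)) (hcl _ hkQ0 _ htD.1))
      have e : ρ * t * ρ⁻¹ = m₁ * t * z₁ := by
        calc ρ * t * ρ⁻¹ = ⁅δ * q, k * w⁆ := by rw [ht, hδ, hk]; simp only [commutatorElement_def]; group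
          _ = m₁ * t * (k * z₁ * k⁻¹) := by
              rw [hm₁, ht, hz₁d]; simp only [commutatorElement_def]; group
          _ = m₁ * t * z₁ := by rw [Data.Q_cent' hkQ0 hz₁V, mul_inv_cancel_right]
      set κ := ρ * v * ρ⁻¹ * v with hκd
      have hκ : κ ∈ F.KK v0 := hρneg v hv
      have e' : ρ * t * ρ⁻¹ = κ * v⁻¹ * (vl * l) := by
        rw [htl, hκd, hvl', commutatorElement_def]; group
      have hlQ0 := hlD.1
      set ε := κ * v⁻¹ * vl * z₁⁻¹ * v⁻¹ with hε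
      have hεV : ε ∈ F.VV v0 :=
        mul_mem (mul_mem (mul_mem (mul_mem (Data.K_le_V hκ) (inv_mem hv)) hvlV) (inv_mem hz₁V)) (inv_mem hv)
      have hεm : m₁ = ε := by
        have hlz : l * z₁⁻¹ = z₁⁻¹ * l := Data.Q_cent' hlQ0 (inv_mem hz₁V)
        have hlv : l * v⁻¹ = v⁻¹ * l := Data.Q_cent' hlQ0 (inv_mem hv)
        calc m₁ = (m₁ * t * z₁) * z₁⁻¹ * t⁻¹ := by group
          _ = κ * v⁻¹ * vl * (l * z₁⁻¹) * (v * l)⁻¹ := by rw [← e, e', htl]; group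
          _ = κ * v⁻¹ * vl * z₁⁻¹ * (l * (v * l)⁻¹) := by rw [hlz]; group
          _ = ε := by rw [hε]; group
      have hv2c : ∀ u ∈ F.VV v2, u * (v * v) = v * v * u := by
        intro u hu
        have h1 : u * ε = ε * u := (hlV ε (hεm ▸ hm₁Q.1) u hu).symm
        have hκc : u * κ = κ * u := Data.K_comm (hX2 u hu) hκ
        have hc : ∀ a ∈ F.VV v0, ∀ b ∈ F.VV v0, a * b = b * a := fun a ha b hb => Data.V_comm ha hb
        have e2 : v * v = z₁⁻¹ * κ * vl * ε⁻¹ := by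
          have h2 : ε = z₁⁻¹ * κ * vl * (v * v)⁻¹ := by
            rw [hε]
            have a1 := hc (κ * v⁻¹ * vl) (mul_mem (mul_mem (Data.K_le_V hκ) (inv_mem hv)) hvlV) z₁⁻¹ (inv_mem hz₁V)
            rw [a1, show κ * v⁻¹ * vl = κ * (v⁻¹ * vl) by group, hc v⁻¹ (inv_mem hv) vl hvlV]
            group
          rw [h2, _root_.mul_inv_rev, inv_inv, ← mul_assoc, hc (z₁⁻¹ * κ * vl * (v * v))
            (mul_mem (mul_mem (mul_mem (inv_mem hz₁V) (Data.K_le_V hκ)) hvlV) (mul_mem hv hv)) _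
            (inv_mem (mul_mem (mul_mem (inv_mem hz₁V) (Data.K_le_V hκ)) hvlV))]
          group
        rw [e2]
        exact (((Commute.inv_right (hz₁c u hu)).mul_right hκc).mul_right (hvlZ u hu)).mul_right (Commute.inv_right h1)
      intro u hu
      have hodd : Odd p := hp.out.odd_of_ne_two hp2
      obtain ⟨m, hm⟩ := hodd
      have hvp : v ^ p = 1 := Data.V_pow' hv
      have e3 : v = (v * v) ^ (m + 1) := by
        rw [← pow_two, ← pow_mul, show 2 * (m + 1) = p + 1 by omega, pow_succ, hvp, one_mul]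
      rw [e3]
      exact ((show Commute u (v * v) from hv2c u hu).pow_right _).eq
  -- `Q₁ ∩ Q₂` would be normal in `X₁`
  set M := F.QQ v1 ⊓ F.QQ v2 with hM
  have hnE1 : E1 ≤ Subgroup.normalizer (M : Set Γ) := le_normalizer_of fun u hu m hm =>
    ⟨Data.Q_conj _ (e1.le_X hu) hm.1, Data.Q_conj _ (e1'.le_X hu) hm.2⟩
  have hnE0 : E0 ≤ Subgroup.normalizer (M : Set Γ) := by
    rw [hfull]
    refine sup_le (fun u hu => Subgroup.le_normalizer (⟨hV21 hu, hV22 hu⟩ : u ∈ M)) ?_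
    refine le_normalizer_of fun q hq m hm => ⟨Data.Q_conj _ (e0'.le_X (e0.Q_le hq)) hm.1, ?_⟩
    have h1 : m ∈ F.VV v2 ⊔ F.QQ v0 := hfull ▸ e0'.Q_le hm.1
    obtain ⟨w, hw, d₀, hd₀, hmw⟩ := mem_sup_mul (Data.Q_normalizes e0 hV2E) h1
    have hd₀D : d₀ ∈ D := ⟨hd₀, by
      show d₀ ∈ F.QQ v1
      rw [show d₀ = w⁻¹ * m by rw [hmw]; group]; exact mul_mem (inv_mem (show w ∈ F.QQ v1 from hV21 hw)) hm.1⟩
    show q * m * q⁻¹ ∈ F.QQ v2
    rw [show q * m * q⁻¹ = ⁅q, m⁆ * m by simp only [commutatorElement_def]; group]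
    refine mul_mem ?_ hm.2
    rw [hmw, show ⁅q, w * d₀⁆ = ⁅q, w⁆ * (w * ⁅q, d₀⁆ * w⁻¹) by simp only [commutatorElement_def]; group]
    exact mul_mem (hiii q hq w hw) (mul_mem (mul_mem (hV22 hw) (hi q hq d₀ hd₀D)) (inv_mem (show w ∈ F.QQ v2 from hV22 hw)))
  have hX1 : F.XX v1 ≤ Subgroup.normalizer (M : Set Γ) := (e0'.gen e1 hne).trans (sup_le hnE0 hnE1)
  obtain ⟨g, hg, hgE⟩ := e0'.trans e1
  have ag : F.AdjN (P.off 0) (lmul g v0) v1 E1 := hgE ▸ (a0.lmul g).eqv_right (Eqv.of_mem hg).symm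
  obtain ⟨k, hk⟩ := ag.symm.share a1
  refine P.crit fun u hu => ?_
  have hgu : g * u * g⁻¹ ∈ F.VV (lmul g v0) := by rw [lmul_V]; exact conj_mem_cj hu
  have hgM : g * u * g⁻¹ ∈ M :=
    ⟨hF 1 (by omega) _ _ ag.near hgu, hF 1 (by omega) _ _ hk.near hgu⟩
  exact ((Subgroup.mem_normalizer_iff.1 (hX1 hg) u).2 hgM).2

end Fam

end Cfsg.Agent.Lib.PushUpP
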