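import Cfsg.Agent.Lib.PushUpP.Vertex

/-!
Several groups sharing the Sylow subgroup `T`: vertices, neighbours and the shift lemma.
-/

set_option autoImplicit false

namespace Cfsg.Agent.Lib.PushUpP

open scoped commutatorElement Pointwise

variable {Γ : Type*} [Group Γ]

/-- Data with the same `T`, such that no abelian subgroup of exponent `p` of `T` containing all the `V` is
invariant under all the `X` and the normalizer of `T`. -/
structure Fam (Γ : Type*) [Group Γ] (p : ℕ) (ι : Type*) where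
  D : ι → Data Γ p
  T : Subgroup Γ
  hT : ∀ i, (D i).T = T
  core : ∀ C : Subgroup Γ, C ≤ T → (∀ a ∈ C, a ^ p = 1 ∧ ∀ b ∈ C, a * b = b * a) → (∀ i, (D i).V ≤ C) →
    (∀ i, ∀ x ∈ (D i).X, ∀ a ∈ C, x * a * x⁻¹ ∈ C) →
    (∀ n ∈ Subgroup.normalizer (T : Set Γ), ∀ a ∈ C, n * a * n⁻¹ ∈ C) → False

namespace Fam

variable {p : ℕ} {ι : Type*}

/-- Translation of vertices. -/
abbrev lmul (c : Γ) (v : Γ × ι) : Γ × ι := (c * v.1, v.2)

variable (F : Fam Γ p ι)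

/-- The normalizer of `T`. -/
def N : Subgroup Γ := Subgroup.normalizer (F.T : Set Γ)

theorem N_eq (i : ι) : (F.D i).N = F.N := by rw [Data.N, F.hT]; rfl

theorem cj_T {n : Γ} (hn : n ∈ F.N) : cj n F.T = F.T := by
  ext a
  rw [mem_cj]
  exact ((Subgroup.mem_normalizer_iff''.1 hn) a).symm

/-- `V` at a vertex. -/
abbrev VV (v : Γ × ι) : Subgroup Γ := cj v.1 (F.D v.2).V
/-- `Q` at a vertex. -/
abbrev QQ (v : Γ × ι) : Subgroup Γ := cj v.1 (F.D v.2).Q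
/-- `K` at a vertex. -/
abbrev KK (v : Γ × ι) : Subgroup Γ := cj v.1 (F.D v.2).K
/-- `X` at a vertex. -/
abbrev XX (v : Γ × ι) : Subgroup Γ := cj v.1 (F.D v.2).X

/-- `E` is an edge at the vertex `v`. -/
abbrev IsEdge (v : Γ × ι) (E : Subgroup Γ) : Prop := (F.D v.2).IsEdge v.1 E

/-- Equal vertices. -/
def Eqv (v w : Γ × ι) : Prop := v.2 = w.2 ∧ v.1⁻¹ * w.1 ∈ (F.D v.2).X

/-- The vertices `v`, `w` share the edge `E` with offset `n`. -/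
def AdjN (n : Γ) (v w : Γ × ι) (E : Subgroup Γ) : Prop :=
  n ∈ F.N ∧ ∃ x ∈ (F.D v.2).X, ∃ x' ∈ (F.D w.2).X, w.1 = v.1 * x * n * x' ∧ E = cj (v.1 * x) F.T

/-- The offset `n` from type `i` to type `j` is bad if `X i` normalises `(V j)^n (V i)`. -/
def Bad {p : ℕ} {ι : Type*} (F : Fam Γ p ι) (i j : ι) (n : Γ) : Prop :=
  ∀ x ∈ (F.D i).X, ∀ a ∈ cj n (F.D j).V ⊔ (F.D i).V, x * a * x⁻¹ ∈ cj n (F.D j).V ⊔ (F.D i).V

variable {F}

theorem Eqv.refl (v : Γ × ι) : F.Eqv v v := ⟨rfl, by simp⟩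

theorem Eqv.symm {v w : Γ × ι} (h : F.Eqv v w) : F.Eqv w v := by
  obtain ⟨g, i⟩ := v
  obtain ⟨g', i'⟩ := w
  obtain ⟨rfl, h⟩ : i = i' ∧ g⁻¹ * g' ∈ (F.D i).X := h
  exact ⟨rfl, by simpa using (F.D i).X.inv_mem h⟩

theorem Eqv.trans {u v w : Γ × ι} (h : F.Eqv u v) (h' : F.Eqv v w) : F.Eqv u w := by
  obtain ⟨g, i⟩ := u
  obtain ⟨g', i'⟩ := v
  obtain ⟨g'', i''⟩ := w
  obtain ⟨rfl, h⟩ : i = i' ∧ g⁻¹ * g' ∈ (F.D i).X := h
  obtain ⟨rfl, h'⟩ : i = i'' ∧ g'⁻¹ * g'' ∈ (F.D i).X := h'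
  exact ⟨rfl, by simpa [mul_assoc] using (F.D i).X.mul_mem h h'⟩

theorem Eqv.lmul {v w : Γ × ι} (h : F.Eqv v w) (c : Γ) : F.Eqv (lmul c v) (Fam.lmul c w) :=
  ⟨h.1, by simpa [mul_assoc] using h.2⟩

theorem Eqv.of_mem {v : Γ × ι} {y : Γ} (hy : y ∈ F.XX v) : F.Eqv v (Fam.lmul y v) :=
  ⟨rfl, by simpa [mul_assoc] using mem_cj.1 hy⟩

theorem Eqv.eqs {v w : Γ × ι} (h : F.Eqv v w) :
    F.VV w = F.VV v ∧ F.QQ w = F.QQ v ∧ F.KK w = F.KK v ∧ F.XX w = F.XX v := by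
  obtain ⟨g, i⟩ := v
  obtain ⟨g', i'⟩ := w
  obtain ⟨rfl, h⟩ : i = i' ∧ g⁻¹ * g' ∈ (F.D i).X := h
  obtain ⟨h1, h2, h3⟩ := Data.sameX (D := F.D i) h
  exact ⟨h1, h2, h3, by
    show cj g' _ = cj g _
    rw [show g' = g * (g⁻¹ * g') by group, Data.cj_XX g h]⟩

theorem lmul_V (c : Γ) (v : Γ × ι) : F.VV (lmul c v) = cj c (F.VV v) := cj_mul _ _ _

theorem lmul_Q (c : Γ) (v : Γ × ι) : F.QQ (lmul c v) = cj c (F.QQ v) := cj_mul _ _ _

theorem lmul_K (c : Γ) (v : Γ × ι) : F.KK (lmul c v) = cj c (F.KK v) := cj_mul _ _ _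

theorem lmul_X (c : Γ) (v : Γ × ι) : F.XX (lmul c v) = cj c (F.XX v) := cj_mul _ _ _

theorem cj_V_self {v : Γ × ι} {y : Γ} (hy : y ∈ F.XX v) : cj y (F.VV v) = F.VV v := by
  rw [← lmul_V]; exact (Eqv.of_mem hy).eqs.1

theorem cj_Q_self {v : Γ × ι} {y : Γ} (hy : y ∈ F.XX v) : cj y (F.QQ v) = F.QQ v := by
  rw [← lmul_Q]; exact (Eqv.of_mem hy).eqs.2.1

theorem AdjN.edge {n : Γ} {v w : Γ × ι} {E : Subgroup Γ} (a : F.AdjN n v w E) : F.IsEdge v E := by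
  obtain ⟨-, x, hx, x', -, -, he⟩ := a
  exact ⟨x, hx, by rw [F.hT]; exact he⟩

theorem AdjN.symm {n : Γ} {v w : Γ × ι} {E : Subgroup Γ} (a : F.AdjN n v w E) : F.AdjN n⁻¹ w v E := by
  obtain ⟨hn, x, hx, x', hx', hw, rfl⟩ := a
  refine ⟨F.N.inv_mem hn, x'⁻¹, (F.D w.2).X.inv_mem hx', x⁻¹, (F.D v.2).X.inv_mem hx, ?_, ?_⟩
  · rw [hw]; group
  · rw [hw, mul_inv_cancel_right, cj_mul (v.1 * x) n, F.cj_T hn]

theorem AdjN.edge' {n : Γ} {v w : Γ × ι} {E : Subgroup Γ} (a : F.AdjN n v w E) : F.IsEdge w E := a.symm.edge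

theorem AdjN.eqv_left {n : Γ} {v v' w : Γ × ι} {E : Subgroup Γ} (a : F.AdjN n v w E) (h : F.Eqv v v') :
    F.AdjN n v' w E := by
  obtain ⟨g, i⟩ := v
  obtain ⟨g', i'⟩ := v'
  obtain ⟨rfl, hg⟩ : i = i' ∧ g⁻¹ * g' ∈ (F.D i).X := h
  obtain ⟨hn, x, hx, x', hx', hw, rfl⟩ := a
  refine ⟨hn, (g⁻¹ * g')⁻¹ * x, (F.D i).X.mul_mem ((F.D i).X.inv_mem hg) hx, x', hx', ?_, ?_⟩
  · rw [hw]; group
  · congr 1; group

theorem AdjN.eqv_right {n : Γ} {v w w' : Γ × ι} {E : Subgroup Γ} (a : F.AdjN n v w E) (h : F.Eqv w w') :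
    F.AdjN n v w' E := by
  obtain ⟨g, i⟩ := w
  obtain ⟨g', i'⟩ := w'
  obtain ⟨rfl, hg⟩ : i = i' ∧ g⁻¹ * g' ∈ (F.D i).X := h
  obtain ⟨hn, x, hx, x', hx', hw, rfl⟩ := a
  exact ⟨hn, x, hx, x' * (g⁻¹ * g'), (F.D i).X.mul_mem hx' hg, by
    rw [show g = v.1 * x * n * x' from hw]; group, rfl⟩

theorem AdjN.lmul {n : Γ} {v w : Γ × ι} {E : Subgroup Γ} (a : F.AdjN n v w E) (c : Γ) :
    F.AdjN n (lmul c v) (Fam.lmul c w) (cj c E) := by
  obtain ⟨hn, x, hx, x', hx', hw, rfl⟩ := a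
  exact ⟨hn, x, hx, x', hx', by show c * w.1 = _; rw [hw]; group, by rw [← cj_mul, mul_assoc]⟩

/-- Two neighbours across the same edge are neighbours. -/
theorem AdjN.share {n m : Γ} {v a b : Γ × ι} {E : Subgroup Γ} (ha : F.AdjN n v a E) (hb : F.AdjN m v b E) :
    ∃ k, F.AdjN k a b E := by
  obtain ⟨hn, x, hx, x', hx', haw, rfl⟩ := ha
  obtain ⟨hm, y, hy, y', hy', hbw, hE⟩ := hb
  have hk : x⁻¹ * y ∈ F.N := Subgroup.mem_normalizer_iff''.2 fun t => by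
    have e : cj (x⁻¹ * y) F.T = F.T := cj_inj (g := v.1 * x) (by
      rw [← cj_mul, mul_assoc, mul_inv_cancel_left, hE])
    conv_lhs => rw [← e, mem_cj]
  refine ⟨n⁻¹ * (x⁻¹ * y) * m, F.N.mul_mem (F.N.mul_mem (F.N.inv_mem hn) hk) hm, x'⁻¹,
    (F.D a.2).X.inv_mem hx', y', hy', ?_, ?_⟩
  · rw [hbw, haw]; group
  · rw [haw, show v.1 * x * n * x' * x'⁻¹ = v.1 * x * n by group, cj_mul (v.1 * x) n, F.cj_T hn]

theorem AdjN.V_le {n : Γ} {v w : Γ × ι} {E : Subgroup Γ} (a : F.AdjN n v w E) : F.VV w ≤ E :=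
  (cj_mono w.1 (F.D w.2).V_le_Q).trans a.edge'.Q_le

theorem AdjN.sup_eq {n : Γ} {v w : Γ × ι} {E : Subgroup Γ} (a : F.AdjN n v w E) :
    ∃ c, cj c (F.D v.2).X = F.XX v ∧
      F.VV w ⊔ F.VV v = cj c (cj n (F.D w.2).V ⊔ (F.D v.2).V) := by
  obtain ⟨-, x, hx, x', hx', hw, rfl⟩ := a
  refine ⟨v.1 * x, Data.cj_XX v.1 hx, ?_⟩
  show cj w.1 _ ⊔ _ = _
  rw [cj_sup, (Data.cj_mulX v.1 hx).1, hw, (Data.cj_mulX (v.1 * x * n) hx').1, cj_mul (v.1 * x) n]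

theorem AdjN.bad_iff {n : Γ} {v w : Γ × ι} {E : Subgroup Γ} (a : F.AdjN n v w E) :
    F.Bad v.2 w.2 n ↔ ∀ y ∈ F.XX v, ∀ u ∈ F.VV w ⊔ F.VV v, y * u * y⁻¹ ∈ F.VV w ⊔ F.VV v := by
  obtain ⟨c, hX, hW⟩ := a.sup_eq
  rw [hW, ← hX]
  constructor
  · intro hb y hy u hu
    rw [mem_cj] at hy hu ⊢
    have := hb _ hy _ hu
    simpa [mul_assoc] using this
  · intro hb x hx u hu
    have := hb _ (conj_mem_cj hx) _ (conj_mem_cj hu)
    rw [mem_cj] at this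
    simpa [mul_assoc] using this

/-- A critical pair of vertices. -/
abbrev Crit {p : ℕ} {ι : Type*} (F : Fam Γ p ι) (v w : Γ × ι) (E E' : Subgroup Γ) : Prop :=
  (F.D v.2).Crit (F.D w.2) v.1 w.1 E E'

/-- The shift lemma. -/
theorem shift {n : Γ} {v w h : Γ × ι} {E₀ L E' : Subgroup Γ} (c : F.Crit v w E₀ L) (a : F.AdjN n v h E')
    (hne : ¬ Same p E' E₀) (hn : ¬ F.Bad v.2 h.2 n) : ¬ F.VV h ≤ L := by
  intro hle
  apply hn
  rw [a.bad_iff]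
  have hgE' := a.edge
  have hhE' := a.edge'
  have hM : F.XX v ≤ Subgroup.normalizer ((F.VV h ⊔ F.VV v : Subgroup Γ) : Set Γ) := by
    refine (hgE'.gen c.1 hne).trans (sup_le ?_ ?_)
    · refine le_normalizer_of fun y hy => conj_mem_sup
        (fun u hu => Subgroup.mem_sup_left (Data.V_conj h.1 (hhE'.le_X hy) hu))
        fun u hu => Subgroup.mem_sup_right (Data.V_conj v.1 (hgE'.le_X hy) hu)
    · rw [c.full]
      refine sup_le ?_ ?_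
      · refine (hgE'.Q_le.trans ?_)
        exact le_normalizer_of fun y hy => conj_mem_sup
          (fun u hu => Subgroup.mem_sup_left (Data.V_conj h.1 (hhE'.le_X hy) hu))
          fun u hu => Subgroup.mem_sup_right (Data.V_conj v.1 (hgE'.le_X hy) hu)
      · refine le_normalizer_of fun y hy => conj_mem_sup (fun u hu => ?_) fun u hu =>
          Subgroup.mem_sup_right (Data.V_conj v.1 (c.1.le_X (c.2.2.1 hy)) hu)
        have hL := c.symm.full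
        have hmem : u ∈ F.VV v ⊔ F.QQ w := by rw [sup_comm, ← hL]; exact hle hu
        have hnorm : F.VV v ≤ Subgroup.normalizer ((F.QQ w : Subgroup Γ) : Set Γ) :=
          le_normalizer_of fun z hz q hq => Data.Q_conj w.1 (c.2.1.le_X (c.2.2.2.1 hz)) hq
        rw [← SetLike.mem_coe, Subgroup.coe_mul_of_left_le_normalizer_right _ _ hnorm] at hmem
        obtain ⟨x, hx, q, hq, hvq⟩ := hmem
        have hqy : q * y = y * q := Data.Q_cent' hq hy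
        have e : y * u * y⁻¹ = (y * x * y⁻¹ * x⁻¹) * u := by
          rw [← hvq]
          calc y * (x * q) * y⁻¹ = y * x * (q * y⁻¹) := by group
            _ = y * x * (y⁻¹ * q) := by
              rw [show q * y⁻¹ = y⁻¹ * q from (Commute.inv_right hqy).eq]
            _ = _ := by group
        rw [e]
        exact Subgroup.mul_mem _ (Subgroup.mem_sup_right ((F.VV v).mul_mem
          (Data.V_conj v.1 (c.1.le_X (c.2.2.1 hy)) hx) ((F.VV v).inv_mem hx))) (Subgroup.mem_sup_left hu)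
  exact fun y hy u hu => (Subgroup.mem_normalizer_iff.1 (hM hy) u).1 hu

end Fam

end Cfsg.Agent.Lib.PushUpP
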