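import Cfsg.Agent.Lib.PushUpP.Path
import Mathlib.GroupTheory.OrderOfElement

/-!
Auxiliary facts for critical pairs of vertices.
-/

set_option autoImplicit false

namespace Cfsg.Agent.Lib.PushUpP

open scoped commutatorElement Pointwise

variable {Γ : Type*} [Group Γ] {p : ℕ}

theorem closure_conj {S : Set Γ} {u : Γ} (h : ∀ m ∈ S, u * m * u⁻¹ ∈ Subgroup.closure S) :
    ∀ m ∈ Subgroup.closure S, u * m * u⁻¹ ∈ Subgroup.closure S := by
  have hle : Subgroup.closure S ≤ (Subgroup.closure S).comap (MulAut.conj u).toMonoidHom :=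
    (Subgroup.closure_le _).2 fun m hm => h m hm
  exact fun m hm => hle hm

/-- The elements of `Y` centralizing `A` modulo `B`. -/
def centMod (Y A B : Subgroup Γ) (hA : ∀ y ∈ Y, ∀ a ∈ A, y * a * y⁻¹ ∈ A)
    (hB : ∀ y ∈ Y, ∀ b ∈ B, y * b * y⁻¹ ∈ B) : Subgroup Γ where
  carrier := {u | u ∈ Y ∧ ∀ a ∈ A, ⁅a, u⁆ ∈ B}
  one_mem' := ⟨one_mem _, fun a _ => by rw [commutatorElement_one_right]; exact one_mem _⟩
  mul_mem' := fun {u v} hu hv => ⟨mul_mem hu.1 hv.1, fun a ha => by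
    rw [show ⁅a, u * v⁆ = ⁅a, u⁆ * (u * ⁅a, v⁆ * u⁻¹) by simp only [commutatorElement_def]; group]
    exact mul_mem (hu.2 a ha) (hB u hu.1 _ (hv.2 a ha))⟩
  inv_mem' := fun {u} hu => ⟨inv_mem hu.1, fun a ha => by
    have h2 := hu.2 a ha
    rw [show ⁅a, u⁻¹⁆ = u⁻¹ * ⁅a, u⁆⁻¹ * u by simp only [commutatorElement_def]; group]
    simpa using hB u⁻¹ (inv_mem hu.1) _ (inv_mem h2)⟩

theorem centMod_conj {Y A B : Subgroup Γ} {hA : ∀ y ∈ Y, ∀ a ∈ A, y * a * y⁻¹ ∈ A}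
    {hB : ∀ y ∈ Y, ∀ b ∈ B, y * b * y⁻¹ ∈ B} {y u : Γ} (hy : y ∈ Y) (hu : u ∈ centMod Y A B hA hB) :
    y * u * y⁻¹ ∈ centMod Y A B hA hB := by
  refine ⟨mul_mem (mul_mem hy hu.1) (inv_mem hy), fun a ha => ?_⟩
  have h1 : y⁻¹ * a * y ∈ A := by simpa using hA y⁻¹ (inv_mem hy) a ha
  have h2 := hB y hy _ (hu.2 _ h1)
  rwa [show y * ⁅y⁻¹ * a * y, u⁆ * y⁻¹ = ⁅a, y * u * y⁻¹⁆ by simp only [commutatorElement_def]; group] at h2

/-- A coprime element fixing its commutator with `u`, of `p`-power order, centralizes `u`. -/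
theorem comm_of_coprime {z u : Γ} (hz : (orderOf z).Coprime p) (hf : z * ⁅z, u⁆ = ⁅z, u⁆ * z)
    (hp : ∃ k, ⁅z, u⁆ ^ p ^ k = 1) : z * u = u * z := by
  have key : ∀ i : ℕ, z ^ i * u * (z ^ i)⁻¹ = ⁅z, u⁆ ^ i * u := by
    intro i
    induction i with
    | zero => simp
    | succ i ih =>
      calc z ^ (i + 1) * u * (z ^ (i + 1))⁻¹ = z * (z ^ i * u * (z ^ i)⁻¹) * z⁻¹ := by
            rw [pow_succ']; group
        _ = (z * ⁅z, u⁆ ^ i) * u * z⁻¹ := by rw [ih]; group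
        _ = ⁅z, u⁆ ^ i * (z * u * z⁻¹) := by
            rw [((show Commute z ⁅z, u⁆ from hf).pow_right i).eq]; group
        _ = ⁅z, u⁆ ^ (i + 1) * u := by
            rw [show z * u * z⁻¹ = ⁅z, u⁆ * u by simp only [commutatorElement_def]; group, pow_succ, mul_assoc]
  have h := key (orderOf z)
  rw [pow_orderOf_eq_one, one_mul, inv_one, mul_one] at h
  have h1 : ⁅z, u⁆ ^ orderOf z = 1 := mul_eq_right.1 h.symm
  obtain ⟨k, hk⟩ := hp
  have h2 := pow_gcd_eq_one.2 ⟨h1, hk⟩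
  rw [Nat.Coprime.gcd_eq_one (hz.pow_right k), pow_one] at h2
  exact commutatorElement_eq_one_iff_mul_comm.1 h2

/-- A subgroup with at most two cosets in another one. -/
theorem card_le_two {N H : Subgroup Γ} [Finite ↥H] (hNH : N ≤ H)
    (h : ∀ a ∈ H, ∀ b ∈ H, a ∉ N → b ∉ N → a * b⁻¹ ∈ N) : Nat.card ↥H ≤ 2 * Nat.card ↥N := by
  classical
  haveI : Finite ↥N := Finite.of_injective _ (Subgroup.inclusion_injective hNH)
  by_cases hall : H ≤ N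
  · rw [le_antisymm hNH hall]; omega
  obtain ⟨b, hb, hbN⟩ := SetLike.not_le_iff_exists.1 hall
  let f : ↥H → Bool × ↥N := fun a => if ha : (a : Γ) ∈ N then (true, ⟨a, ha⟩)
    else (false, ⟨a * b⁻¹, h a a.2 b hb ha hbN⟩)
  have hf : Function.Injective f := by
    intro a a' he
    simp only [f] at he
    split_ifs at he <;> simp at he <;> first | exact he | exact Subtype.ext he
  have := Nat.card_le_card_of_injective f hf
  rwa [Nat.card_prod, Nat.card_eq_fintype_card (α := Bool), Fintype.card_bool] at this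

theorem card_lt_double {H K : Subgroup Γ} [Finite ↥K] (hle : H ≤ K) (hne : ¬ K ≤ H) :
    2 * Nat.card ↥H ≤ Nat.card ↥K := by
  obtain ⟨m, hm⟩ := Subgroup.card_dvd_of_le hle
  haveI : Finite ↥H := Finite.of_injective _ (Subgroup.inclusion_injective hle)
  have h1 : m ≠ 1 := fun h => hne (Subgroup.eq_of_le_of_card_ge hle (by rw [hm, h, mul_one])).ge
  have h2 : m ≠ 0 := fun h => by
    have := Nat.card_pos (α := ↥K)
    rw [hm, h, mul_zero] at this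
    exact lt_irrefl 0 this
  rw [hm, mul_comm 2]
  exact Nat.mul_le_mul_left _ (by omega)

/-- Elements of a supremum, one factor normalizing the other. -/
theorem mem_sup_mul {H K : Subgroup Γ} (h : H ≤ Subgroup.normalizer (K : Set Γ)) {u : Γ} (hu : u ∈ H ⊔ K) :
    ∃ a ∈ H, ∃ b ∈ K, u = a * b := by
  rw [← SetLike.mem_coe, Subgroup.coe_mul_of_left_le_normalizer_right _ _ h] at hu
  obtain ⟨a, ha, b, hb, e⟩ := hu
  exact ⟨a, ha, b, hb, e.symm⟩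

namespace Data

variable {D D' : Data Γ p}

theorem IsEdge.isPGroup {g : Γ} {E : Subgroup Γ} (h : D.IsEdge g E) : IsPGroup p ↥E := by
  obtain ⟨c, rfl, -, -, -, -⟩ := h.base
  exact D.T_p.map _

theorem IsEdge.zSub {g : Γ} {E : Subgroup Γ} (h : D.IsEdge g E) :
    ∃ S : Subgroup Γ, (∀ z, z ∈ S ↔ InZ p E z) ∧ S ≤ cj g D.V ∧ S.relIndex (cj g D.V) = D.Q.relIndex D.T := by
  obtain ⟨c, rfl, hV, -, -, -⟩ := h.base
  refine ⟨cj c D.Z, fun z => by rw [mem_cj, inZ_iff], ?_, ?_⟩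
  · rw [hV]; exact cj_mono c D.Z_le_V
  · rw [hV, ← D.relIndex_eq]
    exact Subgroup.relIndex_map_map_of_injective _ _ (MulAut.conj c).injective

/-- Two edges at a vertex are conjugate under its `X`. -/
theorem IsEdge.trans {g : Γ} {E E' : Subgroup Γ} (h : D.IsEdge g E) (h' : D.IsEdge g E') :
    ∃ y ∈ cj g D.X, cj y E = E' := by
  obtain ⟨x, hx, rfl⟩ := h
  obtain ⟨x', hx', rfl⟩ := h'
  refine ⟨g * x' * x⁻¹ * g⁻¹, mem_cj.2 ?_, ?_⟩
  · simpa [mul_assoc] using D.X.mul_mem hx' (D.X.inv_mem hx)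
  · rw [← cj_mul]; congr 1; group

theorem IsEdge.V_le {g : Γ} {E : Subgroup Γ} (h : D.IsEdge g E) : cj g D.V ≤ E :=
  (cj_mono g D.V_le_Q).trans h.Q_le

theorem IsEdge.comm_inZ' {g : Γ} {E : Subgroup Γ} (h : D.IsEdge g E) {t v : Γ} (ht : t ∈ E)
    (hv : v ∈ cj g D.V) : InZ p E ⁅t, v⁆ := inZ_comm_symm (h.comm_inZ ht hv)

theorem Q_normalizes {g : Γ} {E : Subgroup Γ} (h : D.IsEdge g E) {H : Subgroup Γ} (hH : H ≤ E) :
    H ≤ Subgroup.normalizer ((cj g D.Q : Subgroup Γ) : Set Γ) :=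
  le_normalizer_of fun _ hy _ hq => Q_conj g (h.le_X (hH hy)) hq

/-- Commutators of a critical pair lie in the centres of both edges. -/
theorem Crit.comm_both {g h : Γ} {E E' : Subgroup Γ} (c : D.Crit D' g h E E') {v s : Γ} (hv : v ∈ cj g D.V)
    (hs : s ∈ E) : InZ p E ⁅v, s⁆ ∧ InZ p E' ⁅v, s⁆ := by
  refine ⟨c.1.comm_inZ hs hv, ?_⟩
  rw [c.full, sup_comm] at hs
  obtain ⟨w, hw, q, hq, rfl⟩ := mem_sup_mul (Q_normalizes c.1 c.2.2.1) hs
  rw [show ⁅v, w * q⁆ = ⁅v, w⁆ * (w * ⁅v, q⁆ * w⁻¹) by simp only [commutatorElement_def]; group,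
    commutatorElement_eq_one_iff_mul_comm.2 (Q_cent' hq hv).symm, mul_one, mul_inv_cancel, mul_one]
  exact c.2.1.comm_inZ' (c.2.2.2.1 hv) hw

/-- The faithfulness on `Q`, at a vertex. -/
theorem coprime_mem' {g k : Γ} (hk : k ∈ cj g D.X) (h : ∀ v ∈ cj g D.V, ⁅v, k⁆ ∈ cj g D.K)
    (hc : ∀ z ∈ Subgroup.zpowers k, (orderOf z).Coprime p → ∀ a ∈ cj g D.Q, z * a = a * z) : k ∈ cj g D.Q := by
  refine mem_cj.2 (D.coprime_mem _ (mem_cj.1 hk) (fun v hv => ?_) fun z hz hzc a ha => ?_)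
  · have h1 := mem_cj.1 (h _ (conj_mem_cj hv))
    rwa [comm_base, show g⁻¹ * (g * v * g⁻¹) * g = v by group] at h1
  · have hz' : g * z * g⁻¹ ∈ Subgroup.zpowers k := by
      obtain ⟨i, rfl⟩ := hz
      refine ⟨i, ?_⟩
      show k ^ i = g * (g⁻¹ * k * g) ^ i * g⁻¹
      rw [← conj_zpow, show g * (g⁻¹ * k * g) * g⁻¹ = k by group]
    have ho : orderOf (g * z * g⁻¹) = orderOf z := MulEquiv.orderOf_eq (MulAut.conj g) z
    have h1 := (comm_cj g (g * z * g⁻¹) (g * a * g⁻¹)).2 (hc _ hz' (ho ▸ hzc) _ (conj_mem_cj ha))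
    simpa [mul_assoc] using h1

theorem neg' (hp2 : p ≠ 2) (g : Γ) :
    ∃ r ∈ cj g D.X, ∀ v ∈ cj g D.V, r * v * r⁻¹ * v ∈ cj g D.K := by
  obtain ⟨r, hr, h⟩ := D.neg hp2
  refine ⟨g * r * g⁻¹, conj_mem_cj hr, fun v hv => mem_cj.2 ?_⟩
  rw [show g⁻¹ * (g * r * g⁻¹ * v * (g * r * g⁻¹)⁻¹ * v) * g = r * (g⁻¹ * v * g) * r⁻¹ * (g⁻¹ * v * g) by group]
  exact h _ (mem_cj.1 hv)

theorem K_le_V {g k : Γ} (hk : k ∈ cj g D.K) : k ∈ cj g D.V :=
  cj_mono g (D.K_le_Z.trans D.Z_le_V) hk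

theorem K_comm {g y k : Γ} (hy : y ∈ cj g D.X) (hk : k ∈ cj g D.K) : y * k = k * y := by
  rw [mem_cj] at hy hk
  exact (comm_cj g y k).1 ((D.mem_K _ (D.Z_le_V (D.K_le_Z hk))).1 hk _ hy)

theorem V_comm {g u v : Γ} (hu : u ∈ cj g D.V) (hv : v ∈ cj g D.V) : u * v = v * u :=
  Q_cent' (cj_mono g D.V_le_Q hu) hv

end Data

end Cfsg.Agent.Lib.PushUpP
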