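import Cfsg.Agent.Lib.PushUpP.Exc
import Cfsg.Agent.Lib.PushUpP.Cases
import Cfsg.Agent.Lib.PGroups.Frattini

/-!
The subgroup `S₀` of `S` lies in the part of `O_p(G)` centralized modulo `C₀` by a supplement.
-/

set_option autoImplicit false
set_option linter.unusedSectionVars false
set_option linter.style.haveILetI false

open scoped commutatorElement

namespace Cfsg.Agent.Lib.PushUpP.Sit

open Cfsg.Agent.Lib.LAEven57.PushingUp

variable {G : Type*} [Group G] [Finite G] {p : ℕ} [hp : Fact p.Prime] {F : Type} [Field F] [Fintype F]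
variable {c : Sit G p F}
variable {G' : Type*} [Group G'] [Finite G'] {F' : Type} [Field F'] [Fintype F'] {c' : Sit G' p F'}

local notation "Qc" => Cfsg.pCore p G
local notation "Qc'" => Cfsg.pCore p G'

/-- The elements of `O_p(G)` commuting modulo `C₀` with the normal subgroup `R`. -/
def fixR (c : Sit G p F) (R : Subgroup G) : Subgroup G := Qc ⊓ secKer c.C₀ R

instance fixR_normal (R : Subgroup G) [R.Normal] : (fixR c R).Normal := by
  unfold fixR; infer_instance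

theorem fixR_le_Q {R : Subgroup G} : fixR c R ≤ Qc := inf_le_left

theorem C₀_le_fixR {R : Subgroup G} : c.C₀ ≤ fixR c R := fun k hk =>
  ⟨c.V_le_Q hk.1, mem_secKer.2 fun u _ => by
    rw [commutatorElement_eq_one_iff_mul_comm.2 (Subgroup.mem_center_iff.1 hk.2 u)]; exact one_mem _⟩

/-- An element of `O_p(G)` all whose conjugates commute modulo `C₀` with generators of `R`. -/
theorem mem_fixR {W : Subgroup G} {x : G} (hx : x ∈ Qc)
    (h : ∀ g : G, ∀ w ∈ W, ⁅g * x * g⁻¹, w⁆ ∈ c.C₀) : x ∈ fixR c (Subgroup.normalClosure (W : Set G)) := by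
  refine ⟨hx, mem_secKer.2 fun r hr => ?_⟩
  have hle : Subgroup.normalClosure (W : Set G) ≤ secKer c.C₀ (Subgroup.normalClosure ({x} : Set G)) :=
    Subgroup.normalClosure_le_normal fun w hw => mem_secKer.2 fun n hn => by
      have key : Subgroup.normalClosure ({x} : Set G) ≤
          { carrier := {n | ⁅n, w⁆ ∈ c.C₀}
            one_mem' := by show ⁅(1 : G), w⁆ ∈ c.C₀; rw [commutatorElement_one_left]; exact one_mem _
            mul_mem' := fun {a b} ha hb => by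
              show ⁅a * b, w⁆ ∈ c.C₀
              rw [show ⁅a * b, w⁆ = a * ⁅b, w⁆ * a⁻¹ * ⁅a, w⁆ by simp only [commutatorElement_def]; group]
              exact mul_mem ((inferInstance : c.C₀.Normal).conj_mem _ hb a) ha
            inv_mem' := fun {a} ha => by
              show ⁅a⁻¹, w⁆ ∈ c.C₀
              rw [show ⁅a⁻¹, w⁆ = a⁻¹ * ⁅a, w⁆⁻¹ * a⁻¹⁻¹ by simp only [commutatorElement_def]; group]
              exact (inferInstance : c.C₀.Normal).conj_mem _ (inv_mem ha) a⁻¹ } := by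
        refine (Subgroup.closure_le _).2 fun m hm => ?_
        obtain ⟨a, ha, hconj⟩ := Group.mem_conjugatesOfSet_iff.1 hm
        obtain rfl : a = x := ha
        obtain ⟨g, rfl⟩ := isConj_iff.1 hconj
        exact h g w hw
      exact key hn
  rw [← commutatorElement_inv]
  exact inv_mem (mem_secKer.1 (hle hr) x (Subgroup.subset_normalClosure rfl))

theorem fixR_inf_Z (hd : c.Good) {R : Subgroup G} [R.Normal] (hsup : R ⊔ Qc = ⊤) {x : G}
    (hx : x ∈ fixR c R) (hxZ : x ∈ c.Z) : x ∈ c.C₀ := by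
  have hR : ∀ r ∈ R, ⁅x, r⁆ ∈ c.C₀ := fun r hr => by
    rw [← commutatorElement_inv]; exact inv_mem (mem_secKer.1 hx.2 r hr)
  obtain ⟨y, hy⟩ := c.exists_notB
  rw [← c.Z_inf hd hy]
  refine ⟨hxZ, mem_cj.2 ?_⟩
  obtain ⟨r, hr, q, hq, e⟩ : ∃ r ∈ R, ∃ q ∈ Qc, r * q = y⁻¹ := by
    have h : y⁻¹ ∈ ((R ⊔ Qc : Subgroup G) : Set G) := hsup ▸ Subgroup.mem_top y⁻¹
    rwa [Subgroup.mul_normal] at h
  have hqx : q * x * q⁻¹ = x := by rw [hxZ.2.2 q (c.Q_le_S hq), mul_inv_cancel_right]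
  rw [show y⁻¹ * x * y = r * (q * x * q⁻¹) * r⁻¹ by
    rw [show y = (y⁻¹)⁻¹ by group, ← e]; group, hqx,
    show r * x * r⁻¹ = ⁅x, r⁆⁻¹ * x by rw [commutatorElement_def]; group]
  exact mul_mem (inv_mem (c.C₀_le_Z (hR r hr))) hxZ

theorem mul_pow_central {u v z : G} (h : u * v = z * (v * u)) (hu : z * u = u * z) (hv : z * v = v * z)
    (hz : z ^ p = 1) (hp2 : p ≠ 2) : (v * u) ^ p = v ^ p * u ^ p := by
  obtain ⟨m, hm⟩ := hp.out.dvd_choose_self (k := 2) two_ne_zero (lt_of_le_of_ne hp.out.two_le (Ne.symm hp2))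
  rw [mul_pow_comm h hu hv p, hm, pow_mul, hz, one_pow, one_mul]

variable (hd : c.Good)
include hd

theorem One.facts {U D₀ : Subgroup G} (o : c.One U D₀) :
    (∀ s ∈ c.TT, ∀ s' ∈ c.TT, ⁅s, s'⁆ ∈ fixR c (Subgroup.normalClosure (U : Set G)) ⊔ c.Z) ∧
      (∀ s ∈ c.TT, s ^ p ∈ fixR c (Subgroup.normalClosure (U : Set G)) ⊔ c.Z) ∧
      (p ≠ 2 → ∀ s ∈ c.TT, s ^ p ∈ fixR c (Subgroup.normalClosure (U : Set G))) := by
  set F₀ := fixR c (Subgroup.normalClosure (U : Set G)) with hF₀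
  have hz : ∀ q ∈ Qc, ∀ u ∈ U, ∀ t ∈ c.TT, ⁅u, q⁆ * t = t * ⁅u, q⁆ := fun q hq u hu t ht => by
    have h : ⁅u, q⁆ ∈ c.Z := by rw [← commutatorElement_inv]; exact inv_mem (o.comm_Q q hq u hu)
    exact (h.2.2 t ht).symm
  have hQn : ∀ g : G, ∀ q ∈ Qc, g * q * g⁻¹ ∈ Qc := fun g q hq =>
    (inferInstance : (Qc).Normal).conj_mem q hq g
  have cent : ∀ q ∈ Qc, ∀ u ∈ U, u * q * u⁻¹ = ⁅u, q⁆ * q := fun q _ u _ => by
    rw [commutatorElement_def]; group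
  have hcomm : ∀ q ∈ Qc, ∀ q' ∈ Qc, ⁅q, q'⁆ ∈ F₀ := by
    intro q hq q' hq'
    refine mem_fixR ?_ fun g u hu => ?_
    · rw [commutatorElement_def]
      exact mul_mem (mul_mem (mul_mem hq hq') (inv_mem hq)) (inv_mem hq')
    · rw [show g * ⁅q, q'⁆ * g⁻¹ = ⁅g * q * g⁻¹, g * q' * g⁻¹⁆ by simp only [commutatorElement_def]; group]
      set a := g * q * g⁻¹
      set b := g * q' * g⁻¹
      have ha : a ∈ Qc := hQn g q hq
      have hb : b ∈ Qc := hQn g q' hq'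
      have e : u * ⁅a, b⁆ * u⁻¹ = ⁅a, b⁆ := by
        have hbT := c.Q_le_S hb
        have haT := c.Q_le_S ha
        rw [show u * ⁅a, b⁆ * u⁻¹ = ⁅u * a * u⁻¹, u * b * u⁻¹⁆ by simp only [commutatorElement_def]; group,
          cent a ha u hu, cent b hb u hu]
        have h1 := hz a ha u hu
        have h2 := hz b hb u hu
        have hA : ∀ t ∈ c.TT, ⁅⁅u, a⁆ * a, t⁆ = ⁅a, t⁆ := fun t ht => by
          rw [show ⁅⁅u, a⁆ * a, t⁆ = ⁅u, a⁆ * ⁅a, t⁆ * ⁅u, a⁆⁻¹ * ⁅⁅u, a⁆, t⁆ by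
              simp only [commutatorElement_def]; group, commutatorElement_eq_one_iff_mul_comm.2 (h1 t ht), mul_one,
            h1 _ (by rw [commutatorElement_def]; exact mul_mem (mul_mem (mul_mem haT ht) (inv_mem haT)) (inv_mem ht)),
            mul_inv_cancel_right]
        rw [hA _ (mul_mem (o.le_S hu |> fun huT => by
          rw [commutatorElement_def]; exact mul_mem (mul_mem (mul_mem huT hbT) (inv_mem huT)) (inv_mem hbT)) hbT),
          show ⁅a, ⁅u, b⁆ * b⁆ = ⁅a, ⁅u, b⁆⁆ * (⁅u, b⁆ * ⁅a, b⁆ * ⁅u, b⁆⁻¹) by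
            simp only [commutatorElement_def]; group, commutatorElement_eq_one_iff_mul_comm.2 (h2 a haT).symm,
          one_mul, h2 _ (by rw [commutatorElement_def]; exact mul_mem (mul_mem (mul_mem haT hbT) (inv_mem haT)) (inv_mem hbT)),
          mul_inv_cancel_right]
      rw [commutatorElement_eq_one_iff_mul_comm.2 (mul_inv_eq_iff_eq_mul.1 e).symm]
      exact one_mem _
  have hzp : ∀ q ∈ Qc, ∀ u ∈ U, ⁅u, q⁆ ^ p = 1 := fun q hq u hu => by
    have h : ⁅u, q⁆ ∈ c.Z := by rw [← commutatorElement_inv]; exact inv_mem (o.comm_Q q hq u hu)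
    exact h.2.1
  have hpow : ∀ q ∈ Qc, q ^ p ∈ F₀ := by
    intro q hq
    refine mem_fixR (pow_mem hq p) fun g u hu => ?_
    rw [← conj_pow]
    set a := g * q * g⁻¹
    have ha : a ∈ Qc := hQn g q hq
    have e : u * a ^ p * u⁻¹ = a ^ p := by
      rw [← conj_pow, cent a ha u hu, (show Commute ⁅u, a⁆ a from hz a ha u hu a (c.Q_le_S ha)).mul_pow,
        hzp a ha u hu, one_mul]
    rw [commutatorElement_eq_one_iff_mul_comm.2 (mul_inv_eq_iff_eq_mul.1 e).symm]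
    exact one_mem _
  have hdec : ∀ s ∈ c.TT, ∃ q ∈ Qc, ∃ u ∈ U, s = q * u := fun s hs => by
    rw [← o.sup, ← SetLike.mem_coe, Subgroup.normal_mul] at hs
    obtain ⟨q, hq, u, hu, e⟩ := hs
    exact ⟨q, hq, u, hu, e.symm⟩
  have hUQ : ∀ u ∈ U, ∀ q ∈ Qc, ⁅u, q⁆ ∈ F₀ ⊔ c.Z := fun u hu q hq => by
    rw [← commutatorElement_inv]; exact Subgroup.mem_sup_right (inv_mem (o.comm_Q q hq u hu))
  have hN : ∀ t ∈ c.TT, ∀ x ∈ F₀ ⊔ c.Z, t * x * t⁻¹ ∈ F₀ ⊔ c.Z := fun t ht => conj_mem_sup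
    (fun a ha => Subgroup.mem_sup_left ((inferInstance : F₀.Normal).conj_mem a ha t))
    (fun z hz => by rw [hz.2.2 t ht, mul_inv_cancel_right]; exact Subgroup.mem_sup_right hz)
  refine ⟨fun s hs s' hs' => ?_, fun s hs => ?_, fun hp2 s hs => ?_⟩
  · obtain ⟨q, hq, u, hu, rfl⟩ := hdec s hs
    obtain ⟨q', hq', u', hu', rfl⟩ := hdec s' hs'
    rw [show ⁅q * u, q' * u'⁆ = q * ⁅u, q'⁆ * q⁻¹ * (q * (q' * ⁅u, u'⁆ * q'⁻¹) * q⁻¹) * ⁅q, q'⁆ *
        (q' * ⁅q, u'⁆ * q'⁻¹) by simp only [commutatorElement_def]; group,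
      commutatorElement_eq_one_iff_mul_comm.2 (o.comm u hu u' hu'), mul_one, mul_inv_cancel, mul_one,
      mul_inv_cancel, mul_one]
    refine mul_mem (mul_mem (hN q (c.Q_le_S hq) _ (hUQ u hu q' hq')) (Subgroup.mem_sup_left (hcomm q hq q' hq')))
      (hN q' (c.Q_le_S hq') _ ?_)
    rw [← commutatorElement_inv]; exact inv_mem (hUQ u' hu' q hq)
  · obtain ⟨q, hq, u, hu, rfl⟩ := hdec s hs
    rw [mul_pow_comm (z := ⁅u, q⁆) (by rw [commutatorElement_def]; group) (hz q hq u hu u (o.le_S hu))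
      (hz q hq u hu q (c.Q_le_S hq)) p, o.pow u hu, mul_one]
    exact mul_mem (Subgroup.pow_mem _ (hUQ u hu q hq) _) (Subgroup.mem_sup_left (hpow q hq))
  · obtain ⟨q, hq, u, hu, rfl⟩ := hdec s hs
    rw [mul_pow_central (z := ⁅u, q⁆) (by rw [commutatorElement_def]; group) (hz q hq u hu u (o.le_S hu))
      (hz q hq u hu q (c.Q_le_S hq)) (hzp q hq u hu) hp2, o.pow u hu, mul_one]
    exact hpow q hq

variable (hd' : c'.Good) {φ : ↥c'.TT ≃* ↥c.TT} (T : c.Two φ) (hp2 : p ≠ 2)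
include hd' T hp2

/-- The facts at distance two, `I = U ∩ W` replacing `Z`. -/
theorem Two.facts :
    ∃ I : Subgroup G, I ≤ c.TT ∧ c.Z ≤ I ∧ (∀ i ∈ I, i ^ p = 1) ∧
      (∀ i ∈ I, ∀ j ∈ I, ⁅i, j⁆ ∈ c.C₀) ∧ (∀ i ∈ I, ∀ s ∈ c.TT, ⁅i, s⁆ ∈ c.Z) ∧
      (∀ s ∈ c.TT, ∀ s' ∈ c.TT,
        ⁅s, s'⁆ ∈ fixR c (Subgroup.normalClosure (img φ (Un φ.symm) : Set G)) ⊔ I) ∧
      ∀ s ∈ c.TT, s ^ p ∈ fixR c (Subgroup.normalClosure (img φ (Un φ.symm) : Set G)) ⊔ I := by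
  obtain ⟨y, hy⟩ := T.crit
  set W := img φ (Un φ.symm) with hW
  set F₀ := fixR c (Subgroup.normalClosure (W : Set G)) with hF₀
  set I := Un φ ⊓ W with hI
  have hUS : Un φ ≤ c.TT := (Two.Un_le_Q hd hd' T).trans c.Q_le_S
  have hZI : c.Z ≤ I := fun z hz => ⟨V_le_Un (c.Z_le_V hz),
    img_mono (c'.Z_le_V.trans V_le_Un) ((img_Z φ).ge hz)⟩
  have rQW : ∀ r ∈ img φ Qc', ∀ w ∈ W, ⁅r, w⁆ ∈ c.Z := fun r hr w hw =>
    Kimg_le_Z (Two.comm_Qimg hd hd' T hr hw)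
  have hIZ : ∀ i ∈ I, ∀ s ∈ c.TT, ⁅i, s⁆ ∈ c.Z := by
    intro i hi s hs
    obtain ⟨w, hw, q, hq, rfl⟩ := Two.cover hd hd' T hs
    have hk := c.C₀_le_Z (Two.comm_UQ hd hd' T hi.1 hq)
    rw [show ⁅i, w * q⁆ = ⁅i, w⁆ * (w * ⁅i, q⁆ * w⁻¹) by simp only [commutatorElement_def]; group,
      Z_fix hk (img_le_S hw)]
    exact mul_mem (rQW i (Two.Unimg_le hd hd' T hi.2) w hw) hk
  have hN : ∀ t ∈ c.TT, ∀ x ∈ F₀ ⊔ I, t * x * t⁻¹ ∈ F₀ ⊔ I := fun t ht => conj_mem_sup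
    (fun a ha => Subgroup.mem_sup_left ((inferInstance : F₀.Normal).conj_mem a ha t))
    (fun i hi => by
      rw [show t * i * t⁻¹ = ⁅i, t⁆⁻¹ * i by rw [commutatorElement_def]; group]
      exact Subgroup.mem_sup_right (mul_mem (inv_mem (hZI (hIZ i hi t ht))) hi))
  have hQn : ∀ g : G, ∀ q ∈ Qc, g * q * g⁻¹ ∈ Qc := fun g q hq =>
    (inferInstance : (Qc).Normal).conj_mem q hq g
  -- `W` fixes commutators and powers of `Q`
  have hfix : ∀ q ∈ Qc, ∀ q' ∈ Qc, ∀ w ∈ W, ⁅⁅q, q'⁆, w⁆ ∈ c.C₀ ∧ ⁅q ^ p, w⁆ ∈ c.C₀ := by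
    intro q hq q' hq' w hw
    obtain ⟨a, ha, r, hrQ, hr, rfl⟩ := Crit.decomp_Q hd hd' T hy hq
    obtain ⟨a', ha', r', hrQ', hr', rfl⟩ := Crit.decomp_Q hd hd' T hy hq'
    have haU := Crit.le_Un hd hd' T hy ha
    have haU' := Crit.le_Un hd hd' T hy ha'
    have cw : ∀ r ∈ img φ Qc', r ∈ c.TT → w * r * w⁻¹ = ⁅r, w⁆⁻¹ * r := fun r _ _ => by
      rw [commutatorElement_def]; group
    have hwT : w ∈ c.TT := img_le_S hw
    have hrT := c.Q_le_S hrQ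
    have hrT' := c.Q_le_S hrQ'
    refine ⟨?_, ?_⟩
    · -- `[q,q'] ≡ [r,r']`
      let f := QuotientGroup.mk' c.C₀
      have hc : ∀ u ∈ Un φ, ∀ x ∈ Qc, f u * f x = f x * f u := fun u hu x hx => by
        rw [← commutatorElement_eq_one_iff_mul_comm, ← map_commutatorElement]
        exact (QuotientGroup.eq_one_iff _).2 (Two.comm_UQ hd hd' T hu hx)
      have e1 : f ⁅a * r, a' * r'⁆ = f ⁅r, r'⁆ := by
        have haQ := Two.Un_le_Q hd hd' T haU'
        have k1 : ∀ x ∈ Qc, ⁅f a, f x⁆ = 1 := fun x hx => commutatorElement_eq_one_iff_mul_comm.2 (hc a haU x hx)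
        have k2 : ⁅f r, f a'⁆ = 1 := commutatorElement_eq_one_iff_mul_comm.2 (hc a' haU' r hrQ).symm
        rw [map_commutatorElement, map_commutatorElement, map_mul, map_mul,
          show ⁅f a * f r, f a' * f r'⁆ = f a * (⁅f r, f a'⁆ * (f a' * ⁅f r, f r'⁆ * (f a')⁻¹)) * (f a)⁻¹ *
            (⁅f a, f a' * f r'⁆) by simp only [commutatorElement_def]; group,
          ← map_mul f a', k1 _ (mul_mem haQ hrQ'), mul_one, k2, one_mul, ← map_commutatorElement f r,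
          hc a' haU' _ (show ⁅r, r'⁆ ∈ Qc by
            rw [commutatorElement_def]; exact mul_mem (mul_mem (mul_mem hrQ hrQ') (inv_mem hrQ)) (inv_mem hrQ')),
          mul_inv_cancel_right,
          hc a haU _ (show ⁅r, r'⁆ ∈ Qc by
            rw [commutatorElement_def]; exact mul_mem (mul_mem (mul_mem hrQ hrQ') (inv_mem hrQ)) (inv_mem hrQ')),
          mul_inv_cancel_right]
      refine (QuotientGroup.eq_one_iff _).1 ?_
      show f ⁅⁅a * r, a' * r'⁆, w⁆ = 1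
      rw [map_commutatorElement, e1, ← map_commutatorElement]
      have e2 : w * ⁅r, r'⁆ * w⁻¹ = ⁅r, r'⁆ := by
        have hz := rQW r hr w hw
        have hz' := rQW r' hr' w hw
        rw [show w * ⁅r, r'⁆ * w⁻¹ = ⁅w * r * w⁻¹, w * r' * w⁻¹⁆ by simp only [commutatorElement_def]; group,
          cw r hr hrT, cw r' hr' hrT', ← (inv_mem hz : _ ∈ c.Z).2.2 r hrT, ← (inv_mem hz' : _ ∈ c.Z).2.2 r' hrT',
          comm_Z_left hrT (inv_mem hz) (mul_mem hrT' (c.Z_le_S (inv_mem hz'))), ← commutatorElement_inv,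
          comm_Z_left hrT' (inv_mem hz') hrT, commutatorElement_inv]
      rw [commutatorElement_eq_one_iff_mul_comm.2 (mul_inv_eq_iff_eq_mul.1 e2).symm, map_one]
    · have hk := Two.comm_UQ hd hd' T haU hrQ
      have hk' : ⁅r, a⁆ ∈ c.C₀ := by rw [← commutatorElement_inv]; exact inv_mem hk
      rw [mul_pow_central (z := ⁅r, a⁆) (by rw [commutatorElement_def]; group) (C₀_central hk' r).symm
        (C₀_central hk' a).symm (c.V_pow hk'.1) hp2, Two.Un_pow hd hd' T hp2 a haU, one_mul]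
      have hz := rQW r hr w hw
      have e2 : w * r ^ p * w⁻¹ = r ^ p := by
        rw [← conj_pow, cw r hr hrT,
          (show Commute ⁅r, w⁆⁻¹ r from ((inv_mem hz : _ ∈ c.Z).2.2 r hrT).symm).mul_pow,
          (inv_mem hz : _ ∈ c.Z).2.1, one_mul]
      rw [commutatorElement_eq_one_iff_mul_comm.2 (mul_inv_eq_iff_eq_mul.1 e2).symm]
      exact one_mem _
  have hcomm : ∀ q ∈ Qc, ∀ q' ∈ Qc, ⁅q, q'⁆ ∈ F₀ := fun q hq q' hq' => by
    refine mem_fixR (by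
      rw [commutatorElement_def]; exact mul_mem (mul_mem (mul_mem hq hq') (inv_mem hq)) (inv_mem hq')) fun g w hw => ?_
    rw [show g * ⁅q, q'⁆ * g⁻¹ = ⁅g * q * g⁻¹, g * q' * g⁻¹⁆ by simp only [commutatorElement_def]; group]
    exact (hfix _ (hQn g q hq) _ (hQn g q' hq') w hw).1
  have hpow : ∀ q ∈ Qc, q ^ p ∈ F₀ := fun q hq => by
    refine mem_fixR (pow_mem hq p) fun g w hw => ?_
    rw [← conj_pow]
    exact (hfix _ (hQn g q hq) _ (hQn g q hq) w hw).2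
  have hWW : ∀ w ∈ W, ∀ w' ∈ W, ⁅w, w'⁆ ∈ c.Z := fun w hw w' hw' =>
    rQW w (Two.Unimg_le hd hd' T hw) w' hw'
  have hWQ : ∀ w ∈ W, ∀ q ∈ Qc, ⁅w, q⁆ ∈ F₀ ⊔ I := by
    intro w hw q hq
    obtain ⟨a, ha, r, hrQ, hr, rfl⟩ := Crit.decomp_Q hd hd' T hy hq
    have haU := Crit.le_Un hd hd' T hy ha
    rw [show ⁅w, a * r⁆ = ⁅w, a⁆ * (a * ⁅w, r⁆ * a⁻¹) by simp only [commutatorElement_def]; group]
    refine Subgroup.mem_sup_right (mul_mem ?_ ?_)
    · rw [← commutatorElement_inv]; exact inv_mem (Two.comm_UW hd hd' T hp2 haU hw)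
    · have hz : ⁅w, r⁆ ∈ c.Z := by rw [← commutatorElement_inv]; exact inv_mem (rQW r hr w hw)
      rw [Z_fix hz (hUS haU)]; exact hZI hz
  have hcs : ∀ s ∈ c.TT, ∀ s' ∈ c.TT, ⁅s, s'⁆ ∈ F₀ ⊔ I := by
    intro s hs s' hs'
    obtain ⟨w, hw, q, hq, rfl⟩ := Two.cover hd hd' T hs
    obtain ⟨w', hw', q', hq', rfl⟩ := Two.cover hd hd' T hs'
    rw [show ⁅w * q, w' * q'⁆ = w * (⁅q, w'⁆ * (w' * ⁅q, q'⁆ * w'⁻¹)) * w⁻¹ * (⁅w, w'⁆ * (w' * ⁅w, q'⁆ * w'⁻¹)) by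
      simp only [commutatorElement_def]; group]
    have hwT' := img_le_S hw'
    refine mul_mem (hN w (img_le_S hw) _ (mul_mem ?_ (hN w' hwT' _ (Subgroup.mem_sup_left (hcomm q hq q' hq')))))
      (mul_mem (Subgroup.mem_sup_right (hZI (hWW w hw w' hw'))) (hN w' hwT' _ (hWQ w hw q' hq')))
    rw [← commutatorElement_inv]; exact inv_mem (hWQ w' hw' q hq)
  refine ⟨I, inf_le_left.trans hUS, hZI, fun i hi => Two.Un_pow hd hd' T hp2 i hi.1,
    fun i hi j hj => Two.comm_UU hd hd' T hi.1 hj.1, hIZ, hcs, fun s hs => ?_⟩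
  obtain ⟨w, hw, q, hq, rfl⟩ := Two.cover hd hd' T hs
  -- work modulo `F₀ ⊔ I` in `S`
  set N := ((F₀ ⊔ I).subgroupOf c.TT)
  haveI : N.Normal := ⟨fun x hx g => hN g g.2 _ hx⟩
  have hab : ∀ a b : ↥c.TT, (QuotientGroup.mk' N a) * QuotientGroup.mk' N b = QuotientGroup.mk' N b * QuotientGroup.mk' N a :=
    fun a b => by
      rw [← commutatorElement_eq_one_iff_mul_comm, ← map_commutatorElement]
      refine (QuotientGroup.eq_one_iff _).2 ?_
      show ((⁅a, b⁆ : ↥c.TT) : G) ∈ F₀ ⊔ I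
      exact hcs a a.2 b b.2
  let sw : ↥c.TT := ⟨w, img_le_S hw⟩
  let sq : ↥c.TT := ⟨q, c.Q_le_S hq⟩
  have h1 : QuotientGroup.mk' N ((sw * sq) ^ p) = 1 := by
    rw [map_pow, map_mul, (show Commute _ _ from hab sw sq).mul_pow, ← map_pow, ← map_pow]
    have e1 : sw ^ p = 1 := Subtype.ext (img_pow (Two.Un_pow hd' hd T.symm hp2) hw)
    rw [e1, map_one, one_mul]
    exact (QuotientGroup.eq_one_iff _).2 (show q ^ p ∈ F₀ ⊔ I from Subgroup.mem_sup_left (hpow q hq))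
  exact ((QuotientGroup.eq_one_iff ((sw * sq) ^ p)).1 h1 : (((sw * sq) ^ p : ↥c.TT) : G) ∈ F₀ ⊔ I)

end Cfsg.Agent.Lib.PushUpP.Sit
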