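import Cfsg.Agent.Lib.PushUpP.One

/-!
The data of a neighbouring vertex, seen inside `S` through an automorphism of `S`.
-/

set_option autoImplicit false
set_option linter.unusedSectionVars false
set_option linter.style.haveILetI false

open scoped commutatorElement

namespace Cfsg.Agent.Lib.PushUpP.Sit

open Cfsg.Agent.Lib.LAEven57.PushingUp

variable {G : Type*} [Group G] [Finite G] {p : ℕ} [hp : Fact p.Prime] {F : Type} [Field F] [Fintype F]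
variable {c : Sit G p F}
variable {G' : Type*} [Group G'] [Finite G'] {F' : Type} [Field F'] [Fintype F'] {c' : Sit G' p F'}

local notation "Qc" => Cfsg.pCore p G
local notation "Qc'" => Cfsg.pCore p G'

/-- The image of a subgroup of `S` under an automorphism of `S`. -/
def img (φ : ↥c'.TT ≃* ↥c.TT) (A : Subgroup G') : Subgroup G :=
  ((A.subgroupOf c'.TT).map φ.toMonoidHom).map c.TT.subtype

variable {φ : ↥c'.TT ≃* ↥c.TT} {A B : Subgroup G'}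

theorem mem_img {x : G} : x ∈ img φ A ↔ ∃ a : ↥c'.TT, (a : G') ∈ A ∧ (φ a : G) = x := by
  constructor
  · rintro ⟨_, ⟨a, ha, rfl⟩, rfl⟩; exact ⟨a, ha, rfl⟩
  · rintro ⟨a, ha, rfl⟩; exact ⟨φ a, ⟨a, ha, rfl⟩, rfl⟩

theorem apply_mem_img (a : ↥c'.TT) : (φ a : G) ∈ img φ A ↔ (a : G') ∈ A := by
  rw [mem_img]
  refine ⟨fun ⟨b, hb, he⟩ => ?_, fun h => ⟨a, h, rfl⟩⟩
  rwa [φ.injective (Subtype.ext he)] at hb

theorem img_le_S : img φ A ≤ c.TT := Subgroup.map_subtype_le _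

theorem img_mono (h : A ≤ B) : img φ A ≤ img φ B := fun x hx => by
  obtain ⟨a, ha, rfl⟩ := mem_img.1 hx
  exact (apply_mem_img a).2 (h ha)

theorem img_conj [hA : A.Normal] {s x : G} (hs : s ∈ c.TT) (hx : x ∈ img φ A) :
    s * x * s⁻¹ ∈ img φ A := by
  obtain ⟨a, ha, rfl⟩ := mem_img.1 hx
  obtain ⟨b, hb⟩ := φ.surjective ⟨s, hs⟩
  refine mem_img.2 ⟨b * a * b⁻¹, hA.conj_mem _ ha b, ?_⟩
  rw [map_mul, map_mul, map_inv, hb]; rfl

theorem S_le_normalizer_img [A.Normal] : c.TT ≤ Subgroup.normalizer (img φ A : Set G) := fun s hs => by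
  rw [← cj_eq_iff]
  refine Subgroup.eq_of_le_of_card_ge ?_ (card_cj _ _).ge
  rintro _ ⟨x, hx, rfl⟩
  exact img_conj hs hx

theorem card_img (hA : A ≤ c'.TT) : Nat.card ↥(img φ A) = Nat.card ↥A := by
  rw [img, Subgroup.card_map_of_injective c.TT.subtype_injective, Subgroup.card_map_of_injective φ.injective]
  exact Nat.card_congr (Subgroup.subgroupOfEquivOfLe hA).toEquiv

theorem relIndex_img (hA : A ≤ c'.TT) (hB : B ≤ c'.TT) : (img φ A).relIndex (img φ B) = A.relIndex B := by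
  rw [img, img, Subgroup.relIndex_map_map_of_injective _ _ c.TT.subtype_injective,
    Subgroup.relIndex_map_map_of_injective _ _ φ.injective,
    ← Subgroup.relIndex_map_map_of_injective _ _ c'.TT.subtype_injective,
    Subgroup.map_subgroupOf_eq_of_le hA, Subgroup.map_subgroupOf_eq_of_le hB]

theorem img_top : img φ c'.TT = c.TT := by
  refine le_antisymm img_le_S fun s hs => ?_
  obtain ⟨b, hb⟩ := φ.surjective ⟨s, hs⟩
  exact mem_img.2 ⟨b, b.2, by rw [hb]⟩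

theorem Z_map (φ : ↥c'.TT ≃* ↥c.TT) (a : ↥c'.TT) (ha : (a : G') ∈ c'.Z) : (φ a : G) ∈ c.Z := by
  obtain ⟨-, h2, h3⟩ := ha
  refine ⟨(φ a).2, ?_, fun t ht => ?_⟩
  · have : a ^ p = 1 := Subtype.ext h2
    have := congrArg (fun b : ↥c'.TT => ((φ b : ↥c.TT) : G)) this
    simpa using this
  · have h4 : φ.symm ⟨t, ht⟩ * a = a * φ.symm ⟨t, ht⟩ := Subtype.ext (h3 _ (φ.symm ⟨t, ht⟩).2)
    have := congrArg (fun b : ↥c'.TT => ((φ b : ↥c.TT) : G)) h4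
    simpa using this

theorem img_Z (φ : ↥c'.TT ≃* ↥c.TT) : img φ c'.Z = c.Z := by
  refine le_antisymm (fun x hx => ?_) fun x hx => ?_
  · obtain ⟨a, ha, rfl⟩ := mem_img.1 hx
    exact Z_map φ a ha
  · refine mem_img.2 ⟨φ.symm ⟨x, c.Z_le_S hx⟩, Z_map φ.symm ⟨x, c.Z_le_S hx⟩ hx, ?_⟩
    rw [φ.apply_symm_apply]

/-- The commutator in terms of the automorphism. -/
theorem coe_comm (a b : ↥c'.TT) : ((φ ⁅a, b⁆ : ↥c.TT) : G) = ⁅(φ a : G), (φ b : G)⁆ := by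
  rw [map_commutatorElement]; rfl

theorem exists_pre {x : G} (hx : x ∈ c.TT) : ∃ a : ↥c'.TT, (φ a : G) = x :=
  ⟨φ.symm ⟨x, hx⟩, by rw [φ.apply_symm_apply]⟩

theorem img_comm (h : ∀ a ∈ A, ∀ b ∈ B, a * b = b * a) {x y : G} (hx : x ∈ img φ A) (hy : y ∈ img φ B) :
    x * y = y * x := by
  obtain ⟨a, ha, rfl⟩ := mem_img.1 hx
  obtain ⟨b, hb, rfl⟩ := mem_img.1 hy
  rw [← Subgroup.coe_mul, ← Subgroup.coe_mul, ← map_mul, ← map_mul,
    show a * b = b * a from Subtype.ext (h _ ha _ hb)]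

theorem img_pow {e : ℕ} (h : ∀ a ∈ A, a ^ e = 1) {x : G} (hx : x ∈ img φ A) : x ^ e = 1 := by
  obtain ⟨a, ha, rfl⟩ := mem_img.1 hx
  rw [← Subgroup.coe_pow, ← map_pow, show a ^ e = 1 from Subtype.ext (h _ ha), map_one]; rfl

theorem img_comm_le {C : Subgroup G'} (h : ∀ a ∈ A, ∀ b ∈ B, ⁅a, b⁆ ∈ C) {x y : G} (hx : x ∈ img φ A)
    (hy : y ∈ img φ B) : ⁅x, y⁆ ∈ img φ C := by
  obtain ⟨a, ha, rfl⟩ := mem_img.1 hx
  obtain ⟨b, hb, rfl⟩ := mem_img.1 hy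
  rw [← coe_comm]
  exact (apply_mem_img _).2 (h _ ha _ hb)

variable (hd' : c'.Good)
include hd'

theorem img_fix {t b : G} (ht : t ∈ c.TT) (htQ : t ∉ img φ Qc') (hb : b ∈ img φ c'.V) (h : t * b = b * t) :
    b ∈ c.Z := by
  obtain ⟨s, rfl⟩ := exists_pre (φ := φ) ht
  obtain ⟨v, hv, rfl⟩ := mem_img.1 hb
  refine Z_map φ v (c'.V_fix_eq hd' s.2 (fun hs => htQ ((apply_mem_img s).2 hs)) hv ?_)
  exact congrArg Subtype.val (φ.injective (Subtype.ext (by simpa using h) : φ (s * v) = φ (v * s)))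

theorem img_comm_mem {t b : G} (ht : t ∈ c.TT) (hb : b ∈ img φ c'.V) : ⁅b, t⁆ ∈ c.Z := by
  obtain ⟨s, rfl⟩ := exists_pre (φ := φ) ht
  obtain ⟨v, hv, rfl⟩ := mem_img.1 hb
  rw [← coe_comm]
  exact Z_map φ _ (c'.V_comm_mem hd' s.2 hv)

theorem img_comm_not_mem {t b : G} (ht : t ∈ c.TT) (htQ : t ∉ img φ Qc') (hb : b ∈ img φ c'.V) (hbZ : b ∉ c.Z) :
    ⁅b, t⁆ ∉ img φ c'.C₀ := by
  obtain ⟨s, rfl⟩ := exists_pre (φ := φ) ht
  obtain ⟨v, hv, rfl⟩ := mem_img.1 hb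
  rw [← coe_comm, apply_mem_img]
  exact c'.V_comm_not_mem hd' s.2 (fun hs => htQ ((apply_mem_img s).2 hs)) hv
    fun hvZ => hbZ (Z_map φ v hvZ)

theorem mem_img_Q {t : G} (ht : t ∈ c.TT) (h : ∀ b ∈ img φ c'.V, t * b = b * t) : t ∈ img φ Qc' := by
  obtain ⟨s, rfl⟩ := exists_pre (φ := φ) ht
  rw [apply_mem_img, c'.mem_Q s.2]
  refine c'.cent_V_le hd' (Subgroup.mem_centralizer_iff.2 fun v hv => ?_)
  have h1 := h _ ((apply_mem_img ⟨v, c'.V_le_S hv⟩).2 hv)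
  exact (congrArg Subtype.val (φ.injective (Subtype.ext (by simpa using h1) :
    φ (s * ⟨v, c'.V_le_S hv⟩) = φ (⟨v, c'.V_le_S hv⟩ * s)))).symm

end Cfsg.Agent.Lib.PushUpP.Sit
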