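import Cfsg.Agent.Lib.PushUpP.Psl
import Cfsg.Agent.Lib.LAEven65.RankOneL2
import Mathlib.GroupTheory.SemidirectProduct
import Mathlib.Tactic.Group

/-!
Modules for rank one groups with fixed points of the Sylow subgroup of index at most `q`:
quadratic action, the partition by the conjugates of the fixed points, irreducibility.
-/

set_option autoImplicit false
set_option linter.unusedSectionVars false
set_option linter.style.haveILetI false

open scoped commutatorElement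

namespace Cfsg.Agent.Lib.PushUpP

open Cfsg.Agent.Lib.LAEven57.PushingUp

theorem conj_eq_comm_mul {G : Type*} [Group G] (s v : G) : s * v * s⁻¹ = ⁅s, v⁆ * v := by
  rw [commutatorElement_def]; group

theorem pow_conj_of_fix {G : Type*} [Group G] {y v z : G} (h : y * v * y⁻¹ = z * v) (hz : y * z = z * y)
    (i : ℕ) : y ^ i * v * (y ^ i)⁻¹ = z ^ i * v := by
  induction i with
  | zero => simp
  | succ i ih =>
    have hc : y ^ i * z = z * y ^ i := (Commute.pow_left hz i).eq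
    calc y ^ (i + 1) * v * (y ^ (i + 1))⁻¹ = y ^ i * (y * v * y⁻¹) * (y ^ i)⁻¹ := by group
      _ = (y ^ i * z) * v * (y ^ i)⁻¹ := by rw [h]; group
      _ = z * (y ^ i * v * (y ^ i)⁻¹) := by rw [hc]; group
      _ = z ^ (i + 1) * v := by rw [ih, ← mul_assoc, ← pow_succ']

variable {H : Type*} [Group H] [Finite H] {p : ℕ} [hp : Fact p.Prime] {F : Type} [Field F] [Fintype F]

/-- The centralizer index of an element moving `PSL₂(q)` on a module is at least `q`. -/
theorem bound {V : Subgroup H} [hn' : V.Normal] (hV : Cfsg.IsElementaryAbelian p V) (π : H →* PSL2 F)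
    (hπ : Function.Surjective π) (hC : Subgroup.centralizer (V : Set H) ≤ π.ker) {n : ℕ}
    (hF : Fintype.card F = p ^ n) {a : H} (ha : π a ≠ 1) (hap : ∃ k, a ^ p ^ k = 1) :
    p ^ n ≤ (V ⊓ Subgroup.centralizer ({a} : Set H)).relIndex V := by
  have hVp : IsPGroup p ↥V := Cfsg.Agent.Lib.PGroups.elemAb_isPGroup hV
  rcases Nat.lt_or_ge n 2 with hn | hn
  · obtain ⟨j, hj⟩ := hVp.index ((V ⊓ Subgroup.centralizer ({a} : Set H)).subgroupOf V)
    have hj' : (V ⊓ Subgroup.centralizer ({a} : Set H)).relIndex V = p ^ j := hj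
    rw [hj']
    rcases Nat.eq_zero_or_pos j with rfl | hj0
    · refine absurd (hC (Subgroup.mem_centralizer_iff.2 fun v hv => ?_)) ha
      have h1 : v ∈ V ⊓ Subgroup.centralizer ({a} : Set H) := Subgroup.relIndex_eq_one.1 (by rw [hj', pow_zero]) hv
      exact Subgroup.mem_centralizer_singleton_iff.1 h1.2
    · exact Nat.pow_le_pow_right hp.out.pos (by omega)
  -- the semidirect product with the induced group of automorphisms
  let α : H →* MulAut ↥V := MulAut.conjNormal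
  have hαv : ∀ (h : H) (v : ↥V), ((α h v : ↥V) : H) = h * v * h⁻¹ := fun h v => MulAut.conjNormal_apply h v
  let φ : ↥α.range →* MulAut ↥V := α.range.subtype
  haveI : Finite ↥α.range := Finite.of_surjective _ α.rangeRestrict_surjective
  haveI : Finite (↥V ⋊[φ] ↥α.range) := Finite.of_equiv _ SemidirectProduct.equivProd.symm
  have hker : α.rangeRestrict.ker ≤ π.ker := by
    intro h hh
    refine hC (Subgroup.mem_centralizer_iff.2 fun v hv => ?_)
    have h1 : α h = 1 := congrArg Subtype.val hh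
    have h2 := hαv h ⟨v, hv⟩
    rw [h1] at h2
    exact (mul_inv_eq_iff_eq_mul.1 h2.symm).symm
  let π' : ↥α.range →* PSL2 F :=
    α.rangeRestrict.liftOfSurjective α.rangeRestrict_surjective ⟨π, hker⟩
  have hπ' : ∀ h, π' (α.rangeRestrict h) = π h := fun h =>
    MonoidHom.liftOfRightInverse_comp_apply _ _ _ ⟨π, hker⟩ h
  let j : ↥V →* ↥V ⋊[φ] ↥α.range := SemidirectProduct.inl
  have hjinj : Function.Injective j := SemidirectProduct.inl_injective
  let H0 : Subgroup (↥V ⋊[φ] ↥α.range) := SemidirectProduct.inr.range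
  have hE : Cfsg.IsElementaryAbelian p j.range := by
    refine ⟨⟨⟨fun x y => ?_⟩⟩, ?_⟩
    · obtain ⟨u, hu⟩ := x.2
      obtain ⟨v, hv⟩ := y.2
      apply Subtype.ext
      show (x : ↥V ⋊[φ] ↥α.range) * y = y * x
      rw [← hu, ← hv, ← map_mul, ← map_mul, hV.1.is_comm.comm]
    · rintro _ ⟨u, rfl⟩
      rw [← map_pow, show u ^ p = 1 from Subtype.ext (hV.2 u u.2), map_one]
  have hnorm : H0 ≤ Subgroup.normalizer (j.range : Set (↥V ⋊[φ] ↥α.range)) := by
    rintro _ ⟨h, rfl⟩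
    rw [← cj_eq_iff]
    refine Subgroup.eq_of_le_of_card_ge ?_ (card_cj _ _).ge
    rintro _ ⟨_, ⟨v, rfl⟩, rfl⟩
    refine ⟨φ h v, ?_⟩
    show j (φ h v) = SemidirectProduct.inr h * j v * (SemidirectProduct.inr h)⁻¹
    rw [← map_inv]
    exact SemidirectProduct.inl_aut h v
  have hfix : ∀ (h : ↥α.range) (v : ↥V), j v * SemidirectProduct.inr h = SemidirectProduct.inr h * j v ↔ φ h v = v := by
    intro h v
    have h1 : j (φ h v) = SemidirectProduct.inr h * j v * SemidirectProduct.inr h⁻¹ :=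
      SemidirectProduct.inl_aut h v
    constructor
    · intro he
      refine hjinj ?_
      rw [h1, ← he, mul_assoc, ← map_mul, mul_inv_cancel, map_one, mul_one]
    · intro he
      rw [he] at h1
      conv_lhs => rw [h1]
      rw [mul_assoc, ← map_mul, inv_mul_cancel, map_one, mul_one]
  have hfaith : H0 ⊓ Subgroup.centralizer (j.range : Set (↥V ⋊[φ] ↥α.range)) = ⊥ := by
    refine le_bot_iff.1 ?_
    rintro _ ⟨⟨h, rfl⟩, hc⟩
    have h1 : h = 1 := Subtype.ext (MulEquiv.ext fun v =>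
      (hfix h v).1 (Subgroup.mem_centralizer_iff.1 hc _ ⟨v, rfl⟩))
    rw [Subgroup.mem_bot, h1, map_one]
  let π0 : ↥H0 →* PSL2 F := π'.comp (SemidirectProduct.rightHom.comp H0.subtype)
  have hπ0 : Function.Surjective π0 := by
    intro x
    obtain ⟨h, rfl⟩ := hπ x
    refine ⟨⟨SemidirectProduct.inr (φ := φ) (α.rangeRestrict h), _, rfl⟩, ?_⟩
    show π' (SemidirectProduct.rightHom (SemidirectProduct.inr (φ := φ) (α.rangeRestrict h))) = π h
    rw [SemidirectProduct.rightHom_inr, hπ']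
  let s : ↥H0 := ⟨SemidirectProduct.inr (φ := φ) (α.rangeRestrict a), _, rfl⟩
  have hs : π0 s ≠ 1 := by
    show π' (SemidirectProduct.rightHom (SemidirectProduct.inr (φ := φ) (α.rangeRestrict a))) ≠ 1
    rw [SemidirectProduct.rightHom_inr, hπ']
    exact ha
  have hsp : IsPGroup p ↥(Subgroup.zpowers s) := by
    obtain ⟨k, hk⟩ := hap
    intro x
    obtain ⟨i, hi⟩ := x.2
    refine ⟨k, Subtype.ext ?_⟩
    show (x : ↥H0) ^ p ^ k = 1
    have h1 : s ^ p ^ k = 1 := Subtype.ext (by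
      show (SemidirectProduct.inr (φ := φ) (α.rangeRestrict a)) ^ p ^ k = 1
      rw [← map_pow, ← map_pow, hk, map_one, map_one])
    rw [← hi, ← zpow_natCast, ← zpow_mul, mul_comm, zpow_mul, zpow_natCast, h1, one_zpow]
  have hmain := (LAEven65.RankOneL2.rankOne_bound hE hnorm hfaith hn hF π0 hπ0 hs hsp).1
  set X := (V ⊓ Subgroup.centralizer ({a} : Set H)).subgroupOf V
  have hX : X.map j = j.range ⊓ Subgroup.centralizer ({(s : ↥V ⋊[φ] ↥α.range)} : Set _) := by
    ext w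
    constructor
    · rintro ⟨v, hv, rfl⟩
      refine ⟨⟨v, rfl⟩, Subgroup.mem_centralizer_singleton_iff.2 ((hfix _ v).2 (Subtype.ext ?_))⟩
      show ((α a v : ↥V) : H) = v
      rw [hαv]
      exact mul_inv_eq_iff_eq_mul.2 (Subgroup.mem_centralizer_singleton_iff.1 hv.2).symm
    · rintro ⟨⟨v, rfl⟩, hc⟩
      refine ⟨v, ⟨v.2, Subgroup.mem_centralizer_singleton_iff.2 ?_⟩, rfl⟩
      have h1 : ((α a v : ↥V) : H) = v :=
        congrArg Subtype.val ((hfix _ v).1 (Subgroup.mem_centralizer_singleton_iff.1 hc))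
      rw [hαv] at h1
      exact (mul_inv_eq_iff_eq_mul.1 h1).symm
  rw [← hX, MonoidHom.range_eq_map j, Subgroup.relIndex_map_map_of_injective _ _ hjinj,
    Subgroup.relIndex_top_right] at hmain
  exact hmain

/-- A module with small fixed points for a Sylow subgroup. -/
structure Mod (H : Type*) [Group H] (p : ℕ) (F : Type) [Field F] [Fintype F] where
  V : Subgroup H
  S : Subgroup H
  π : H →* PSL2 F
  n : ℕ
  hn : 1 ≤ n
  hF : Fintype.card F = p ^ n
  normal : V.Normal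
  elem : Cfsg.IsElementaryAbelian p V
  surj : Function.Surjective π
  map_S : S.map π = U F
  S_p : IsPGroup p ↥S
  gen : ∀ x : H, π x ∉ Subgroup.normalizer (U F : Set (PSL2 F)) → S ⊔ cj x S = ⊤
  S_ker : ∀ s ∈ S, π s = 1 → s ∈ Subgroup.centralizer (V : Set H)
  cent_le : Subgroup.centralizer (V : Set H) ≤ π.ker
  ker_pow : ∀ y ∈ π.ker, y ^ p ∈ Subgroup.centralizer (V : Set H) → y ∈ Subgroup.centralizer (V : Set H)
  small : (V ⊓ Subgroup.centralizer (S : Set H)).relIndex V ≤ p ^ n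

namespace Mod

variable (c : Mod H p F)

/-- The fixed points of `S`. -/
def D : Subgroup H := c.V ⊓ Subgroup.centralizer (c.S : Set H)

/-- The fixed points of `H`. -/
def C : Subgroup H := c.V ⊓ Subgroup.center H

theorem C_le_D : c.C ≤ c.D := fun _ hz => ⟨hz.1, Subgroup.center_le_centralizer _ hz.2⟩

theorem V_comm {u v : H} (hu : u ∈ c.V) (hv : v ∈ c.V) : u * v = v * u :=
  congrArg Subtype.val (c.elem.1.is_comm.comm ⟨u, hu⟩ ⟨v, hv⟩)

theorem V_pow {u : H} (hu : u ∈ c.V) : u ^ p = 1 := c.elem.2 u hu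

theorem conj_mem {v : H} (hv : v ∈ c.V) (g : H) : g * v * g⁻¹ ∈ c.V := c.normal.conj_mem v hv g

theorem D_conj {s d : H} (hs : s ∈ c.S) (hd : d ∈ c.D) : s * d * s⁻¹ = d := by
  rw [Subgroup.mem_centralizer_iff.1 hd.2 s hs, mul_inv_cancel_right]

theorem comm_S {a b v : H} (ha : a ∈ c.S) (hb : b ∈ c.S) (hv : v ∈ c.V) :
    a * b * v * (a * b)⁻¹ = b * a * v * (b * a)⁻¹ := by
  have h1 : (b * a)⁻¹ * (a * b) ∈ Subgroup.centralizer (c.V : Set H) := by
    refine c.S_ker _ (mul_mem (inv_mem (mul_mem hb ha)) (mul_mem ha hb)) ?_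
    have hU : ∀ s ∈ c.S, c.π s ∈ U F := fun s hs => by
      rw [← c.map_S]; exact Subgroup.mem_map_of_mem _ hs
    rw [map_mul, map_inv, map_mul, map_mul, U_comm (hU b hb) (hU a ha), inv_mul_cancel]
  have h2 := Subgroup.mem_centralizer_iff.1 h1 v hv
  calc a * b * v * (a * b)⁻¹ = b * a * ((b * a)⁻¹ * (a * b) * v) * (a * b)⁻¹ := by group
    _ = b * a * v * (b * a)⁻¹ := by rw [← h2]; group

theorem exists_out : ∃ t ∈ c.S, c.π t ≠ 1 := by
  by_contra h
  push Not at h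
  have h1 : uHom F (Multiplicative.ofAdd 1) ∈ c.S.map c.π := c.map_S.symm ▸ ⟨_, rfl⟩
  obtain ⟨t, ht, he⟩ := h1
  rw [h t ht] at he
  exact one_ne_zero (α := F) (Multiplicative.ofAdd.injective (uHom_injective (he.symm.trans (map_one _).symm)))

theorem bound_fix {t : H} (ht : t ∈ c.S) (ht1 : c.π t ≠ 1) :
    p ^ c.n ≤ (c.V ⊓ Subgroup.centralizer ({t} : Set H)).relIndex c.V := by
  haveI := c.normal
  obtain ⟨k, hk⟩ := c.S_p ⟨t, ht⟩
  exact bound c.elem c.π c.surj c.cent_le c.hF ht1 ⟨k, congrArg Subtype.val hk⟩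

theorem D_le_fix {t : H} (ht : t ∈ c.S) : c.D ≤ c.V ⊓ Subgroup.centralizer ({t} : Set H) :=
  fun _ hd => ⟨hd.1, Subgroup.mem_centralizer_singleton_iff.2 (Subgroup.mem_centralizer_iff.1 hd.2 t ht).symm⟩

theorem D_index : c.D.relIndex c.V = p ^ c.n := by
  obtain ⟨t, ht, ht1⟩ := c.exists_out
  exact le_antisymm c.small ((c.bound_fix ht ht1).trans
    (Subgroup.relIndex_le_of_le_left (c.D_le_fix ht) Subgroup.index_ne_zero_of_finite))

theorem fix_eq {t : H} (ht : t ∈ c.S) (ht1 : c.π t ≠ 1) {v : H} (hv : v ∈ c.V) (hc : t * v = v * t) :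
    v ∈ c.D := by
  refine Subgroup.relIndex_eq_one.1 ?_ (show v ∈ c.V ⊓ Subgroup.centralizer ({t} : Set H) from
    ⟨hv, Subgroup.mem_centralizer_singleton_iff.2 hc.symm⟩)
  have h := Subgroup.relIndex_mul_relIndex c.D _ c.V (c.D_le_fix ht) inf_le_left
  rw [c.D_index] at h
  have h1 := c.bound_fix ht ht1
  have hpos : 0 < c.D.relIndex (c.V ⊓ Subgroup.centralizer ({t} : Set H)) :=
    Nat.pos_of_ne_zero Subgroup.index_ne_zero_of_finite
  nlinarith [pow_pos hp.out.pos c.n]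

theorem comm_mem {v s : H} (hv : v ∈ c.V) (hs : s ∈ c.S) : ⁅v, s⁆ ∈ c.D := by
  classical
  haveI := c.normal
  have hvs : ∀ a ∈ c.S, ⁅v, a⁆ ∈ c.V := fun a _ => by
    rw [show ⁅v, a⁆ = v * (a * v⁻¹ * a⁻¹) by rw [commutatorElement_def]; group]
    exact mul_mem hv (c.conj_mem (inv_mem hv) a)
  by_cases hex : ∃ b ∈ c.S, c.π b ≠ 1 ∧ ⁅b, v⁆ ∈ c.D
  · obtain ⟨b, hb, hb1, hz⟩ := hex
    refine c.fix_eq hb hb1 (hvs s hs) (mul_inv_eq_iff_eq_mul.1 ?_)
    set z := ⁅b, v⁆ with hzdef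
    have e1 : b * v * b⁻¹ = z * v := conj_eq_comm_mul b v
    have e2 : s * z * s⁻¹ = z := c.D_conj hs hz
    have e3 : s * b * v⁻¹ * (s * b)⁻¹ = b * s * v⁻¹ * (b * s)⁻¹ := c.comm_S hs hb (inv_mem hv)
    have hsv : s * v⁻¹ * s⁻¹ ∈ c.V := c.conj_mem (inv_mem hv) s
    calc b * ⁅v, s⁆ * b⁻¹ = (b * v * b⁻¹) * (b * s * v⁻¹ * (b * s)⁻¹) := by
          rw [commutatorElement_def]; group
      _ = (b * v * b⁻¹) * (s * (b * v * b⁻¹)⁻¹ * s⁻¹) := by rw [← e3]; group
      _ = z * (v * (s * v⁻¹ * s⁻¹)) * (s * z * s⁻¹)⁻¹ := by rw [e1]; group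
      _ = ⁅v, s⁆ := by
        rw [e2, c.V_comm hz.1 (mul_mem hv hsv), mul_inv_cancel_right, commutatorElement_def]; group
  · exfalso
    push Not at hex
    have hnv : v ∉ c.D := fun h => by
      obtain ⟨t, ht, ht1⟩ := c.exists_out
      refine hex t ht ht1 ?_
      rw [commutatorElement_def, c.D_conj ht h, mul_inv_cancel]
      exact one_mem _
    haveI : Finite ↥c.V := inferInstance
    have hlift : ∀ u : ↥(U F), ∃ a ∈ c.S, c.π a = u := fun u => by
      have h := u.2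
      simp only [← c.map_S] at h
      exact h
    choose a ha hπa using hlift
    let g : ↥(U F) → ↥c.V ⧸ c.D.subgroupOf c.V := fun u =>
      (QuotientGroup.mk (⟨a u * v * (a u)⁻¹, c.conj_mem hv _⟩ : ↥c.V))
    have hg : Function.Injective g := by
      intro u u' h
      by_contra hne
      set b := (a u)⁻¹ * a u' with hbdef
      have hb : b ∈ c.S := mul_mem (inv_mem (ha u)) (ha u')
      have hb1 : c.π b ≠ 1 := fun h1 => by
        rw [map_mul, map_inv, hπa, hπa, inv_mul_eq_one] at h1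
        exact hne (Subtype.ext h1)
      refine hex b hb hb1 ?_
      have h2 : (a u * v * (a u)⁻¹)⁻¹ * (a u' * v * (a u')⁻¹) ∈ c.D :=
        Subgroup.mem_subgroupOf.1 (QuotientGroup.eq.1 h)
      have h3 : a u * (v⁻¹ * (b * v * b⁻¹)) * (a u)⁻¹ ∈ c.D := by
        rw [hbdef]; simpa [mul_assoc] using h2
      have h4 : v⁻¹ * (b * v * b⁻¹) ∈ c.D := by
        have h5 := c.D_conj (inv_mem (ha u)) h3
        have h6 : (a u)⁻¹ * (a u * (v⁻¹ * (b * v * b⁻¹)) * (a u)⁻¹) * ((a u)⁻¹)⁻¹ = v⁻¹ * (b * v * b⁻¹) := by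
          group
        rw [h6] at h5
        rw [h5]; exact h3
      rwa [c.V_comm (inv_mem hv) (c.conj_mem hv b), ← commutatorElement_def] at h4
    have hcard : Nat.card (↥c.V ⧸ c.D.subgroupOf c.V) ≤ Nat.card ↥(U F) := by
      rw [card_U (F := F) c.hF]
      exact c.D_index.le
    obtain ⟨u, hu⟩ := (hg.bijective_of_nat_card_le hcard).2 (QuotientGroup.mk (1 : ↥c.V))
    have h1 : a u * v * (a u)⁻¹ ∈ c.D :=
      by
        have := Subgroup.mem_subgroupOf.1 (QuotientGroup.eq.1 hu.symm)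
        simpa using this
    have h5 := c.D_conj (inv_mem (ha u)) h1
    exact hnv (by
      have h6 : (a u)⁻¹ * (a u * v * (a u)⁻¹) * ((a u)⁻¹)⁻¹ = v := by group
      rw [h6] at h5
      rw [h5]; exact h1)

theorem conj_mem_mul_D {v s : H} (hv : v ∈ c.V) (hs : s ∈ c.S) : ⁅s, v⁆ ∈ c.D := by
  rw [← commutatorElement_inv]; exact inv_mem (c.comm_mem hv hs)

/-- The subgroup of `H` acting trivially modulo `C` lies in the kernel. -/
theorem central_le_ker {Y : Subgroup H} [Y.Normal]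
    (hY : ∀ y ∈ Y, ∀ v ∈ c.V, ∃ z ∈ c.C, y * v * y⁻¹ = z * v) : Y ≤ c.π.ker := by
  rw [← Subgroup.map_eq_bot_iff, eq_bot_iff, ← pCore_psl (F := F) (p := p) c.hF]
  haveI : (Y.map c.π).Normal := Subgroup.Normal.map inferInstance _ c.surj
  refine Cores.le_pCore fun x => ?_
  obtain ⟨y, hy, hyx⟩ := x.2
  refine ⟨1, Subtype.ext ?_⟩
  show (x : PSL2 F) ^ p ^ 1 = 1
  rw [pow_one, ← hyx, ← map_pow]
  refine c.cent_le (Subgroup.mem_centralizer_iff.2 fun v hv => ?_)
  obtain ⟨z, hz, hzv⟩ := hY y hy v hv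
  have h := pow_conj_of_fix hzv (Subgroup.mem_center_iff.1 hz.2 y) p
  rw [c.V_pow hz.1, one_mul, mul_inv_eq_iff_eq_mul] at h
  exact h.symm

theorem comm_not_mem {t : H} (ht : t ∈ c.S) (ht1 : c.π t ≠ 1) {v : H} (hv : v ∈ c.V) (hvD : v ∉ c.D) :
    ⁅v, t⁆ ∉ c.C := by
  intro hin
  haveI := c.normal
  haveI hCn : c.C.Normal := ⟨fun z hz g => by
    rw [Subgroup.mem_center_iff.1 hz.2 g, mul_inv_cancel_right]; exact hz⟩
  let f : H →* H ⧸ c.C := QuotientGroup.mk' c.C
  have hfs : Function.Surjective f := QuotientGroup.mk'_surjective _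
  have hCker : c.C ≤ c.π.ker := fun z hz => c.cent_le (Subgroup.mem_centralizer_iff.2 fun w hw =>
    c.V_comm hw hz.1)
  let π₁ : H ⧸ c.C →* PSL2 F := QuotientGroup.lift c.C c.π hCker
  haveI : (c.V.map f).Normal := Subgroup.Normal.map inferInstance _ hfs
  have hE : Cfsg.IsElementaryAbelian p (c.V.map f) := by
    refine ⟨⟨⟨fun x y => ?_⟩⟩, ?_⟩
    · obtain ⟨u, hu, hux⟩ := x.2
      obtain ⟨w, hw, hwy⟩ := y.2
      apply Subtype.ext
      show (x : H ⧸ c.C) * y = y * x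
      rw [← hux, ← hwy, ← map_mul, ← map_mul, c.V_comm hu hw]
    · rintro _ ⟨u, hu, rfl⟩
      rw [← map_pow, c.V_pow hu, map_one]
  have hC1 : Subgroup.centralizer ((c.V.map f : Subgroup (H ⧸ c.C)) : Set (H ⧸ c.C)) ≤ π₁.ker := by
    intro x hx
    obtain ⟨y, rfl⟩ := hfs x
    show c.π y = 1
    refine (c.central_le_ker
      (Y := (Subgroup.centralizer ((c.V.map f : Subgroup (H ⧸ c.C)) : Set (H ⧸ c.C))).comap f) ?_) hx
    intro w hw u hu
    refine ⟨⁅w, u⁆, (QuotientGroup.eq_one_iff _).1 ?_, conj_eq_comm_mul w u⟩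
    show f ⁅w, u⁆ = 1
    rw [map_commutatorElement, commutatorElement_eq_one_iff_mul_comm]
    exact (Subgroup.mem_centralizer_iff.1 hw _ (Subgroup.mem_map_of_mem _ hu)).symm
  obtain ⟨k, hk⟩ := c.S_p ⟨t, ht⟩
  have hk' : f t ^ p ^ k = 1 := by
    rw [← map_pow, show t ^ p ^ k = 1 from congrArg Subtype.val hk, map_one]
  have hb := bound hE π₁ (fun x => (c.surj x).elim fun y hy => ⟨f y, hy⟩) hC1 c.hF (a := f t)
    (by exact ht1) ⟨k, hk'⟩
  -- the preimage of the fixed points of `t`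
  set E := c.V ⊓ (Subgroup.centralizer ({f t} : Set (H ⧸ c.C))).comap f with hEdef
  have hidx : E.relIndex c.V = (c.V.map f ⊓ Subgroup.centralizer ({f t} : Set (H ⧸ c.C))).relIndex (c.V.map f) := by
    rw [hEdef, Subgroup.inf_relIndex_left, Subgroup.inf_relIndex_left, Subgroup.relIndex_comap]
  rw [← hidx] at hb
  have hDE : c.D ≤ E := fun d hd => ⟨hd.1, Subgroup.mem_centralizer_singleton_iff.2 (by
    rw [← map_mul, ← map_mul, Subgroup.mem_centralizer_iff.1 hd.2 t ht])⟩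
  have hvE : v ∈ E := ⟨hv, Subgroup.mem_centralizer_singleton_iff.2 (by
    rw [← commutatorElement_eq_one_iff_mul_comm, ← map_commutatorElement]
    exact (QuotientGroup.eq_one_iff _).2 hin)⟩
  refine hvD (Subgroup.relIndex_eq_one.1 ?_ hvE)
  have h := Subgroup.relIndex_mul_relIndex c.D E c.V hDE inf_le_left
  rw [c.D_index] at h
  have hpos : 0 < c.D.relIndex E := Nat.pos_of_ne_zero Subgroup.index_ne_zero_of_finite
  nlinarith [pow_pos hp.out.pos c.n]

variable {x : H} (hx : c.π x ∉ Subgroup.normalizer (U F : Set (PSL2 F)))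
include hx

theorem D_inf : c.D ⊓ cj x c.D = c.C := by
  haveI := c.normal
  refine le_antisymm ?_ (le_inf c.C_le_D ?_)
  · intro z hz
    refine ⟨hz.1.1, Subgroup.mem_center_iff.2 fun g => ?_⟩
    have hle : c.S ⊔ cj x c.S ≤ Subgroup.centralizer ({z} : Set H) := by
      refine sup_le (fun s hs => Subgroup.mem_centralizer_singleton_iff.2 ?_) ?_
      · exact Subgroup.mem_centralizer_iff.1 hz.1.2 s hs
      · rintro _ ⟨s, hs, rfl⟩
        obtain ⟨d, hd, hdz⟩ := hz.2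
        refine Subgroup.mem_centralizer_singleton_iff.2 ?_
        rw [← hdz, ← map_mul, ← map_mul]
        exact congrArg _ (Subgroup.mem_centralizer_iff.1 hd.2 s hs)
    exact Subgroup.mem_centralizer_singleton_iff.1 (hle (c.gen x hx ▸ Subgroup.mem_top g))
  · intro z hz
    refine mem_cj.2 ?_
    rw [mul_assoc, ← Subgroup.mem_center_iff.1 hz.2 x, inv_mul_cancel_left]
    exact c.C_le_D hz

/-- The map `S → D / C` given by a vector is injective. -/
theorem C_index_ge : p ^ c.n ≤ c.C.relIndex c.D := by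
  classical
  haveI := c.normal
  obtain ⟨v, hv, hvD⟩ : ∃ v ∈ c.V, v ∉ c.D := by
    by_contra h
    push Not at h
    have h1 := c.D_index
    rw [Subgroup.relIndex_eq_one.2 h] at h1
    exact (Nat.one_lt_pow (by have := c.hn; omega) hp.out.one_lt).ne h1
  have hlift : ∀ u : ↥(U F), ∃ a ∈ c.S, c.π a = u := fun u => by
    have h := u.2
    simp only [← c.map_S] at h
    exact h
  choose a ha hπa using hlift
  let g : ↥(U F) → ↥c.D ⧸ c.C.subgroupOf c.D := fun u =>
    QuotientGroup.mk (⟨⁅v, a u⁆, c.comm_mem hv (ha u)⟩ : ↥c.D)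
  have hg : Function.Injective g := by
    intro u u' h
    by_contra hne
    set b := (a u)⁻¹ * a u' with hbdef
    have hb : b ∈ c.S := mul_mem (inv_mem (ha u)) (ha u')
    have hb1 : c.π b ≠ 1 := fun h1 => by
      rw [map_mul, map_inv, hπa, hπa, inv_mul_eq_one] at h1
      exact hne (Subtype.ext h1)
    refine c.comm_not_mem hb hb1 hv hvD ?_
    have h2 : ⁅v, a u⁆⁻¹ * ⁅v, a u'⁆ ∈ c.C := Subgroup.mem_subgroupOf.1 (QuotientGroup.eq.1 h)
    have h3 : ⁅v, a u'⁆ = ⁅v, a u⁆ * ⁅v, b⁆ := by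
      rw [← c.D_conj (ha u) (c.comm_mem hv hb)]
      simp only [hbdef, commutatorElement_def]; group
    rwa [h3, inv_mul_cancel_left] at h2
  have := Nat.card_le_card_of_injective g hg
  rwa [card_U (F := F) c.hF] at this

theorem C_index : c.C.relIndex c.D = p ^ c.n := by
  refine le_antisymm ?_ (c.C_index_ge hx)
  haveI := c.normal
  rw [← c.D_inf hx, Subgroup.inf_relIndex_left]
  refine (Subgroup.relIndex_le_of_le_right (inf_le_left : c.D ≤ c.V) Subgroup.index_ne_zero_of_finite).trans ?_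
  rw [← cj_eq_of_normal x c.V, relIndex_cj, c.D_index]

theorem sup_eq : c.D ⊔ cj x c.D = c.V := by
  haveI := c.normal
  have hxV : cj x c.D ≤ c.V := (cj_mono x inf_le_left).trans_eq (cj_eq_of_normal x c.V)
  refine le_antisymm (sup_le inf_le_left hxV) (Subgroup.relIndex_eq_one.1 ?_)
  have hle : c.D ⊔ cj x c.D ≤ c.V := sup_le inf_le_left hxV
  have hn : c.D ≤ Subgroup.normalizer (cj x c.D : Set H) := fun d hd => by
    rw [← cj_eq_iff]
    refine Subgroup.eq_of_le_of_card_ge ?_ (card_cj _ _).ge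
    rintro _ ⟨w, hw, rfl⟩
    show d * w * d⁻¹ ∈ cj x c.D
    rw [c.V_comm hd.1 (hxV hw), mul_inv_cancel_right]
    exact hw
  have h1 := Subgroup.relIndex_mul_relIndex (cj x c.D) (c.D ⊔ cj x c.D) c.V le_sup_right hle
  have h2 : (cj x c.D).relIndex (c.D ⊔ cj x c.D) = p ^ c.n := by
    have : (cj x c.D).relIndex (c.D ⊔ cj x c.D) = (cj x c.D).relIndex c.D := by
      haveI : ((cj x c.D).subgroupOf c.V).Normal := ⟨fun u hu g => by
        have h4 : g * u * g⁻¹ = u := Subtype.ext (by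
          show (g : H) * u * (g : H)⁻¹ = u
          rw [c.V_comm g.2 u.2, mul_inv_cancel_right])
        rw [h4]; exact hu⟩
      rw [← Subgroup.relIndex_subgroupOf hle, Subgroup.subgroupOf_sup (show c.D ≤ c.V from inf_le_left) hxV,
        Subgroup.relIndex_sup_right, Subgroup.relIndex_subgroupOf (show c.D ≤ c.V from inf_le_left)]
    rw [this, ← Subgroup.inf_relIndex_left, c.D_inf hx, c.C_index hx]
  have h3 : (cj x c.D).relIndex c.V = p ^ c.n := by
    rw [← cj_eq_of_normal x c.V, relIndex_cj, c.D_index]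
  rw [h2, h3] at h1
  exact Nat.eq_of_mul_eq_mul_left (pow_pos hp.out.pos c.n) (h1.trans (mul_one _).symm)

omit hx in
theorem comm_mul {v a b : H} (hv : v ∈ c.V) (ha : a ∈ c.S) (hb : b ∈ c.S) :
    ⁅v, a * b⁆ = ⁅v, a⁆ * ⁅v, b⁆ := by
  conv_rhs => rw [← c.D_conj ha (c.comm_mem hv hb)]
  simp only [commutatorElement_def]; group

/-- Every element of `D` is a commutator modulo `C`. -/
theorem comm_surj {v : H} (hv : v ∈ c.V) (hvD : v ∉ c.D) {d : H} (hd : d ∈ c.D) :
    ∃ a ∈ c.S, ⁅v, a⁆⁻¹ * d ∈ c.C := by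
  classical
  have hlift : ∀ u : ↥(U F), ∃ a ∈ c.S, c.π a = u := fun u => by
    have h := u.2
    simp only [← c.map_S] at h
    exact h
  choose a ha hπa using hlift
  let g : ↥(U F) → ↥c.D ⧸ c.C.subgroupOf c.D := fun u =>
    QuotientGroup.mk (⟨⁅v, a u⁆, c.comm_mem hv (ha u)⟩ : ↥c.D)
  have hg : Function.Injective g := by
    intro u u' h
    by_contra hne
    set b := (a u)⁻¹ * a u' with hbdef
    have hb : b ∈ c.S := mul_mem (inv_mem (ha u)) (ha u')
    have hb1 : c.π b ≠ 1 := fun h1 => by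
      rw [map_mul, map_inv, hπa, hπa, inv_mul_eq_one] at h1
      exact hne (Subtype.ext h1)
    refine c.comm_not_mem hb hb1 hv hvD ?_
    have h2 : ⁅v, a u⁆⁻¹ * ⁅v, a u'⁆ ∈ c.C := Subgroup.mem_subgroupOf.1 (QuotientGroup.eq.1 h)
    rwa [show a u' = a u * b by simp [hbdef], c.comm_mul hv (ha u) hb, inv_mul_cancel_left] at h2
  have hcard : Nat.card (↥c.D ⧸ c.C.subgroupOf c.D) ≤ Nat.card ↥(U F) := by
    rw [card_U (F := F) c.hF]
    exact (c.C_index hx).le
  obtain ⟨u, hu⟩ := (hg.bijective_of_nat_card_le hcard).2 (QuotientGroup.mk (⟨d, hd⟩ : ↥c.D))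
  exact ⟨a u, ha u, Subgroup.mem_subgroupOf.1 (QuotientGroup.eq.1 hu)⟩

/-- The conjugates of `D` cover `V`. -/
theorem partition {v : H} (hv : v ∈ c.V) (hvD : v ∉ c.D) : ∃ s ∈ c.S, v ∈ cj (s * x) c.D := by
  haveI := c.normal
  obtain ⟨d, hd, d', hd', rfl⟩ : ∃ d ∈ c.D, ∃ d' ∈ cj x c.D, d * d' = v := by
    have h := hv
    rw [← c.sup_eq hx, ← SetLike.mem_coe] at h
    rwa [Subgroup.coe_mul_of_left_le_normalizer_right _ _ (fun e he => by
      rw [← cj_eq_iff]
      refine Subgroup.eq_of_le_of_card_ge ?_ (card_cj _ _).ge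
      rintro _ ⟨w, hw, rfl⟩
      show e * w * e⁻¹ ∈ cj x c.D
      rw [c.V_comm he.1 ((cj_mono x inf_le_left).trans_eq (cj_eq_of_normal x c.V) hw), mul_inv_cancel_right]
      exact hw)] at h
  have hd'V : d' ∈ c.V := (cj_mono x inf_le_left).trans_eq (cj_eq_of_normal x c.V) hd'
  have hd'D : d' ∉ c.D := fun h => hvD (mul_mem hd h)
  obtain ⟨a, ha, hz⟩ := c.comm_surj hx hd'V hd'D (inv_mem hd)
  refine ⟨a, ha, ?_⟩
  set z := ⁅d', a⁆⁻¹ * d⁻¹ with hzdef
  -- `a d' a⁻¹ = d d'` up to an element of `C`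
  have e : d * d' = (a * d' * a⁻¹) * z⁻¹ := by
    have h1 : a * d' * a⁻¹ = ⁅d', a⁆⁻¹ * d' := by rw [commutatorElement_def]; group
    rw [h1, hzdef, mul_inv_rev, inv_inv, inv_inv]
    have hD := c.comm_mem hd'V ha
    calc d * d' = d * (⁅d', a⁆ * (⁅d', a⁆⁻¹ * d')) := by group
      _ = d * ⁅d', a⁆ * (⁅d', a⁆⁻¹ * d') := by group
      _ = (⁅d', a⁆⁻¹ * d') * (d * ⁅d', a⁆) := by
        rw [c.V_comm (mul_mem hd.1 hD.1) (mul_mem (inv_mem hD.1) hd'V)]
  rw [e, cj_mul]
  refine mul_mem (conj_mem_cj hd') ?_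
  refine mem_cj.2 (mem_cj.2 ?_)
  have hzc := Subgroup.mem_center_iff.1 (inv_mem hz.2)
  rw [mul_assoc a⁻¹, ← hzc a, inv_mul_cancel_left, mul_assoc x⁻¹, ← hzc x, inv_mul_cancel_left]
  exact c.C_le_D (inv_mem hz)

/-- `D` depends only on the point of the projective line. -/
theorem cj_D_eq {y : H} (hy : c.π y ∈ Subgroup.normalizer (U F : Set (PSL2 F))) : cj y c.D = c.D := by
  haveI := c.normal
  refine Subgroup.eq_of_le_of_card_ge (fun v hv => ?_) (card_cj _ _).ge
  by_contra hvD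
  obtain ⟨s, hs, hvs⟩ := c.partition hx ((cj_mono y inf_le_left).trans_eq (cj_eq_of_normal y c.V) hv) hvD
  refine hvD (c.C_le_D ?_)
  have hy' : c.π (y⁻¹ * (s * x)) ∉ Subgroup.normalizer (U F : Set (PSL2 F)) := by
    intro hmem
    refine hx ?_
    have hs' : c.π s ∈ Subgroup.normalizer (U F : Set (PSL2 F)) :=
      Subgroup.le_normalizer (c.map_S ▸ Subgroup.mem_map_of_mem _ hs)
    rw [map_mul, map_inv, map_mul] at hmem
    simpa [mul_assoc] using mul_mem (inv_mem hs') (mul_mem hy hmem)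
  have h1 : y⁻¹ * v * y ∈ c.C := by
    rw [← c.D_inf hy']
    refine ⟨mem_cj.1 hv, ?_⟩
    rw [cj_mul y⁻¹]
    exact mem_cj.2 (by simpa [mul_assoc] using hvs)
  have h2 := Subgroup.mem_center_iff.1 h1.2 y
  have h3 : v = y⁻¹ * v * y := mul_right_cancel (b := y) (by rw [← h2]; group)
  rw [h3]; exact h1

/-- The kernel commutes with `S` on `V`. -/
theorem comm_ker {k s : H} (hk : k ∈ c.π.ker) (hs : s ∈ c.S) : ⁅k, s⁆ ∈ Subgroup.centralizer (c.V : Set H) := by
  haveI := c.normal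
  have hk1 : ∀ i : H, c.π i = 1 → cj i c.D = c.D := fun i hi => c.cj_D_eq hx (by rw [hi]; exact one_mem _)
  have hy : ⁅k, s⁆ ∈ c.π.ker := by
    rw [MonoidHom.mem_ker, map_commutatorElement, show c.π k = 1 from hk, commutatorElement_one_left]
  refine c.ker_pow _ hy (Subgroup.mem_centralizer_iff.2 fun v hv => ?_)
  set y := ⁅k, s⁆
  have hfix : ∀ d ∈ c.D, y * d * y⁻¹ = d := by
    intro d hd
    have h1 : k⁻¹ * d * k ∈ c.D := mem_cj.1 ((hk1 k hk).symm ▸ hd)
    calc y * d * y⁻¹ = k * (s * (k⁻¹ * (s⁻¹ * d * (s⁻¹)⁻¹) * k) * s⁻¹) * k⁻¹ := by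
          simp only [y, commutatorElement_def]; group
      _ = k * (k⁻¹ * d * k) * k⁻¹ := by rw [c.D_conj (inv_mem hs) hd, c.D_conj hs h1]
      _ = d := by group
  -- `y v = z v` with `z ∈ D`
  obtain ⟨z, hz, hzv⟩ : ∃ z ∈ c.D, y * v * y⁻¹ = z * v := by
    refine ⟨y * v * y⁻¹ * v⁻¹, ?_, by group⟩
    set w := k⁻¹ * v * k with hw
    have hwV : w ∈ c.V := by have := c.conj_mem hv k⁻¹; rwa [inv_inv] at this
    set d1 := ⁅s⁻¹, v⁆
    have hd1 : d1 ∈ c.D := c.conj_mem_mul_D hv (inv_mem hs)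
    set d2 := ⁅s, w⁆
    have hd2 : d2 ∈ c.D := c.conj_mem_mul_D hwV hs
    have hd1' : k⁻¹ * d1 * k ∈ c.D := mem_cj.1 ((hk1 k hk).symm ▸ hd1)
    have e : y * v * y⁻¹ = d1 * (k * d2 * k⁻¹) * v := by
      have e1 : s⁻¹ * v * (s⁻¹)⁻¹ = d1 * v := conj_eq_comm_mul _ _
      have e2 : s * w * s⁻¹ = d2 * w := conj_eq_comm_mul _ _
      calc y * v * y⁻¹ = k * (s * (k⁻¹ * (s⁻¹ * v * (s⁻¹)⁻¹) * k) * s⁻¹) * k⁻¹ := by
            simp only [y, commutatorElement_def]; group
        _ = k * (s * (k⁻¹ * d1 * k) * s⁻¹ * (s * w * s⁻¹)) * k⁻¹ := by rw [e1, hw]; group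
        _ = d1 * (k * d2 * k⁻¹) * v := by rw [c.D_conj hs hd1', e2, hw]; group
    rw [e, mul_inv_cancel_right]
    refine mul_mem hd1 ?_
    have h3 := conj_mem_cj (g := k) hd2
    rwa [hk1 k hk] at h3
  have h := pow_conj_of_fix hzv (mul_inv_eq_iff_eq_mul.1 (hfix z hz)) p
  rw [c.V_pow hz.1, one_mul, mul_inv_eq_iff_eq_mul] at h
  exact h.symm

/-- A normal subgroup of `V` outside `C` covers `V / C`. -/
theorem irreducible {W : Subgroup H} [W.Normal] (hWV : W ≤ c.V) (hWC : ¬ W ≤ c.C) : c.V ≤ W ⊔ c.C := by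
  haveI := c.normal
  obtain ⟨v, hv, hvD⟩ : ∃ v ∈ W, v ∉ c.D := by
    by_contra h
    push Not at h
    refine hWC ?_
    rw [← c.D_inf hx]
    refine le_inf h ?_
    rw [← cj_eq_of_normal x W]
    exact cj_mono x h
  have hD : c.D ≤ W ⊔ c.C := fun d hd => by
    obtain ⟨a, ha, hz⟩ := c.comm_surj hx (hWV hv) hvD hd
    rw [show d = ⁅v, a⁆ * (⁅v, a⁆⁻¹ * d) by group]
    refine mul_mem (Subgroup.mem_sup_left ?_) (Subgroup.mem_sup_right hz)
    rw [show ⁅v, a⁆ = v * (a * v⁻¹ * a⁻¹) by rw [commutatorElement_def]; group]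
    exact mul_mem hv ((inferInstance : W.Normal).conj_mem _ (inv_mem hv) a)
  haveI : c.C.Normal := ⟨fun z hz g => by
    rw [Subgroup.mem_center_iff.1 hz.2 g, mul_inv_cancel_right]; exact hz⟩
  rw [← c.sup_eq hx]
  refine sup_le hD ?_
  rw [← cj_eq_of_normal x (W ⊔ c.C)]
  exact cj_mono x hD

end Mod

end Cfsg.Agent.Lib.PushUpP
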