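import Cfsg.Agent.Lib.PushUpP.Sec

/-!
If no nontrivial characteristic subgroup of `S` is normal, then `V = ⟨Ω₁(Z(S))^G⟩` is a section with small
fixed points `Ω₁(Z(S))`.
-/

set_option autoImplicit false
set_option linter.unusedSectionVars false
set_option linter.style.haveILetI false

open scoped commutatorElement

namespace Cfsg.Agent.Lib.PushUpP.Sit

open Cfsg.Agent.Lib.LAEven57.PushingUp

variable {G : Type*} [Group G] [Finite G] {p : ℕ} [hp : Fact p.Prime] {F : Type} [Field F] [Fintype F]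
variable (c : Sit G p F)

local notation "Qc" => Cfsg.pCore p G

/-- No nontrivial characteristic subgroup of `S` is normal. -/
def NoChar : Prop :=
  ∀ T : Subgroup ↥c.TT, T ≠ ⊥ → T.Characteristic → ¬ (T.map c.TT.subtype).Normal

/-- `Ω₁(Z(S))`. -/
def Z : Subgroup G where
  carrier := {z | z ∈ c.TT ∧ z ^ p = 1 ∧ ∀ t ∈ c.TT, t * z = z * t}
  one_mem' := ⟨one_mem _, one_pow p, fun t _ => by rw [mul_one, one_mul]⟩
  mul_mem' := by
    rintro a b ⟨ha, ha2, hac⟩ ⟨hb, hb2, hbc⟩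
    refine ⟨mul_mem ha hb, ?_, fun t ht => by
      rw [← mul_assoc, hac t ht, mul_assoc, hbc t ht, mul_assoc]⟩
    rw [Commute.mul_pow (hbc a ha), ha2, hb2, one_mul]
  inv_mem' := by
    rintro a ⟨ha, ha2, hac⟩
    exact ⟨inv_mem ha, by rw [inv_pow, ha2, inv_one], fun t ht => (Commute.inv_right (hac t ht)).eq⟩

/-- `⟨Z^G⟩`. -/
def V : Subgroup G := Subgroup.normalClosure (c.Z : Set G)

instance V_normal : c.V.Normal := Subgroup.normalClosure_normal

theorem Z_le_S : c.Z ≤ c.TT := fun _ h => h.1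

theorem Z_le_Q : c.Z ≤ Qc := fun z hz => c.hE₁ (Subgroup.mem_centralizer_iff.2 fun a ha =>
  hz.2.2 a (c.Q_le_S ha))

theorem Z_le_V : c.Z ≤ c.V := Subgroup.le_normalClosure

/-- `Ω₁(Z(Q))`. -/
def WQ : Subgroup G where
  carrier := {v | v ∈ Qc ∧ v ^ p = 1 ∧ ∀ a ∈ Qc, a * v = v * a}
  one_mem' := ⟨one_mem _, one_pow p, fun t _ => by rw [mul_one, one_mul]⟩
  mul_mem' := by
    rintro a b ⟨ha, ha2, hac⟩ ⟨hb, hb2, hbc⟩
    refine ⟨mul_mem ha hb, ?_, fun t ht => by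
      rw [← mul_assoc, hac t ht, mul_assoc, hbc t ht, mul_assoc]⟩
    rw [Commute.mul_pow (hbc a ha), ha2, hb2, one_mul]
  inv_mem' := by
    rintro a ⟨ha, ha2, hac⟩
    exact ⟨inv_mem ha, by rw [inv_pow, ha2, inv_one], fun t ht => (Commute.inv_right (hac t ht)).eq⟩

theorem V_le_WQ : c.V ≤ WQ (G := G) (p := p) := by
  haveI : (WQ (G := G) (p := p)).Normal :=
    ⟨fun v ⟨hv, hv2, hvc⟩ g => ⟨(inferInstance : (Qc).Normal).conj_mem v hv g,
      by rw [conj_pow, hv2, mul_one, mul_inv_cancel],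
      fun a ha => by
        have h := hvc (g⁻¹ * a * g) (by simpa using (inferInstance : (Qc).Normal).conj_mem a ha g⁻¹)
        calc a * (g * v * g⁻¹) = g * ((g⁻¹ * a * g) * v) * g⁻¹ := by group
          _ = g * (v * (g⁻¹ * a * g)) * g⁻¹ := by rw [h]
          _ = g * v * g⁻¹ * a := by group⟩⟩
  exact Subgroup.normalClosure_le_normal fun z hz =>
    ⟨c.Z_le_Q hz, hz.2.1, fun a ha => hz.2.2 a (c.Q_le_S ha)⟩

theorem V_le_Q : c.V ≤ Qc := fun _ h => (c.V_le_WQ h).1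
theorem V_pow {v : G} (h : v ∈ c.V) : v ^ p = 1 := (c.V_le_WQ h).2.1
theorem Q_cent {a v : G} (ha : a ∈ Qc) (hv : v ∈ c.V) : a * v = v * a := (c.V_le_WQ hv).2.2 a ha
theorem V_le_S : c.V ≤ c.TT := c.V_le_Q.trans c.Q_le_S
theorem V_comm {u v : G} (hu : u ∈ c.V) (hv : v ∈ c.V) : u * v = v * u := c.Q_cent (c.V_le_Q hu) hv

theorem V_elem : Cfsg.IsElementaryAbelian p c.V :=
  ⟨⟨⟨fun u v => Subtype.ext (c.V_comm u.2 v.2)⟩⟩, fun _ h => c.V_pow h⟩

theorem Q_le_cent : Qc ≤ Subgroup.centralizer (c.V : Set G) := fun _ ha =>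
  Subgroup.mem_centralizer_iff.2 fun _ hv => (c.Q_cent ha hv).symm

/-- A nontrivial invariant subgroup of `S` is not normal. -/
theorem eq_bot_of_inv (hd : c.NoChar) (C : Subgroup G) [C.Normal] (hC : C ≤ c.TT)
    (hinv : ∀ φ : ↥c.TT ≃* ↥c.TT, ∀ a : ↥c.TT, (a : G) ∈ C → (φ a : G) ∈ C) : C = ⊥ := by
  by_contra hne
  refine hd (C.subgroupOf c.TT) ?_ ?_ ?_
  · intro h
    rw [Subgroup.subgroupOf_eq_bot, disjoint_iff, inf_eq_left.2 hC] at h
    exact hne h
  · exact Subgroup.characteristic_iff_le_comap.2 fun φ a ha => hinv φ a ha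
  · show ((C.subgroupOf c.TT).map c.TT.subtype).Normal
    rw [Subgroup.map_subgroupOf_eq_of_le hC]
    infer_instance

theorem Z_inv (φ : ↥c.TT ≃* ↥c.TT) (a : ↥c.TT) (ha : (a : G) ∈ c.Z) : (φ a : G) ∈ c.Z := by
  obtain ⟨-, h2, h3⟩ := ha
  refine ⟨(φ a).2, ?_, fun t ht => ?_⟩
  · have : a ^ p = 1 := Subtype.ext h2
    have := congrArg (fun b : ↥c.TT => ((φ b : ↥c.TT) : G)) this
    simpa using this
  · have h4 : φ.symm ⟨t, ht⟩ * a = a * φ.symm ⟨t, ht⟩ := Subtype.ext (h3 _ (φ.symm ⟨t, ht⟩).2)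
    have := congrArg (fun b : ↥c.TT => ((φ b : ↥c.TT) : G)) h4
    simpa using this

theorem S_ne : c.TT ≠ ⊥ := fun h => by
  have h1 : c.TT.map c.π = U F := c.map_S
  rw [h, Subgroup.map_bot] at h1
  have h2 := card_U (F := F) c.hF
  rw [← h1, Subgroup.card_bot] at h2
  exact (Nat.one_lt_pow (by have := c.hn; omega) hp.out.one_lt).ne h2

theorem Z_ne : c.Z ≠ ⊥ := fun h => by
  haveI : Nontrivial ↥c.TT := (Subgroup.nontrivial_iff_ne_bot _).2 c.S_ne
  haveI := (show IsPGroup p ↥c.TT from c.S.isPGroup').center_nontrivial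
  obtain ⟨k, hk⟩ := IsPGroup.iff_card.1
    ((show IsPGroup p ↥c.TT from c.S.isPGroup').to_subgroup (Subgroup.center ↥c.TT))
  have h2 : p ∣ Nat.card (Subgroup.center ↥c.TT) := by
    rw [hk]
    refine dvd_pow_self p fun h0 => ?_
    rw [h0, pow_zero] at hk
    exact absurd hk Finite.one_lt_card.ne'
  obtain ⟨z, hz⟩ := exists_prime_orderOf_dvd_card' p h2
  have hz2 : z ^ p = 1 := orderOf_dvd_iff_pow_eq_one.1 hz.dvd
  have hmem : ((z : ↥c.TT) : G) ∈ c.Z := ⟨(z : ↥c.TT).2,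
    congrArg (fun w : Subgroup.center ↥c.TT => ((w : ↥c.TT) : G)) hz2,
    fun t ht => congrArg Subtype.val (Subgroup.mem_center_iff.1 z.2 ⟨t, ht⟩)⟩
  rw [h, Subgroup.mem_bot] at hmem
  rw [show z = 1 from Subtype.ext (Subtype.ext hmem), orderOf_one] at hz
  exact hp.out.one_lt.ne hz

theorem V_ne : c.V ≠ ⊥ := fun h => c.Z_ne (le_bot_iff.1 (h ▸ c.Z_le_V))

/-- Abelian subgroups of `S`. -/
def IsAb (A : Subgroup G) : Prop := A ≤ c.TT ∧ ∀ a ∈ A, ∀ b ∈ A, a * b = b * a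

/-- `Ω₁(Z(S))` is not normal and an abelian subgroup of `S` outside `O_p(G)` has largest order among the
abelian subgroups satisfying its power relations (so: largest among all abelian, or among all elementary
abelian subgroups). -/
def Good : Prop :=
  ¬ c.Z.Normal ∧ ∃ A, c.IsAb A ∧
    (∀ B, c.IsAb B → (∀ m : ℕ, (∀ a ∈ A, a ^ m = 1) → ∀ b ∈ B, b ^ m = 1) → Nat.card B ≤ Nat.card A) ∧
    ¬ A ≤ Qc

theorem exists_max_ab : ∃ A, c.IsAb A ∧ ∀ B, c.IsAb B → Nat.card B ≤ Nat.card A := by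
  haveI : Nonempty {A // c.IsAb A} := ⟨⟨⊥, bot_le, by simp⟩⟩
  obtain ⟨⟨A, hA⟩, hmax⟩ := Finite.exists_max fun A : {A // c.IsAb A} => Nat.card A.1
  exact ⟨A, hA, fun B hB => hmax ⟨B, hB⟩⟩

theorem exists_A (hd : c.NoChar) :
    ∃ A, c.IsAb A ∧ (∀ B, c.IsAb B → Nat.card B ≤ Nat.card A) ∧ ¬ A ≤ Qc := by
  by_contra hcon
  push Not at hcon
  set M : Set (Subgroup G) := {A | c.IsAb A ∧ ∀ B, c.IsAb B → Nat.card B ≤ Nat.card A} with hM
  set J := sSup M with hJ
  have hEA : ∀ (A : Subgroup G) (ψ : ↥A →* G), Function.Injective ψ → (∀ a, ψ a ∈ c.TT) →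
      A ∈ M → ψ.range ∈ M := by
    rintro A ψ hψ hψT ⟨⟨-, hAc⟩, hmax⟩
    refine ⟨⟨?_, ?_⟩, fun B hB => ?_⟩
    · rintro _ ⟨a, rfl⟩; exact hψT a
    · rintro _ ⟨a, rfl⟩ _ ⟨b, rfl⟩
      rw [← map_mul, ← map_mul]; congr 1; exact Subtype.ext (hAc a a.2 b b.2)
    · rw [← Nat.card_congr (MonoidHom.ofInjective hψ).toEquiv]; exact hmax B hB
  have hJT : J ≤ c.TT := sSup_le fun A hA => hA.1.1
  haveI : J.Normal := by
    refine ⟨fun a ha x => ?_⟩
    have : cj x J ≤ J := by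
      rw [cj, Subgroup.map_le_iff_le_comap]
      refine sSup_le fun A hA => Subgroup.map_le_iff_le_comap.1 ?_
      refine le_sSup_of_le (hEA A ((MulAut.conj x).toMonoidHom.comp A.subtype)
        ((MulAut.conj x).injective.comp A.subtype_injective) (fun a => c.Q_le_S
          ((inferInstance : (Qc).Normal).conj_mem _ (hcon A hA.1 hA.2 a.2) x)) hA) ?_
      rw [MonoidHom.range_comp, Subgroup.range_subtype]
    exact this (conj_mem_cj ha)
  have hbot := c.eq_bot_of_inv hd J hJT fun φ a ha => by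
    have key : J.subgroupOf c.TT ≤ (J.subgroupOf c.TT).comap φ.toMonoidHom := by
      intro b hb
      have hb' : (b : G) ∈ (sSup M : Subgroup G) := hb
      revert hb'
      suffices h : (sSup M : Subgroup G) ≤ ((J.subgroupOf c.TT).comap φ.toMonoidHom).map c.TT.subtype by
        intro hb'
        obtain ⟨b', hb'', he⟩ := h hb'
        rwa [Subtype.ext he] at hb''
      refine sSup_le fun A hA y hy => ?_
      refine ⟨⟨y, hA.1.1 hy⟩, ?_, rfl⟩
      refine le_sSup (hEA A (c.TT.subtype.comp (φ.toMonoidHom.comp (Subgroup.inclusion hA.1.1)))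
        (c.TT.subtype_injective.comp (φ.injective.comp (Subgroup.inclusion_injective _)))
        (fun a => Subtype.prop _) hA) ?_
      exact ⟨⟨y, hy⟩, rfl⟩
    exact key ha
  obtain ⟨A, hA, hmax⟩ := c.exists_max_ab
  have h1 : A = ⊥ := le_bot_iff.1 (hbot ▸ le_sSup (show A ∈ M from ⟨hA, hmax⟩))
  have h2 := hmax c.V ⟨c.V_le_S, fun u hu v hv => c.V_comm hu hv⟩
  rw [h1, Subgroup.card_bot] at h2
  exact c.V_ne (Subgroup.eq_bot_of_card_le _ h2)

theorem NoChar.good {c : Sit G p F} (hd : c.NoChar) : c.Good :=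
  ⟨fun h => c.Z_ne (c.eq_bot_of_inv hd c.Z c.Z_le_S c.Z_inv),
    (c.exists_A hd).imp fun _ h => ⟨h.1, fun B hB _ => h.2.1 B hB, h.2.2⟩⟩

/-- A power relation of a subgroup of `S` outside `O_p(G)` has exponent divisible by `p`. -/
theorem dvd_of_forall_pow {A : Subgroup G} (hA : A ≤ c.TT) (hAQ : ¬ A ≤ Qc) {m : ℕ}
    (hm : ∀ a ∈ A, a ^ m = 1) : p ∣ m := by
  obtain ⟨a, ha, haQ⟩ := SetLike.not_le_iff_exists.1 hAQ
  obtain ⟨k, hk⟩ := (show IsPGroup p ↥c.TT from c.S.isPGroup') ⟨a, hA ha⟩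
  obtain ⟨j, -, hj⟩ := (Nat.dvd_prime_pow hp.out).1
    (orderOf_dvd_of_pow_eq_one (congrArg Subtype.val hk : a ^ p ^ k = 1))
  refine (dvd_trans ?_ hj.symm.dvd).trans (orderOf_dvd_of_pow_eq_one (hm a ha))
  refine dvd_pow_self p fun hj0 => haQ ?_
  rw [hj0, pow_zero, orderOf_eq_one_iff] at hj
  rw [show a = 1 from hj]
  exact one_mem _

theorem Z_not_normal (hd : c.Good) : ¬ c.Z.Normal := hd.1

theorem cent_V_le (hd : c.Good) : Subgroup.centralizer (c.V : Set G) ≤ c.π.ker := by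
  by_contra hnot
  refine c.Z_not_normal hd ⟨fun z hz x => ?_⟩
  have htop := c.normal_sup _ inferInstance hnot
  have hle : Subgroup.centralizer (c.V : Set G) ⊔ c.TT ≤ Subgroup.centralizer ({z} : Set G) :=
    sup_le (fun a ha => Subgroup.mem_centralizer_singleton_iff.2
        ((Subgroup.mem_centralizer_iff.1 ha z (c.Z_le_V hz)).symm))
      fun t ht => Subgroup.mem_centralizer_singleton_iff.2 (hz.2.2 t ht)
  have hx : x * z = z * x :=
    Subgroup.mem_centralizer_singleton_iff.1 (hle (htop ▸ Subgroup.mem_top x))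
  rw [hx, mul_inv_cancel_right]
  exact hz

theorem bound_V (hd : c.Good) {a : G} (ha : a ∈ c.TT) (haQ : a ∉ Qc) :
    p ^ c.n ≤ (c.V ⊓ Subgroup.centralizer ({a} : Set G)).relIndex c.V := by
  obtain ⟨k, hk⟩ := (show IsPGroup p ↥c.TT from c.S.isPGroup') ⟨a, ha⟩
  exact bound c.V_elem c.π c.surj (c.cent_V_le hd) c.hF (fun h => haQ ((c.mem_Q ha).2 h))
    ⟨k, congrArg Subtype.val hk⟩

/-- The Thompson argument: an elementary abelian subgroup covering `S / Q`. -/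
theorem offender (hd : c.Good) : ∃ A, c.IsAb A ∧ Qc ⊔ A = c.TT ∧ c.Z.relIndex c.V ≤ p ^ c.n := by
  obtain ⟨A, ⟨hAT, hAc⟩, hmax, hAQ⟩ := hd.2
  set B := A ⊓ Qc ⊔ c.V with hBdef
  have hcomm : ∀ a ∈ B, ∀ b ∈ B, a * b = b * a := by
    have h1 : B ≤ Subgroup.centralizer ((A ⊓ Qc : Subgroup G) : Set G) := sup_le
      (fun a ha => Subgroup.mem_centralizer_iff.2 fun b hb => hAc b hb.1 a ha.1)
      (fun v hv => Subgroup.mem_centralizer_iff.2 fun b hb => c.Q_cent hb.2 hv)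
    have h2 : B ≤ Subgroup.centralizer (c.V : Set G) := sup_le
      (fun a ha => c.Q_le_cent ha.2)
      (fun v hv => Subgroup.mem_centralizer_iff.2 fun b hb => c.V_comm hb hv)
    intro a ha b hb
    have h3 : B ≤ Subgroup.centralizer ({a} : Set G) := sup_le
      (fun u hu => Subgroup.mem_centralizer_singleton_iff.2 (Subgroup.mem_centralizer_iff.1 (h1 ha) u hu))
      (fun u hu => Subgroup.mem_centralizer_singleton_iff.2 (Subgroup.mem_centralizer_iff.1 (h2 ha) u hu))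
    exact (Subgroup.mem_centralizer_singleton_iff.1 (h3 hb)).symm
  have hEAB : c.IsAb B := ⟨sup_le (inf_le_left.trans hAT) c.V_le_S, hcomm⟩
  have hind : (A ⊓ c.V).relIndex c.V ≤ (A ⊓ Qc).relIndex A := by
    have h1 := hmax _ hEAB fun m hm => by
      have hdvd := c.dvd_of_forall_pow hAT hAQ hm
      intro b hb
      obtain ⟨a, ha, v, hv, rfl⟩ := Subgroup.mem_sup_of_normal_right.1 hb
      obtain ⟨j, rfl⟩ := hdvd
      rw [(show Commute a v from c.Q_cent ha.2 hv).mul_pow, hm a ha.1, one_mul, pow_mul, c.V_pow hv, one_pow]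
    have e1 : c.V.relIndex B = c.V.relIndex (A ⊓ Qc) := Subgroup.relIndex_sup_right _ _
    have e2 : Nat.card ↥B = Nat.card ↥c.V * c.V.relIndex (A ⊓ Qc) := by
      rw [← e1, ← Subgroup.relIndex_bot_left, ← Subgroup.relIndex_bot_left,
        Subgroup.relIndex_mul_relIndex _ _ _ bot_le (hBdef ▸ le_sup_right)]
    have e3 : Nat.card ↥(A ⊓ Qc) = Nat.card ↥(A ⊓ c.V) * c.V.relIndex (A ⊓ Qc) := by
      have hle : A ⊓ c.V ≤ A ⊓ Qc := inf_le_inf le_rfl c.V_le_Q
      rw [← Subgroup.relIndex_bot_left, ← Subgroup.relIndex_bot_left,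
        ← Subgroup.inf_relIndex_right c.V (A ⊓ Qc)]
      have : c.V ⊓ (A ⊓ Qc) = A ⊓ c.V :=
        le_antisymm (le_inf (inf_le_right.trans inf_le_left) inf_le_left)
          (le_inf inf_le_right hle)
      rw [this, Subgroup.relIndex_mul_relIndex _ _ _ bot_le hle]
    have e4 : Nat.card ↥c.V = Nat.card ↥(A ⊓ c.V) * (A ⊓ c.V).relIndex c.V := by
      rw [← Subgroup.relIndex_bot_left, ← Subgroup.relIndex_bot_left,
        Subgroup.relIndex_mul_relIndex _ _ _ bot_le inf_le_right]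
    have e5 : Nat.card ↥A = Nat.card ↥(A ⊓ Qc) * (A ⊓ Qc).relIndex A := by
      rw [← Subgroup.relIndex_bot_left, ← Subgroup.relIndex_bot_left,
        Subgroup.relIndex_mul_relIndex _ _ _ bot_le inf_le_left]
    rw [e2, e4, e5, e3, mul_assoc, mul_assoc, mul_comm (c.V.relIndex (A ⊓ Qc))] at h1
    exact Nat.le_of_mul_le_mul_right (Nat.le_of_mul_le_mul_left h1 Nat.card_pos)
      (Nat.pos_of_ne_zero Subgroup.index_ne_zero_of_finite)
  rw [Subgroup.inf_relIndex_left A Qc] at hind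
  have hQA : (Qc).relIndex A ≤ p ^ c.n := by
    rw [← c.relIndex_Q]
    exact Subgroup.relIndex_le_of_le_right hAT Subgroup.index_ne_zero_of_finite
  obtain ⟨a₀, ha₀, ha₀Q⟩ := SetLike.not_le_iff_exists.1 hAQ
  have hlb : p ^ c.n ≤ (A ⊓ c.V).relIndex c.V :=
    (c.bound_V hd (hAT ha₀) ha₀Q).trans (Subgroup.relIndex_le_of_le_left
      (fun v hv => ⟨hv.2, Subgroup.mem_centralizer_singleton_iff.2 (hAc v hv.1 a₀ ha₀)⟩)
      Subgroup.index_ne_zero_of_finite)
  have hQA' : (Qc).relIndex A = p ^ c.n := le_antisymm hQA (hlb.trans hind)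
  have htop : Qc ⊔ A = c.TT := by
    refine le_antisymm (sup_le c.Q_le_S hAT) (Subgroup.relIndex_eq_one.1 ?_)
    have h := Subgroup.relIndex_mul_relIndex Qc (Qc ⊔ A) c.TT le_sup_left (sup_le c.Q_le_S hAT)
    rw [Subgroup.relIndex_sup_left, hQA', c.relIndex_Q] at h
    exact Nat.eq_of_mul_eq_mul_left (pow_pos hp.out.pos c.n) (h.trans (mul_one _).symm)
  refine ⟨A, ⟨hAT, hAc⟩, htop, ?_⟩
  refine (Subgroup.relIndex_le_of_le_left (H := A ⊓ c.V) (K := c.Z) ?_ Subgroup.index_ne_zero_of_finite).trans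
    (hind.trans hQA)
  intro v hv
  refine ⟨hAT hv.1, c.V_pow hv.2, fun t ht => ?_⟩
  have hle : Qc ⊔ A ≤ Subgroup.centralizer ({v} : Set G) := sup_le
    (fun a ha => Subgroup.mem_centralizer_singleton_iff.2 (c.Q_cent ha hv.2))
    fun a ha => Subgroup.mem_centralizer_singleton_iff.2 (hAc a ha v hv.1)
  exact Subgroup.mem_centralizer_singleton_iff.1 (hle (htop.symm ▸ ht))

theorem fixS_bot : c.fixS ⊥ c.V = c.Z := by
  ext u
  rw [c.mem_fixS]
  constructor
  · rintro ⟨hu, h⟩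
    exact ⟨c.V_le_S hu, c.V_pow hu, fun t ht =>
      (commutatorElement_eq_one_iff_mul_comm.1 (Subgroup.mem_bot.1 (h t ht))).symm⟩
  · intro hu
    exact ⟨c.Z_le_V hu, fun t ht =>
      Subgroup.mem_bot.2 (commutatorElement_eq_one_iff_mul_comm.2 (hu.2.2 t ht).symm)⟩

theorem secKer_bot {W : Subgroup G} : secKer (⊥ : Subgroup G) W = Subgroup.centralizer (W : Set G) := by
  ext g
  rw [mem_secKer, Subgroup.mem_centralizer_iff]
  exact forall₂_congr fun u _ => by rw [Subgroup.mem_bot, commutatorElement_eq_one_iff_mul_comm]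

/-- `V` is a section with small fixed points. -/
theorem secV (hd : c.Good) : c.IsSec ⊥ c.V where
  le := bot_le
  le_Q := c.V_le_Q
  comm u hu v hv := Subgroup.mem_bot.2 (commutatorElement_eq_one_iff_mul_comm.2 (c.V_comm hu hv))
  pow u hu := Subgroup.mem_bot.2 (c.V_pow hu)
  cent := by rw [secKer_bot]; exact c.Q_le_cent
  faithful := by rw [secKer_bot]; exact c.cent_V_le hd
  small := by
    obtain ⟨A, -, -, h⟩ := c.offender hd
    rwa [fixS_bot]

/-- `C_V(G)`. -/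
def C₀ : Subgroup G := c.V ⊓ Subgroup.center G

theorem fixG_bot : fixG ⊥ c.V = c.C₀ := by
  ext u
  rw [mem_fixG, C₀, Subgroup.mem_inf, Subgroup.mem_center_iff]
  exact and_congr_right fun _ => forall_congr' fun g => by
    rw [Subgroup.mem_bot, commutatorElement_eq_one_iff_mul_comm, eq_comm]

end Cfsg.Agent.Lib.PushUpP.Sit
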