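import Cfsg.Agent.Lib.PushUpP.Series
import Cfsg.Agent.Lib.PushUpP.Embed

/-!
Some conjugate of `V` under the normalizer of `S` covers `S / Q`: class two and one natural chief factor.
-/

set_option autoImplicit false
set_option linter.unusedSectionVars false
set_option linter.style.haveILetI false

open scoped commutatorElement

namespace Cfsg.Agent.Lib.PushUpP

theorem mul_pow_comm {G : Type*} [Group G] {u v z : G} (h : u * v = z * (v * u)) (hu : z * u = u * z)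
    (hv : z * v = v * z) : ∀ i : ℕ, (v * u) ^ i = z ^ i.choose 2 * (v ^ i * u ^ i) := by
  have key : ∀ i : ℕ, u ^ i * v = z ^ i * (v * u ^ i) := by
    intro i
    induction i with
    | zero => simp
    | succ i ih =>
      calc u ^ (i + 1) * v = u * (u ^ i * v) := by rw [pow_succ', mul_assoc]
        _ = (u * z ^ i) * v * u ^ i := by rw [ih]; group
        _ = z ^ i * (u * v) * u ^ i := by rw [((Commute.pow_left hu i).eq).symm]; group
        _ = z ^ (i + 1) * (v * u ^ (i + 1)) := by rw [h, pow_succ, pow_succ' u]; group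
  intro i
  induction i with
  | zero => simp
  | succ i ih =>
    have hzv : v ^ i * z ^ i = z ^ i * v ^ i := ((Commute.pow_pow hv i i).eq).symm
    calc (v * u) ^ (i + 1) = z ^ i.choose 2 * (v ^ i * (u ^ i * v) * u) := by
          rw [pow_succ, ih]; group
      _ = z ^ i.choose 2 * ((v ^ i * z ^ i) * v * u ^ i * u) := by rw [key]; group
      _ = z ^ (i + 1).choose 2 * (v ^ (i + 1) * u ^ (i + 1)) := by
          rw [hzv, Nat.choose_succ_succ', Nat.choose_one_right, add_comm, pow_add, pow_succ v, pow_succ u]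
          group

namespace Sit

open Cfsg.Agent.Lib.LAEven57.PushingUp

variable {G : Type*} [Group G] [Finite G] {p : ℕ} [hp : Fact p.Prime] {F : Type} [Field F] [Fintype F]
variable {c : Sit G p F}

local notation "Qc" => Cfsg.pCore p G

theorem lcs_inv (φ : ↥c.TT ≃* ↥c.TT) (k : ℕ) (a : ↥c.TT) (ha : (a : G) ∈ c.TT.lowerCentralSeries k) :
    (φ a : G) ∈ c.TT.lowerCentralSeries k := by
  rw [← Subgroup.top_subtype_lowerCentralSeries] at ha ⊢
  obtain ⟨b, hb, hba⟩ := ha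
  refine ⟨φ b, ?_, by rw [show b = a from Subtype.ext hba]; rfl⟩
  have h := Subgroup.map_lowerCentralSeries (S := (⊤ : Subgroup ↥c.TT)) φ.toMonoidHom k
  rw [Subgroup.map_top_of_surjective φ.toMonoidHom φ.surjective] at h
  rw [← h]
  exact Subgroup.mem_map_of_mem _ hb

theorem lcs_mono {A B : Subgroup G} (h : A ≤ B) : ∀ k, A.lowerCentralSeries k ≤ B.lowerCentralSeries k
  | 0 => h
  | k + 1 => by
    rw [Subgroup.lowerCentralSeries_succ, Subgroup.lowerCentralSeries_succ]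
    exact Subgroup.commutator_mono (lcs_mono h k) h

theorem lcs_normal (A : Subgroup G) [hA : A.Normal] (k : ℕ) : (A.lowerCentralSeries k).Normal := by
  induction k with
  | zero => exact hA
  | succ k ih => rw [Subgroup.lowerCentralSeries_succ]; infer_instance

/-- If the `k`-th term of the lower central series of `S` lies in that of `Q`, it is trivial. -/
theorem lcs_eq_bot (hd : c.NoChar) {k : ℕ} (h : c.TT.lowerCentralSeries k ≤ (Qc).lowerCentralSeries k) :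
    c.TT.lowerCentralSeries k = ⊥ := by
  have he := le_antisymm h (lcs_mono c.Q_le_S k)
  haveI : (c.TT.lowerCentralSeries k).Normal := he ▸ lcs_normal Qc k
  exact c.eq_bot_of_inv hd _ (c.TT.lowerCentralSeries_antitone (Nat.zero_le k)) fun φ a ha => lcs_inv φ k a ha

/-- If all `e`-th powers in `S` come from `Q`, they are trivial. -/
theorem pow_eq_one (hd : c.NoChar) {e : ℕ} (h : ∀ s ∈ c.TT, ∃ q ∈ Qc, s ^ e = q ^ e) :
    ∀ s ∈ c.TT, s ^ e = 1 := by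
  set C := Subgroup.closure {x : G | ∃ q ∈ Qc, x = q ^ e} with hC
  have hCQ : C ≤ Qc := (Subgroup.closure_le _).2 fun x ⟨q, hq, hx⟩ => hx ▸ pow_mem hq e
  haveI : C.Normal := by
    refine ⟨fun a ha g => ?_⟩
    have hle : C ≤ C.comap (MulAut.conj g).toMonoidHom := (Subgroup.closure_le _).2 fun x ⟨q, hq, hx⟩ =>
      Subgroup.subset_closure ⟨g * q * g⁻¹, (inferInstance : (Qc).Normal).conj_mem q hq g, by
        rw [hx]; exact (map_pow (MulAut.conj g).toMonoidHom q e)⟩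
    exact hle ha
  have hinv : ∀ φ : ↥c.TT ≃* ↥c.TT, ∀ a : ↥c.TT, (a : G) ∈ C → (φ a : G) ∈ C := by
    intro φ a ha
    have hle : C ≤ ((C.subgroupOf c.TT).comap φ.toMonoidHom).map c.TT.subtype := by
      refine (Subgroup.closure_le _).2 fun x ⟨q, hq, hx⟩ => ?_
      refine ⟨⟨q, c.Q_le_S hq⟩ ^ e, ?_, by rw [hx]; rfl⟩
      obtain ⟨q', hq', he⟩ := h _ (φ ⟨q, c.Q_le_S hq⟩).2
      show ((φ (⟨q, c.Q_le_S hq⟩ ^ e) : ↥c.TT) : G) ∈ C
      rw [map_pow]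
      exact Subgroup.subset_closure ⟨q', hq', he⟩
    obtain ⟨b, hb, hba⟩ := hle ha
    rw [show a = b from (Subtype.ext hba).symm]
    exact hb
  have hbot := c.eq_bot_of_inv hd C (hCQ.trans c.Q_le_S) hinv
  intro s hs
  obtain ⟨q, hq, he⟩ := h s hs
  have : s ^ e ∈ C := Subgroup.subset_closure ⟨q, hq, he⟩
  rwa [hbot, Subgroup.mem_bot] at this

/-- The configuration with a conjugate `U` of `V` covering `S / Q`. -/
structure One (c : Sit G p F) (U D₀ : Subgroup G) : Prop where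
  le_S : U ≤ c.TT
  comm : ∀ u ∈ U, ∀ v ∈ U, u * v = v * u
  pow : ∀ u ∈ U, u ^ p = 1
  sup : Qc ⊔ U = c.TT
  comm_Q : ∀ a ∈ Qc, ∀ u ∈ U, ⁅a, u⁆ ∈ c.Z
  D_le : D₀ ≤ Qc
  D_comm : ∀ d ∈ D₀, ∀ u ∈ U, d * u = u * d
  cover : Qc ≤ D₀ ⊔ c.V

theorem exists_one {G' : Type*} [Group G'] [Finite G'] {F' : Type} [Field F'] [Fintype F'] {c' : Sit G' p F'}
    (hd : c.Good) (hd' : c'.Good) {Γ : Type*} [Group Γ] {f : G →* Γ} {f' : G' →* Γ}
    (hf : Function.Injective f) (hf' : Function.Injective f') (hT : c'.TT.map f' = c.TT.map f) {n : Γ}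
    (hn : n ∈ Subgroup.normalizer ((c.TT.map f : Subgroup Γ) : Set Γ))
    (hnot : ¬ cj n (c'.V.map f') ≤ (Qc).map f) :
    ∃ U D₀ : Subgroup G, c.One U D₀ ∧ D₀.map f ≤ cj n ((Cfsg.pCore p G').map f') := by
  let D := c.toData hd f hf
  let D' := c'.toData hd' f' hf'
  have hn' : n ∈ D'.N := by rw [Data.N, show D'.T = c.TT.map f from hT]; exact hn
  set U := (cj n D'.V).comap f with hU
  set W := (cj n D'.Q).comap f with hW
  have hTT : D'.T = D.T := hT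
  have hnT : cj n D'.T = D.T := (D'.cj_T hn').trans hTT
  have hUT : cj n D'.V ≤ D.T := hnT ▸ cj_mono n (D'.V_le_Q.trans D'.Q_le_T)
  have hWT : cj n D'.Q ≤ D.T := hnT ▸ cj_mono n D'.Q_le_T
  have hTr : D.T ≤ f.range := D.T_le_X
  have hmapU : U.map f = cj n D'.V := Subgroup.map_comap_eq_self (hUT.trans hTr)
  have hmapW : W.map f = cj n D'.Q := Subgroup.map_comap_eq_self (hWT.trans hTr)
  have hUle : U ≤ c.TT := by
    rw [← Subgroup.map_le_map_iff_of_injective hf, hmapU]; exact hUT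
  have hWle : W ≤ c.TT := by
    rw [← Subgroup.map_le_map_iff_of_injective hf, hmapW]; exact hWT
  have hQ' : ∀ a ∈ W, ∀ u ∈ U, a * u = u * a := fun a ha u hu => hf (by
    rw [map_mul, map_mul]; exact Data.Q_cent' (D := D') ha hu)
  have hUcomm : ∀ u ∈ U, ∀ v ∈ U, u * v = v * u := fun u hu v hv =>
    hQ' u (cj_mono n D'.V_le_Q hu) v hv
  have hUpow : ∀ u ∈ U, u ^ p = 1 := fun u hu => hf (by
    rw [map_pow, map_one]; exact Data.V_pow' (D := D') hu)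
  have hnot' : ¬ U ≤ Qc := fun h => hnot (show cj n D'.V ≤ _ by
    rw [← hmapU]; exact Subgroup.map_mono h)
  -- some element of `cj n⁻¹ V` lies outside `Q'`
  obtain ⟨w, hw, hwQ⟩ := SetLike.not_le_iff_exists.1 hnot
  have hwT : w ∈ D.T := hUT hw
  obtain ⟨v₀, hv₀, hv₀w⟩ : ∃ v₀ ∈ D.V, w * v₀ ≠ v₀ * w := by
    by_contra h
    push Not at h
    exact hwQ (D.mem_Q w hwT h)
  have hT' : cj n⁻¹ D.V ≤ D'.T := by
    rw [← D'.cj_T (D'.N.inv_mem hn'), hTT]; exact cj_mono _ (D.V_le_Q.trans D.Q_le_T)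
  have hnot2 : ¬ cj n⁻¹ D.V ≤ D'.Q := fun hle => by
    refine hv₀w ((Data.comm_cj n w v₀).1 ?_)
    exact (D'.Q_cent _ (hle (show n⁻¹ * v₀ * n ∈ cj n⁻¹ D.V from mem_cj.2 (by simpa [mul_assoc] using hv₀)))
      _ (mem_cj.1 hw)).symm
  obtain ⟨t, ht, htQ⟩ := SetLike.not_le_iff_exists.1 hnot2
  have hZ : cj n D'.Z = D.Z := by
    rw [D'.cj_Z hn']
    ext z
    rw [D'.mem_Z, D.mem_Z, hTT]
  have hinfD : cj n D'.V ⊓ D.Q ≤ D.Z := fun u hu => by
    rw [← hZ, mem_cj]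
    refine D'.fix_eq t (hT' ht) htQ _ (mem_cj.1 hu.1) ?_
    have h1 := D.Q_cent u hu.2 (n * t * n⁻¹) (by
      have := mem_cj.1 ht
      simpa [mul_assoc] using this)
    have h2 := (Data.comm_cj n u (n * t * n⁻¹)).2 h1
    simpa [mul_assoc] using h2.symm
  have hinf : ∀ u ∈ U, u ∈ Qc → u ∈ c.Z := fun u hu huQ => by
    have h := hinfD ⟨hu, show f u ∈ D.Q from ⟨u, huQ, rfl⟩⟩
    rw [show D.Z = c.Z.map f from rfl, Subgroup.mem_map_iff_mem hf] at h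
    exact h
  have hZU : c.Z ≤ U := fun z hz => by
    show f z ∈ cj n D'.V
    exact cj_mono n D'.Z_le_V (hZ.symm ▸ (show f z ∈ D.Z from ⟨z, hz, rfl⟩))
  have hrelT : ∀ A B : Subgroup G', (cj n (A.map f')).relIndex (cj n (B.map f')) = A.relIndex B :=
    fun A B => by rw [relIndex_cj, Subgroup.relIndex_map_map_of_injective _ _ hf']
  have hrQU : (Qc).relIndex U = p ^ c'.n := by
    have e : Qc ⊓ U = c.Z := le_antisymm (fun u hu => hinf u hu.2 hu.1) (le_inf c.Z_le_Q hZU)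
    rw [← Subgroup.inf_relIndex_right, e, ← Subgroup.relIndex_map_map_of_injective _ _ hf, hmapU,
      show c.Z.map f = cj n (c'.Z.map f') from hZ.symm, show D'.V = c'.V.map f' from rfl, hrelT,
      c'.relIndex_ZV hd']
  have hrW : W.relIndex c.TT = p ^ c'.n := by
    rw [← Subgroup.relIndex_map_map_of_injective _ _ hf, hmapW, show c.TT.map f = D.T from rfl,
      ← hnT, show D'.Q = (Cfsg.pCore p G').map f' from rfl, show D'.T = c'.TT.map f' from rfl, hrelT,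
      c'.relIndex_Q]
  obtain ⟨u₀, hu₀, hu₀Q⟩ := SetLike.not_le_iff_exists.1 hnot'
  have h1 : p ^ c.n ≤ W.relIndex c.V := by
    rw [← c.relIndex_ZV hd, ← Subgroup.inf_relIndex_right W c.V]
    exact Subgroup.relIndex_le_of_le_left
      (fun v hv => c.V_fix_eq hd (hUle hu₀) hu₀Q hv.2 (hQ' v hv.1 u₀ hu₀).symm)
      Subgroup.index_ne_zero_of_finite
  have hnn : p ^ c'.n = p ^ c.n := by
    refine le_antisymm ?_ (h1.trans ?_)
    · rw [← hrQU, ← c.relIndex_Q]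
      exact Subgroup.relIndex_le_of_le_right hUle Subgroup.index_ne_zero_of_finite
    · rw [← hrW]
      exact Subgroup.relIndex_le_of_le_right c.V_le_S Subgroup.index_ne_zero_of_finite
  rw [hnn] at hrQU hrW
  have hsup : Qc ⊔ U = c.TT := by
    refine le_antisymm (sup_le c.Q_le_S hUle) (Subgroup.relIndex_eq_one.1 ?_)
    have h := Subgroup.relIndex_mul_relIndex Qc (Qc ⊔ U) c.TT le_sup_left (sup_le c.Q_le_S hUle)
    rw [Subgroup.relIndex_sup_left, hrQU, c.relIndex_Q] at h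
    exact Nat.eq_of_mul_eq_mul_left (pow_pos hp.out.pos c.n) (h.trans (mul_one _).symm)
  have hWV : W ⊔ c.V = c.TT := by
    refine le_antisymm (sup_le hWle c.V_le_S) (Subgroup.relIndex_eq_one.1 ?_)
    have h2 : W.relIndex c.V ≤ W.relIndex (W ⊔ c.V) :=
      Subgroup.relIndex_le_of_le_right le_sup_right Subgroup.index_ne_zero_of_finite
    have h := Subgroup.relIndex_mul_relIndex W (W ⊔ c.V) c.TT le_sup_left (sup_le hWle c.V_le_S)
    rw [hrW] at h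
    have hpos : 0 < (W ⊔ c.V).relIndex c.TT := Nat.pos_of_ne_zero Subgroup.index_ne_zero_of_finite
    have hppos : 0 < p ^ c.n := pow_pos hp.out.pos c.n
    nlinarith
  refine ⟨U, W ⊓ Qc, ⟨hUle, hUcomm, hUpow, hsup, fun a ha u hu => ?_, inf_le_right,
    fun d hd u hu => hQ' d hd.1 u hu, fun a ha => ?_⟩, (Subgroup.map_mono inf_le_left).trans hmapW.le⟩
  · refine hinf _ ?_ ?_
    · show f ⁅a, u⁆ ∈ cj n D'.V
      rw [map_commutatorElement, commutatorElement_def]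
      refine mul_mem ?_ (inv_mem hu)
      have haT : f a ∈ cj n D'.T := hnT.symm ▸ (show f a ∈ D.T from ⟨a, c.Q_le_S ha, rfl⟩)
      have hu' : f u ∈ cj n D'.V := hu
      rw [mem_cj] at hu' haT ⊢
      have := D'.V_norm _ (D'.T_le_X haT) _ hu'
      simpa [mul_assoc] using this
    · rw [show ⁅a, u⁆ = a * (u * a⁻¹ * u⁻¹) by rw [commutatorElement_def]; group]
      exact mul_mem ha ((inferInstance : (Qc).Normal).conj_mem _ (inv_mem ha) u)
  · have h1 : a ∈ W ⊔ c.V := hWV.symm ▸ c.Q_le_S ha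
    rw [← SetLike.mem_coe, Subgroup.mul_normal] at h1
    obtain ⟨x, hx, v, hv, rfl⟩ := h1
    refine Subgroup.mul_mem_sup ⟨hx, ?_⟩ hv
    simpa using mul_mem ha (inv_mem (c.V_le_Q hv))

variable (hd : c.Good) {U D₀ : Subgroup G} (o : c.One U D₀)
include hd o

theorem One.exists_out : ¬ U ≤ Qc := fun h => by
  obtain ⟨t, ht, htQ⟩ := c.exists_out
  rw [← o.sup, sup_eq_left.2 h] at ht
  exact htQ ht

theorem One.R_sup : Subgroup.normalClosure (U : Set G) ⊔ Qc = ⊤ := by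
  have hn : ¬ Subgroup.normalClosure (U : Set G) ≤ c.π.ker := fun h => One.exists_out hd o fun u hu =>
    c.ker_inf ▸ (⟨o.le_S hu, h (Subgroup.le_normalClosure hu)⟩ : u ∈ c.TT ⊓ c.π.ker)
  rw [eq_top_iff, ← c.normal_sup _ Subgroup.normalClosure_normal hn,
    show (c.S : Subgroup G) = Qc ⊔ U from o.sup.symm]
  exact sup_le le_sup_left (sup_le le_sup_right (Subgroup.le_normalClosure.trans le_sup_left))

theorem One.R_le : Subgroup.normalClosure (U : Set G) ≤ secKer c.V Qc :=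
  Subgroup.normalClosure_le_normal fun u hu => mem_secKer.2 fun a ha => c.Z_le_V (o.comm_Q a ha u hu)

theorem One.hK : ∀ k ∈ c.π.ker, ∀ s ∈ c.TT, ⁅k, s⁆ ∈ Qc := by
  intro k hk
  have hu' : ∀ u ∈ U, ⁅k, u⁆ ∈ Qc := by
    intro u hu
    have hu1 : u ∈ secKer c.V Qc := One.R_le hd o (Subgroup.le_normalClosure hu)
    have hy1 : ⁅k, u⁆ ∈ secKer c.V Qc := by
      rw [commutatorElement_def]
      exact mul_mem ((inferInstance : (secKer c.V Qc).Normal).conj_mem u hu1 k) (inv_mem hu1)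
    have hy2 : ⁅k, u⁆ ∈ secKer (⊥ : Subgroup G) c.V := (c.secV hd).comm_ker hk (o.le_S hu)
    rw [secKer_bot] at hy2
    have hyk : ⁅k, u⁆ ∈ c.π.ker := by
      rw [show ⁅k, u⁆ = k * (u * k⁻¹ * u⁻¹) by rw [commutatorElement_def]; group]
      exact mul_mem hk ((inferInstance : c.π.ker.Normal).conj_mem _ (inv_mem hk) u)
    refine mem_Q_of_coprime_part hyk fun z hz hzc => cent_step c.V_le_Q hzc ?_ ?_
    · exact Subgroup.zpowers_le.2 hy2 hz
    · exact Subgroup.zpowers_le.2 hy1 hz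
  intro s hs
  rw [← o.sup, ← SetLike.mem_coe, Subgroup.normal_mul] at hs
  obtain ⟨q, hq, u, hu, rfl⟩ := hs
  show ⁅k, q * u⁆ ∈ Qc
  rw [show ⁅k, q * u⁆ = ⁅k, q⁆ * (q * ⁅k, u⁆ * q⁻¹) by simp only [commutatorElement_def]; group]
  refine mul_mem ?_ (mul_mem (mul_mem hq (hu' u hu)) (inv_mem hq))
  rw [commutatorElement_def]
  exact mul_mem ((inferInstance : (Qc).Normal).conj_mem q hq k) (inv_mem hq)

theorem One.natural (U' W' : Subgroup G) [W'.Normal] (hU : U' ≤ Qc) (hch : Cfsg.IsChiefFactor U' W')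
    (hne : ¬ ⁅U', (⊤ : Subgroup G)⁆ ≤ W') :
    Cfsg.IsNaturalSL2Module F (U'.map (QuotientGroup.mk' W')) (⊤ : Subgroup (G ⧸ W')) := by
  obtain ⟨nc⟩ := exists_natCoord (One.hK hd o) (c.secV hd)
  haveI : (fixG ⊥ c.V).Normal := inferInstance
  have h0 : ¬ U' ≤ (U' ⊓ (⊥ : Subgroup G)) ⊔ W' := by
    rw [inf_bot_eq, bot_sup_eq]
    exact hch.1.not_ge
  by_cases h1 : U' ≤ (U' ⊓ fixG ⊥ c.V) ⊔ W'
  · refine absurd ((chief_step (c := c) hch hU h1 h0).1 ⊤ (top_sup_eq _) fun g _ => mem_secKer.2 fun u hu =>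
      (mem_fixG.1 hu).2 g) hne
  by_cases h2 : U' ≤ (U' ⊓ c.V) ⊔ W'
  · exact (chief_step (c := c) hch hU h2 h1).2 rfl (c.secV hd) nc
  · refine absurd ((chief_step (c := c) hch hU (M := Qc) ?_ h2).1 _ (One.R_sup hd o) (One.R_le hd o)) hne
    rw [inf_eq_left.2 hU]; exact le_sup_left

theorem One.mem_decomp {s : G} (hs : s ∈ c.TT) :
    ∃ d ∈ D₀, ∃ v ∈ c.V, ∃ u ∈ U, s = d * (v * u) := by
  rw [← o.sup, ← SetLike.mem_coe, Subgroup.normal_mul] at hs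
  obtain ⟨q, hq, u, hu, rfl⟩ := hs
  have h := o.cover hq
  rw [← SetLike.mem_coe, Subgroup.mul_normal] at h
  obtain ⟨d, hd', v, hv, rfl⟩ := h
  exact ⟨d, hd', v, hv, u, hu, mul_assoc _ _ _⟩

theorem One.d_comm {d v u : G} (hd' : d ∈ D₀) (hv : v ∈ c.V) (hu : u ∈ U) :
    Commute d (v * u) :=
  (show Commute d v from c.Q_cent (o.D_le hd') hv).mul_right (o.D_comm d hd' u hu)

theorem One.uv_comm {u v : G} (hu : u ∈ U) (hv : v ∈ c.V) : ⁅u, v⁆ ∈ c.Z := by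
  rw [← commutatorElement_inv]
  exact inv_mem (c.V_comm_mem hd (o.le_S hu) hv)

theorem One.class_two (hN : c.NoChar) : c.TT.lowerCentralSeries 2 = ⊥ := by
  have hZc : ∀ z ∈ c.Z, ∀ s ∈ c.TT, s * z * s⁻¹ = z := fun z hz s hs => by
    rw [hz.2.2 s hs, mul_inv_cancel_right]
  have hw : ∀ v₁ ∈ c.V, ∀ u₁ ∈ U, ∀ v₂ ∈ c.V, ∀ u₂ ∈ U, ⁅v₁ * u₁, v₂ * u₂⁆ ∈ c.Z := by
    intro v₁ hv₁ u₁ hu₁ v₂ hv₂ u₂ hu₂
    have e1 : ⁅u₁, u₂⁆ = 1 := commutatorElement_eq_one_iff_mul_comm.2 (o.comm _ hu₁ _ hu₂)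
    have e2 : ⁅v₁, v₂⁆ = 1 := commutatorElement_eq_one_iff_mul_comm.2 (c.V_comm hv₁ hv₂)
    rw [show ⁅v₁ * u₁, v₂ * u₂⁆ = (v₁ * (⁅u₁, v₂⁆ * (v₂ * ⁅u₁, u₂⁆ * v₂⁻¹)) * v₁⁻¹) *
        (⁅v₁, v₂⁆ * (v₂ * ⁅v₁, u₂⁆ * v₂⁻¹)) by simp only [commutatorElement_def]; group, e1, e2, mul_one,
      mul_inv_cancel, mul_one, one_mul, hZc _ (One.uv_comm hd o hu₁ hv₂) _ (c.V_le_S hv₁),
      hZc _ (c.V_comm_mem hd (o.le_S hu₂) hv₁) _ (c.V_le_S hv₂)]
    exact mul_mem (One.uv_comm hd o hu₁ hv₂) (c.V_comm_mem hd (o.le_S hu₂) hv₁)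
  have hDS : D₀.lowerCentralSeries 1 ≤ c.TT :=
    (D₀.lowerCentralSeries_antitone (Nat.zero_le 1)).trans (o.D_le.trans c.Q_le_S)
  have hnorm : D₀.lowerCentralSeries 1 ≤ Subgroup.normalizer (c.Z : Set G) := fun x hx => by
    rw [← cj_eq_iff]
    refine Subgroup.eq_of_le_of_card_ge ?_ (card_cj _ _).ge
    rintro _ ⟨z, hz, rfl⟩
    show x * z * x⁻¹ ∈ c.Z
    rw [hZc z hz x (hDS hx)]; exact hz
  have h2 : c.TT.lowerCentralSeries 1 ≤ D₀.lowerCentralSeries 1 ⊔ c.Z := by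
    refine Subgroup.commutator_le.2 fun s₁ hs₁ s₂ hs₂ => ?_
    obtain ⟨d₁, hd₁, v₁, hv₁, u₁, hu₁, rfl⟩ := One.mem_decomp hd o hs₁
    obtain ⟨d₂, hd₂, v₂, hv₂, u₂, hu₂, rfl⟩ := One.mem_decomp hd o hs₂
    have e1 : ⁅v₁ * u₁, d₂⁆ = 1 :=
      commutatorElement_eq_one_iff_mul_comm.2 (One.d_comm hd o hd₂ hv₁ hu₁).eq.symm
    have e2 : ⁅d₁, v₂ * u₂⁆ = 1 :=
      commutatorElement_eq_one_iff_mul_comm.2 (One.d_comm hd o hd₁ hv₂ hu₂).eq
    show ⁅d₁ * (v₁ * u₁), d₂ * (v₂ * u₂)⁆ ∈ _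
    rw [show ⁅d₁ * (v₁ * u₁), d₂ * (v₂ * u₂)⁆ =
        d₁ * (⁅v₁ * u₁, d₂⁆ * (d₂ * ⁅v₁ * u₁, v₂ * u₂⁆ * d₂⁻¹)) * d₁⁻¹ *
          (⁅d₁, d₂⁆ * (d₂ * ⁅d₁, v₂ * u₂⁆ * d₂⁻¹)) by simp only [commutatorElement_def]; group,
      e1, e2, mul_one, mul_inv_cancel, mul_one, one_mul,
      hZc _ (hw _ hv₁ _ hu₁ _ hv₂ _ hu₂) _ (c.Q_le_S (o.D_le hd₂)),
      hZc _ (hw _ hv₁ _ hu₁ _ hv₂ _ hu₂) _ (c.Q_le_S (o.D_le hd₁))]
    refine mul_mem (Subgroup.mem_sup_right (hw _ hv₁ _ hu₁ _ hv₂ _ hu₂)) (Subgroup.mem_sup_left ?_)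
    exact Subgroup.commutator_mem_commutator hd₁ hd₂
  refine lcs_eq_bot hN (le_trans ?_ (lcs_mono o.D_le 2))
  rw [Subgroup.lowerCentralSeries_succ]
  refine Subgroup.commutator_le.2 fun x hx s hs => ?_
  have hx' := h2 hx
  rw [← SetLike.mem_coe, Subgroup.coe_mul_of_left_le_normalizer_right _ _ hnorm] at hx'
  obtain ⟨a, ha, z, hz, rfl⟩ := hx'
  obtain ⟨d, hd', v, hv, u, hu, rfl⟩ := One.mem_decomp hd o hs
  have haD : a ∈ D₀ := D₀.lowerCentralSeries_antitone (Nat.zero_le 1) ha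
  have e1 : ⁅z, d * (v * u)⁆ = 1 := commutatorElement_eq_one_iff_mul_comm.2 (hz.2.2 _ hs).symm
  have e2 : ⁅a, v * u⁆ = 1 := commutatorElement_eq_one_iff_mul_comm.2 (One.d_comm hd o haD hv hu).eq
  show ⁅a * z, d * (v * u)⁆ ∈ D₀.lowerCentralSeries 2
  rw [show ⁅a * z, d * (v * u)⁆ = a * ⁅z, d * (v * u)⁆ * a⁻¹ * (⁅a, d⁆ * (d * ⁅a, v * u⁆ * d⁻¹)) by
    simp only [commutatorElement_def]; group, e1, e2, mul_one, mul_inv_cancel, one_mul, mul_one,
    mul_inv_cancel, mul_one]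
  exact Subgroup.commutator_mem_commutator ha hd'

theorem One.not_comm : ∃ v ∈ c.V, ∃ u ∈ U, ⁅v, u⁆ ∉ c.C₀ := by
  obtain ⟨u, hu, huQ⟩ := SetLike.not_le_iff_exists.1 (One.exists_out hd o)
  obtain ⟨v, hv, hvZ⟩ := SetLike.not_le_iff_exists.1 fun h : c.V ≤ c.Z => c.Z_not_normal hd
    (le_antisymm c.Z_le_V h ▸ c.V_normal)
  exact ⟨v, hv, u, hu, c.V_comm_not_mem hd (o.le_S hu) huQ hv hvZ⟩

theorem One.nonabelian : c.TT.lowerCentralSeries 1 ≠ ⊥ := by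
  obtain ⟨v, hv, u, hu, hne⟩ := One.not_comm hd o
  intro h
  refine hne ?_
  have h1 : ⁅v, u⁆ ∈ c.TT.lowerCentralSeries 1 :=
    Subgroup.commutator_mem_commutator (c.V_le_S hv) (o.le_S hu)
  rw [h, Subgroup.mem_bot] at h1
  rw [h1]; exact one_mem _

theorem One.pow_all (hN : c.NoChar) {e : ℕ} (he : ∀ v ∈ c.V, ∀ u ∈ U, (v * u) ^ e = 1) : ∀ s ∈ c.TT, s ^ e = 1 := by
  refine pow_eq_one hN fun s hs => ?_
  obtain ⟨d, hd', v, hv, u, hu, rfl⟩ := One.mem_decomp hd o hs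
  refine ⟨d, o.D_le hd', ?_⟩
  rw [(One.d_comm hd o hd' hv hu).mul_pow, he v hv u hu, mul_one]

theorem One.exponent_odd (hN : c.NoChar) (h2 : p ≠ 2) : Monoid.exponent ↥c.TT = p := by
  have hall : ∀ s ∈ c.TT, s ^ p = 1 := One.pow_all hd o hN fun v hv u hu => by
    have hz := One.uv_comm hd o hu hv
    rw [mul_pow_comm (z := ⁅u, v⁆) (by rw [commutatorElement_def]; group)
        ((hz.2.2 u (o.le_S hu)).symm) ((hz.2.2 v (c.V_le_S hv)).symm) p,
      c.V_pow hv, o.pow u hu, one_mul, mul_one]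
    obtain ⟨m, hm⟩ := hp.out.dvd_choose_self (k := 2) two_ne_zero (lt_of_le_of_ne hp.out.two_le (Ne.symm h2))
    rw [hm, pow_mul, hz.2.1, one_pow]
  haveI : Nontrivial ↥c.TT := (Subgroup.nontrivial_iff_ne_bot _).2 c.S_ne
  rcases (Nat.dvd_prime hp.out).1 (Monoid.exponent_dvd_of_forall_pow_eq_one (G := ↥c.TT)
    fun s => Subtype.ext (hall s s.2)) with h | h
  · obtain ⟨a, ha⟩ := exists_ne (1 : ↥c.TT)
    exact absurd (by simpa [h] using Monoid.pow_exponent_eq_one a) ha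
  · exact h

theorem One.exponent_two (hN : c.NoChar) (h2 : p = 2) : Monoid.exponent ↥c.TT = 4 := by
  subst h2
  have hall : ∀ s ∈ c.TT, s ^ 4 = 1 := One.pow_all hd o hN fun v hv u hu => by
    have hz := One.uv_comm hd o hu hv
    rw [mul_pow_comm (z := ⁅u, v⁆) (by rw [commutatorElement_def]; group)
        ((hz.2.2 u (o.le_S hu)).symm) ((hz.2.2 v (c.V_le_S hv)).symm) 4,
      show (4 : ℕ) = 2 * 2 from rfl, show Nat.choose (2 * 2) 2 = 2 * 3 from rfl,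
      pow_mul, pow_mul, pow_mul, hz.2.1, c.V_pow hv, o.pow u hu, one_pow, one_pow, one_mul, one_mul]
  have hdvd : Monoid.exponent ↥c.TT ∣ 2 ^ 2 := Monoid.exponent_dvd_of_forall_pow_eq_one (G := ↥c.TT)
    fun s => Subtype.ext (hall s s.2)
  obtain ⟨i, hi, he⟩ := (Nat.dvd_prime_pow Nat.prime_two).1 hdvd
  by_contra hne
  have hi2 : i ≤ 1 := by
    by_contra h
    refine hne (he.trans ?_)
    rw [show i = 2 by omega]; rfl
  obtain ⟨v, hv, u, hu, hnc⟩ := One.not_comm hd o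
  refine hnc ?_
  have hsq : ∀ s : ↥c.TT, s * s = 1 := fun s => by
    rw [← pow_two, ← Monoid.exponent_dvd_iff_forall_pow_eq_one.1 (he ▸ pow_dvd_pow 2 hi2) s, pow_one]
  have hsq' : ∀ s ∈ c.TT, s⁻¹ = s := fun s hs =>
    inv_eq_of_mul_eq_one_left (congrArg Subtype.val (hsq ⟨s, hs⟩))
  have h := hsq' _ (mul_mem (c.V_le_S hv) (o.le_S hu))
  rw [_root_.mul_inv_rev, hsq' _ (c.V_le_S hv), hsq' _ (o.le_S hu)] at h
  rw [commutatorElement_eq_one_iff_mul_comm.2 h.symm]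
  exact one_mem _

theorem One.factors : ∃ U W : Subgroup G, W ≤ U ∧ U ≤ Qc ∧ Cfsg.IsChiefFactor U W ∧
    ¬ ⁅U, (⊤ : Subgroup G)⁆ ≤ W ∧ (∃ k : ℕ, Cfsg.iterCommutator W ⊤ k = ⊥) ∧
      ∃ k : ℕ, Cfsg.iterCommutator Qc ⊤ k ≤ U := by
  have hC := c.secV hd
  haveI : c.C₀.Normal := fixG_bot c ▸ fixG_normal ⊥ c.V
  obtain ⟨v, hv, u, hu, hne⟩ := One.not_comm hd o
  have hlt : c.C₀ < c.V := lt_of_le_not_ge inf_le_left fun h => by
    refine hne ?_
    rw [commutatorElement_eq_one_iff_mul_comm.2 (Subgroup.mem_center_iff.1 (h hv).2 u).symm]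
    exact one_mem _
  refine ⟨c.V, c.C₀, inf_le_left, c.V_le_Q, ⟨hlt, c.V_normal, inferInstance, fun N hN hWN hNV => ?_⟩,
    fun h => hne (h (Subgroup.commutator_mem_commutator hv (Subgroup.mem_top u))), ⟨1, ?_⟩,
    iter_le (One.R_sup hd o) (One.R_le hd o)⟩
  · haveI := hN
    by_cases hle : N ≤ fixG ⊥ c.V
    · exact Or.inl (le_antisymm (hle.trans (fixG_bot c).le) hWN)
    · exact Or.inr (le_antisymm hNV ((hC.irreducible hNV hle).trans
        (sup_le le_rfl ((fixG_bot c).le.trans hWN))))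
  · refine le_bot_iff.1 (Subgroup.commutator_le.2 fun x hx g _ => Subgroup.mem_bot.2
      (commutatorElement_eq_one_iff_mul_comm.2 (Subgroup.mem_center_iff.1 hx.2 g).symm))

end Sit

end Cfsg.Agent.Lib.PushUpP
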