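import Cfsg.Agent.Lib.PushUpP.Fam

/-!
Paths of vertices, minimal noncommuting distance, shifting.
-/

set_option autoImplicit false

namespace Cfsg.Agent.Lib.PushUpP

open scoped commutatorElement

variable {Γ : Type*} [Group Γ]

namespace Fam

variable {p : ℕ} {ι : Type*} (F : Fam Γ p ι)

/-- Two vertices share an edge. -/
def Adj (v w : Γ × ι) : Prop := ∃ n E, F.AdjN n v w E

/-- Vertices at distance at most `k`. -/
def Near : ℕ → Γ × ι → Γ × ι → Prop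
  | 0, v, w => F.Eqv v w
  | k + 1, v, w => ∃ u, Near k v u ∧ F.Adj u w

/-- `V`'s at distance less than `b` commute. -/
def Far (b : ℕ) : Prop := ∀ k < b, ∀ v w, F.Near k v w → F.VV v ≤ F.QQ w

variable {F}

theorem Adj.symm {v w : Γ × ι} : F.Adj v w → F.Adj w v := fun ⟨n, E, a⟩ => ⟨n⁻¹, E, a.symm⟩

theorem Near.prepend : ∀ {k : ℕ} {v u w : Γ × ι}, F.Adj v u → F.Near k u w → F.Near (k + 1) v w
  | 0, v, u, w, ⟨n, E, a⟩, hu => ⟨v, Eqv.refl v, n, E, a.eqv_right hu⟩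
  | k + 1, _, _, _, ha, ⟨x, hx, hxw⟩ => ⟨x, Near.prepend ha hx, hxw⟩

theorem Near.symm : ∀ {k : ℕ} {v w : Γ × ι}, F.Near k v w → F.Near k w v
  | 0, _, _, h => Eqv.symm h
  | k + 1, _, _, ⟨u, hu, huh⟩ => Near.prepend huh.symm (Near.symm hu)

theorem Near.eqv_right : ∀ {k : ℕ} {v w w' : Γ × ι}, F.Near k v w → F.Eqv w w' → F.Near k v w'
  | 0, _, _, _, hgh, hh => Eqv.trans hgh hh
  | k + 1, _, _, _, ⟨u, hu, n, E, a⟩, hh => ⟨u, hu, n, E, a.eqv_right hh⟩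

theorem Near.eqv_left {k : ℕ} {v v' w : Γ × ι} (hn : F.Near k v w) (hg : F.Eqv v v') : F.Near k v' w :=
  (hn.symm.eqv_right hg).symm

theorem Near.lmul : ∀ {k : ℕ} {v w : Γ × ι} (c : Γ), F.Near k v w → F.Near k (lmul c v) (Fam.lmul c w)
  | 0, _, _, c, hgh => Eqv.lmul hgh c
  | _ + 1, _, _, c, ⟨u, hu, n, E, a⟩ => ⟨Fam.lmul c u, Near.lmul c hu, n, cj c E, a.lmul c⟩

theorem AdjN.near {n : Γ} {v w : Γ × ι} {E : Subgroup Γ} (a : F.AdjN n v w E) : F.Near 1 v w :=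
  ⟨v, Eqv.refl v, n, E, a⟩

theorem Near.extend {k : ℕ} {v w u : Γ × ι} {n : Γ} {E : Subgroup Γ} (h : F.Near k v w) (a : F.AdjN n w u E) :
    F.Near (k + 1) v u := ⟨w, h, n, E, a⟩

theorem Far.commute {b k : ℕ} {v w : Γ × ι} {u x : Γ} (hF : F.Far b) (hk : k < b) (hn : F.Near k v w)
    (hu : u ∈ F.VV v) (hx : x ∈ F.VV w) : u * x = x * u :=
  Data.Q_cent' (hF k hk v w hn hu) hx

/-- A critical path of length `b`. -/
structure Path {p : ℕ} {ι : Type*} (F : Fam Γ p ι) (b : ℕ) where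
  f : ℕ → Γ × ι
  E : ℕ → Subgroup Γ
  off : ℕ → Γ
  adj : ∀ i < b, F.AdjN (off i) (f i) (f (i + 1)) (E i)
  crit : ¬ F.VV (f 0) ≤ F.QQ (f b)

theorem exists_seq : ∀ {k : ℕ} {v w : Γ × ι}, F.Near k v w →
    ∃ (f : ℕ → Γ × ι) (E : ℕ → Subgroup Γ) (off : ℕ → Γ), F.Eqv v (f 0) ∧ f k = w ∧
      ∀ i < k, F.AdjN (off i) (f i) (f (i + 1)) (E i)
  | 0, v, w, h => ⟨fun _ => w, fun _ => F.T, fun _ => 1, h, rfl, fun i hi => absurd hi (Nat.not_lt_zero i)⟩
  | k + 1, v, w, ⟨u, hu, n, E₁, a⟩ => by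
    obtain ⟨f, E, off, h0, hk, hf⟩ := exists_seq hu
    refine ⟨fun i => if i ≤ k then f i else w, fun i => if i < k then E i else E₁,
      fun i => if i < k then off i else n, by simpa using h0, by simp, fun i hi => ?_⟩
    rcases Nat.lt_or_eq_of_le (Nat.lt_succ_iff.1 hi) with h1 | rfl
    · simp only [if_pos h1.le, if_pos (Nat.succ_le_of_lt h1), if_pos h1]
      exact hf i h1
    · simp only [le_refl, if_true, lt_irrefl, if_false, show ¬ i + 1 ≤ i by omega]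
      rw [hk]; exact a

theorem Path.near {b : ℕ} (P : F.Path b) : ∀ j i : ℕ, i + j ≤ b → F.Near j (P.f i) (P.f (i + j))
  | 0, i, _ => Eqv.refl (P.f i)
  | j + 1, i, h => ⟨P.f (i + j), P.near j i (by omega), _, _, P.adj (i + j) (by omega)⟩

theorem Path.near_of {b : ℕ} (P : F.Path b) {i j k : ℕ} (h : i + k = j) (hj : j ≤ b) :
    F.Near k (P.f i) (P.f j) := h ▸ P.near k i (h ▸ hj)

theorem Path.le_E {b : ℕ} (P : F.Path b) (hF : F.Far b) (hb : 1 ≤ b) :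
    F.VV (P.f b) ≤ P.E 0 ∧ F.VV (P.f 0) ≤ P.E (b - 1) :=
  ⟨(hF (b - 1) (by omega) _ _ (P.near_of (i := 1) (by omega) le_rfl).symm).trans (P.adj 0 (by omega)).edge'.Q_le,
    (hF (b - 1) (by omega) _ _ (P.near_of (i := 0) (by omega) (by omega))).trans
      (P.adj (b - 1) (by omega)).edge.Q_le⟩

theorem Path.toCrit {b : ℕ} (P : F.Path b) (hF : F.Far b) (hb : 1 ≤ b) :
    F.Crit (P.f 0) (P.f b) (P.E 0) (P.E (b - 1)) := by
  have e := P.adj (b - 1) (by omega)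
  rw [show b - 1 + 1 = b by omega] at e
  exact ⟨(P.adj 0 (by omega)).edge, e.edge', (P.le_E hF hb).1, (P.le_E hF hb).2, P.crit⟩

/-- The reversed path. -/
def Path.rev {b : ℕ} (P : F.Path b) (hF : F.Far b) (hb : 1 ≤ b) : F.Path b where
  f i := P.f (b - i)
  E i := P.E (b - 1 - i)
  off i := (P.off (b - 1 - i))⁻¹
  adj i hi := by
    have h := (P.adj (b - 1 - i) (by omega)).symm
    rw [show b - 1 - i + 1 = b - i by omega] at h
    rwa [show b - (i + 1) = b - 1 - i by omega]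
  crit := by
    have h := (P.toCrit hF hb).symm.2.2.2.2
    simpa using h

/-- The left end of a critical path is not bad, seen from the second vertex. -/
theorem Path.good_left {b : ℕ} (P : F.Path b) (hF : F.Far b) (hb : 2 ≤ b) :
    ¬ F.Bad (P.f 1).2 (P.f 0).2 (P.off 0)⁻¹ := by
  intro hbad
  have a0 := (P.adj 0 (by omega)).symm
  have a1 := P.adj 1 (by omega)
  rw [a0.bad_iff] at hbad
  obtain ⟨hm, x0, hx0, x0', hx0', hf0, hE0⟩ := id a0
  obtain ⟨-, x1, hx1, -, -, -, hE1⟩ := id a1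
  set v1 := P.f 1 with hv1
  set y := v1.1 * x1 * x0⁻¹ * v1.1⁻¹ with hy
  have hyX : y ∈ F.XX v1 := mem_cj.2 (by
    have := (F.D v1.2).X.mul_mem hx1 ((F.D v1.2).X.inv_mem hx0)
    simpa [hy, mul_assoc] using this)
  have a' : F.AdjN (P.off 0)⁻¹ v1 (lmul y (P.f 0)) (P.E 1) := by
    refine ⟨hm, x1, hx1, x0', hx0', ?_, hE1⟩
    show y * (P.f 0).1 = _
    rw [hf0, hy]; group
  obtain ⟨k, hk⟩ := a'.share a1
  have hnear : F.Near (b - 1) (lmul y (P.f 0)) (P.f b) := by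
    have h2 := Near.prepend ⟨k, _, hk⟩ (P.near_of (i := 2) (j := b) (k := b - 2) (by omega) le_rfl)
    rwa [show b - 2 + 1 = b - 1 by omega] at h2
  refine P.crit fun v hv => ?_
  have hle : F.VV (lmul y (P.f 0)) ⊔ F.VV v1 ≤ F.QQ (P.f b) :=
    sup_le (hF _ (by omega) _ _ hnear)
      (hF (b - 1) (by omega) _ _ (P.near_of (i := 1) (by omega) le_rfl))
  have h2 : cj y (F.VV (P.f 0) ⊔ F.VV v1) = F.VV (P.f 0) ⊔ F.VV v1 := by
    ext u
    rw [mem_cj]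
    exact ⟨fun h => by simpa [mul_assoc] using hbad y hyX _ h,
      fun h => by simpa [mul_assoc] using hbad y⁻¹ ((F.XX v1).inv_mem hyX) _ h⟩
  rw [cj_sup, cj_V_self hyX, ← lmul_V] at h2
  exact hle (h2.symm ▸ Subgroup.mem_sup_left hv)

/-- Shift a critical path to the left along a good offset. -/
theorem Path.exists_shift {b : ℕ} (P : F.Path b) (hF : F.Far b) (hb : 1 ≤ b) {n : Γ} {j : ι} (hnN : n ∈ F.N)
    (hn : ¬ F.Bad (P.f 0).2 j n) : ∃ P' : F.Path b, ¬ Same p (P'.E 0) (P.E 0) ∧ P'.off 0 = n⁻¹ ∧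
      (P'.f 0).2 = j ∧ ∀ i, P'.f (i + 1) = P.f i ∧ P'.E (i + 1) = P.E i ∧ P'.off (i + 1) = P.off i := by
  obtain ⟨x, hx, hxne⟩ := (P.adj 0 (by omega)).edge.exists_other
  rw [F.hT] at hxne
  have a : F.AdjN n (P.f 0) ((P.f 0).1 * x * n, j) (cj ((P.f 0).1 * x) F.T) :=
    ⟨hnN, x, hx, 1, (F.D j).X.one_mem, (mul_one _).symm, rfl⟩
  refine ⟨⟨fun i => match i with | 0 => ((P.f 0).1 * x * n, j) | i + 1 => P.f i,
    fun i => match i with | 0 => cj ((P.f 0).1 * x) F.T | i + 1 => P.E i,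
    fun i => match i with | 0 => n⁻¹ | i + 1 => P.off i, ?_, ?_⟩, hxne, rfl, rfl,
    fun i => ⟨rfl, rfl, rfl⟩⟩
  · intro i hi
    match i with
    | 0 => exact a.symm
    | i + 1 => exact P.adj i (by omega)
  · obtain ⟨c, rfl⟩ : ∃ c, b = c + 1 := ⟨b - 1, by omega⟩
    intro hle
    exact shift (P.toCrit hF hb) a hxne hn
      (hle.trans (P.adj c (by omega)).edge.Q_le)

end Fam

end Cfsg.Agent.Lib.PushUpP
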