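import Cfsg.Agent.Lib.PushUpP.One
import Cfsg.Agent.Lib.PushUpP.Torus
import Cfsg.Agent.Lib.LAEven54.QdOver
import Cfsg.Agent.Lib.Linear.Simple
import Cfsg.Prelude.Def_TwoFusion
import Mathlib.GroupTheory.Transfer

/-!
With `Q` elementary abelian and `p ≥ 5` the group is `Qd(q) × E`.
-/

set_option autoImplicit false
set_option linter.unusedSectionVars false
set_option linter.style.haveILetI false

open scoped commutatorElement

namespace Cfsg.Agent.Lib.PushUpP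

theorem eq_one_of_central_of_mem_commutator {H : Type*} [Group H] [Finite H] (P : Subgroup H)
    (hP : ∀ a ∈ P, ∀ b ∈ P, a * b = b * a) {p : ℕ} (hidx : Nat.Coprime p P.index) {z : H} (hz : z ∈ P)
    (hc : ∀ g : H, g * z = z * g) (hz' : z ∈ commutator H) (hzp : z ^ p = 1) : z = 1 := by
  letI : CommGroup ↥P :=
    { (inferInstance : Group ↥P) with mul_comm := fun a b => Subtype.ext (hP a a.2 b b.2) }
  have key : ∀ (k : ℕ) (g₀ : H), g₀⁻¹ * z ^ k * g₀ ∈ P → g₀⁻¹ * z ^ k * g₀ = z ^ k := fun k g₀ _ => by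
    rw [mul_assoc, ← (Commute.pow_right (hc g₀) k).eq, inv_mul_cancel_left]
  have h1 := MonoidHom.transfer_eq_pow (MonoidHom.id ↥P) z key
  have h2 : MonoidHom.transfer (MonoidHom.id ↥P) z = 1 :=
    Abelianization.commutator_subset_ker _ hz'
  rw [h2] at h1
  have h3 : z ^ P.index = 1 := congrArg Subtype.val h1.symm
  have := pow_gcd_eq_one.2 ⟨hzp, h3⟩
  rwa [hidx.gcd_eq_one, pow_one] at this

namespace Sit

open Cfsg.Agent.Lib.LAEven57.PushingUp
open Cfsg.Agent.Lib.LAEven54 (QdOver.mk QdOver.exists_mk QdOver.mk_inj QdOver.mk_mul)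

variable {G : Type*} [Group G] [Finite G] {p : ℕ} [hp : Fact p.Prime] {F : Type} [Field F] [Fintype F]
variable {c : Sit G p F}

local notation "Qc" => Cfsg.pCore p G

theorem exists_qd (hd : c.NoChar) (hp5 : 5 ≤ p) {U D₀ : Subgroup G} (o : c.One U D₀)
    (hab : ∀ a ∈ Qc, ∀ b ∈ Qc, a * b = b * a) :
    ∃ E : Subgroup G, Cfsg.IsInternalDirectProduct (commutator G) E ⊤ ∧ Cfsg.IsElementaryAbelian p E ∧
      Nonempty (↥(commutator G) ≃* ↥(Cfsg.qdOver F)) := by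
  classical
  haveI : CharP F p := Lib.SL2Module.charP_of_card c.hF
  have hpow : ∀ x ∈ Qc, x ^ p = 1 := fun x hx => by
    have h := One.exponent_odd hd.good o hd (show p ≠ 2 by omega)
    have h1 := Monoid.pow_exponent_eq_one (⟨x, c.Q_le_S hx⟩ : ↥c.TT)
    rw [h] at h1
    exact congrArg Subtype.val h1
  obtain ⟨k, hk⟩ : ∃ k, p = 2 * k + 1 := hp.out.odd_of_ne_two (by omega)
  have half : ∀ x ∈ Qc, (x * x) ^ (k + 1) = x := fun x hx => by
    rw [← pow_two, ← pow_mul, show 2 * (k + 1) = p + 1 by omega, pow_succ, hpow x hx, one_mul]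
  have hQV : ∀ q ∈ Qc, ∀ g : G, ⁅q, g⁆ ∈ c.V := by
    intro q hq g
    have htop : (⊤ : Subgroup G) ≤ secKer c.V Qc := One.R_sup hd.good o ▸ sup_le (One.R_le hd.good o)
      fun a ha => mem_secKer.2 fun b hb => by
        rw [commutatorElement_eq_one_iff_mul_comm.2 (hab b hb a ha)]; exact one_mem _
    exact mem_secKer.1 (htop (Subgroup.mem_top g)) q hq
  obtain ⟨nc⟩ := exists_natCoord (One.hK hd.good o) (c.secV hd.good)
  have hq4 : 4 ≤ Nat.card F := by
    rw [Nat.card_eq_fintype_card, c.hF]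
    have h1 := Nat.le_self_pow (show c.n ≠ 0 by have := c.hn; omega) p
    omega
  have hperf : (commutator G).map nc.ρ = ⊤ := by
    rw [commutator_def, Subgroup.map_commutator, Subgroup.map_top_of_surjective _ nc.surj, ← commutator_def]
    exact Lib.Linear.commutator_SL_eq_top le_rfl fun _ => hq4
  have hcov : ∀ A : SL2 F, ∃ g ∈ commutator G, nc.ρ g = A := fun A => by
    have h : A ∈ (commutator G).map nc.ρ := hperf ▸ Subgroup.mem_top A
    exact h
  have hker : ∀ {x : G}, nc.ρ x = 1 ↔ x ∈ Qc := fun {x} => by rw [← nc.ker, MonoidHom.mem_ker]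
  let N1 : SL2 F := ⟨!![-1, 0; 0, -1], by simp [Matrix.det_fin_two]⟩
  obtain ⟨t, ht', ht⟩ := hcov N1
  have hN1 : ∀ A : SL2 F, N1 * A = A * N1 := fun A => by
    apply Matrix.SpecialLinearGroup.ext
    intro i j
    rw [Matrix.SpecialLinearGroup.coe_mul, Matrix.SpecialLinearGroup.coe_mul]
    fin_cases i <;> fin_cases j <;> simp [N1, Matrix.mul_apply, Fin.sum_univ_two]
  have hN1sq : N1 * N1 = 1 := by
    apply Matrix.SpecialLinearGroup.ext
    intro i j
    rw [Matrix.SpecialLinearGroup.coe_mul, Matrix.SpecialLinearGroup.coe_one]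
    fin_cases i <;> fin_cases j <;> simp [N1, Matrix.mul_apply, Fin.sum_univ_two]
  have hQn : ∀ (g : G), ∀ x ∈ Qc, g * x * g⁻¹ ∈ Qc := fun g x hx =>
    (inferInstance : (Qc).Normal).conj_mem x hx g
  have hinvol : ∀ x ∈ Qc, t * (t * x * t⁻¹) * t⁻¹ = x := fun x hx => by
    have h1 : t * t ∈ Qc := hker.1 (by rw [map_mul, ht, hN1sq])
    calc t * (t * x * t⁻¹) * t⁻¹ = (t * t) * x * (t * t)⁻¹ := by group
      _ = x := by rw [hab _ h1 x hx, mul_inv_cancel_right]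
  -- the two eigenspaces
  let M : Subgroup G :=
    { carrier := {x | x ∈ Qc ∧ t * x * t⁻¹ = x⁻¹}
      one_mem' := ⟨one_mem _, by group⟩
      mul_mem' := fun {a b} ha hb => ⟨mul_mem ha.1 hb.1, by
        rw [show t * (a * b) * t⁻¹ = (t * a * t⁻¹) * (t * b * t⁻¹) by group, ha.2, hb.2, _root_.mul_inv_rev]
        exact hab _ (inv_mem ha.1) _ (inv_mem hb.1)⟩
      inv_mem' := fun {a} ha => ⟨inv_mem ha.1, by
        rw [show t * a⁻¹ * t⁻¹ = (t * a * t⁻¹)⁻¹ by group, ha.2]⟩ }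
  let E : Subgroup G :=
    { carrier := {x | x ∈ Qc ∧ t * x * t⁻¹ = x}
      one_mem' := ⟨one_mem _, by group⟩
      mul_mem' := fun {a b} ha hb => ⟨mul_mem ha.1 hb.1, by
        rw [show t * (a * b) * t⁻¹ = (t * a * t⁻¹) * (t * b * t⁻¹) by group, ha.2, hb.2]⟩
      inv_mem' := fun {a} ha => ⟨inv_mem ha.1, by
        rw [show t * a⁻¹ * t⁻¹ = (t * a * t⁻¹)⁻¹ by group, ha.2]⟩ }
  have hconj : ∀ (g x : G), x ∈ Qc → t * (g * x * g⁻¹) * t⁻¹ = g * (t * x * t⁻¹) * g⁻¹ := fun g x hx => by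
    have hq : (g * t)⁻¹ * (t * g) ∈ Qc := hker.1 (by
      rw [map_mul, map_inv, map_mul, map_mul, ht, hN1, inv_mul_cancel])
    calc t * (g * x * g⁻¹) * t⁻¹
        = g * t * (((g * t)⁻¹ * (t * g)) * x * ((g * t)⁻¹ * (t * g))⁻¹) * t⁻¹ * g⁻¹ := by group
      _ = g * (t * x * t⁻¹) * g⁻¹ := by rw [hab _ hq x hx, mul_inv_cancel_right]; group
  haveI hMn : M.Normal := ⟨fun x hx g => ⟨hQn g x hx.1, by rw [hconj g x hx.1, hx.2]; group⟩⟩
  haveI hEn : E.Normal := ⟨fun x hx g => ⟨hQn g x hx.1, by rw [hconj g x hx.1, hx.2]⟩⟩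
  have hME : ∀ x ∈ M, x ∈ E → x = 1 := fun x hx hxE => by
    have h1 : x = x⁻¹ := hxE.2.symm.trans hx.2
    have h2 : x * x = 1 := by nth_rw 2 [h1]; exact mul_inv_cancel x
    rw [← half x hx.1, h2, one_pow]
  have hdec : ∀ x ∈ Qc, ∃ a ∈ M, ∃ b ∈ E, x = a * b := by
    intro x hx
    set y := t * x * t⁻¹ with hy
    have hyQ : y ∈ Qc := hQn t x hx
    have hty : t * y * t⁻¹ = x := hinvol x hx
    have h1 : x * y⁻¹ ∈ M := ⟨mul_mem hx (inv_mem hyQ), by
      rw [show t * (x * y⁻¹) * t⁻¹ = (t * x * t⁻¹) * (t * y * t⁻¹)⁻¹ by group, hty, ← hy, _root_.mul_inv_rev,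
        inv_inv]⟩
    have h2 : x * y ∈ E := ⟨mul_mem hx hyQ, by
      rw [show t * (x * y) * t⁻¹ = (t * x * t⁻¹) * (t * y * t⁻¹) by group, hty, ← hy]
      exact hab _ hyQ _ hx⟩
    refine ⟨_, pow_mem h1 (k + 1), _, pow_mem h2 (k + 1), ?_⟩
    rw [← Commute.mul_pow (hab _ h1.1 _ h2.1)]
    conv_lhs => rw [← half x hx]
    congr 1
    calc x * x = x * (y⁻¹ * y * x) := by group
      _ = x * (y⁻¹ * (x * y)) := by rw [mul_assoc y⁻¹, hab y hyQ x hx]
      _ = x * y⁻¹ * (x * y) := by group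
  have hMsq : ∀ x ∈ M, ⁅x, t⁆ = x * x := fun x hx => by
    rw [commutatorElement_def, show x * t * x⁻¹ * t⁻¹ = x * (t * x * t⁻¹)⁻¹ by group, hx.2, inv_inv]
  have hMV : ∀ x ∈ M, x ∈ c.V := fun x hx => by
    rw [← half x hx.1, ← hMsq x hx]; exact pow_mem (hQV x hx.1 t) _
  have hMG : ∀ x ∈ M, x ∈ commutator G := fun x hx => by
    rw [← half x hx.1, ← hMsq x hx]
    exact pow_mem (Subgroup.commutator_mem_commutator (Subgroup.mem_top _) (Subgroup.mem_top _)) _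
  have hneg : ∀ v, ∀ hv : v ∈ c.V, (t * v * t⁻¹) * v ∈ fixG ⊥ c.V := fun v hv => by
    have hv' := (inferInstance : (c.V).Normal).conj_mem v hv t
    have h : QuotientGroup.mk' (fixG ⊥ c.V) (t * v * t⁻¹) = QuotientGroup.mk' (fixG ⊥ c.V) v⁻¹ := by
      rw [← nc.vec_eq hv' (inv_mem hv), nc.vec_conj hv, nc.vec_inv hv, ht]
      ext i
      fin_cases i <;> simp [N1, Matrix.mulVec, dotProduct, Fin.sum_univ_two]
    refine (QuotientGroup.eq_one_iff _).1 ?_
    show QuotientGroup.mk' (fixG ⊥ c.V) (t * v * t⁻¹ * v) = 1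
    rw [map_mul, h, map_inv, inv_mul_cancel]
  have hEV : ∀ v ∈ E, v ∈ c.V → v ∈ c.C₀ := fun v hv hvV => by
    have h := hneg v hvV
    rw [hv.2, fixG_bot] at h
    rw [← half v hv.1]
    exact pow_mem h _
  have hC₀E : ∀ z ∈ c.C₀, z ∈ E := fun z hz => ⟨C₀_le_Q' hz, by
    rw [Subgroup.mem_center_iff.1 hz.2 t, mul_inv_cancel_right]⟩
  -- `E` is central
  have hES : ∀ e ∈ E, c.TT ≤ Subgroup.centralizer ({e} : Set G) := by
    intro e he
    rw [show c.TT = Qc ⊔ U from o.sup.symm]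
    refine sup_le (fun a ha => Subgroup.mem_centralizer_singleton_iff.2 (hab a ha e he.1)) fun u hu => ?_
    refine Subgroup.mem_centralizer_singleton_iff.2 ?_
    by_cases huQ : u ∈ Qc
    · exact hab u huQ e he.1
    have h := o.cover he.1
    rw [← SetLike.mem_coe, Subgroup.mul_normal] at h
    obtain ⟨d, hd', v, hv, hdv⟩ := h
    have hdv' : d * v = e := hdv
    have hk : ⁅e, u⁆ ∈ c.C₀ := by
      refine hEV _ ?_ (hQV e he.1 u)
      rw [show ⁅e, u⁆ = e * (u * e⁻¹ * u⁻¹) by rw [commutatorElement_def]; group]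
      exact mul_mem he (hEn.conj_mem _ (inv_mem he) u)
    have hcalc : ⁅e, u⁆ = ⁅v, u⁆ := by
      rw [← hdv', show ⁅d * v, u⁆ = d * ⁅v, u⁆ * d⁻¹ * ⁅d, u⁆ by simp only [commutatorElement_def]; group,
        commutatorElement_eq_one_iff_mul_comm.2 (o.D_comm d hd' u hu), mul_one,
        Z_fix' (c.V_comm_mem hd.good (o.le_S hu) hv) (c.Q_le_S (o.D_le hd'))]
    have hvZ : v ∈ c.Z := by
      by_contra hvZ
      exact c.V_comm_not_mem hd.good (o.le_S hu) huQ hv hvZ (hcalc ▸ hk)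
    rw [eq_comm, ← commutatorElement_eq_one_iff_mul_comm, hcalc, commutatorElement_eq_one_iff_mul_comm]
    exact (hvZ.2.2 u (o.le_S hu)).symm
  have hEc : ∀ e ∈ E, ∀ g : G, g * e = e * g := by
    intro e he g
    obtain ⟨x, hx⟩ := c.exists_notB
    have hle : c.TT ⊔ cj x c.TT ≤ Subgroup.centralizer ({e} : Set G) := by
      refine sup_le (hES e he) ?_
      rintro _ ⟨s, hs, rfl⟩
      refine Subgroup.mem_centralizer_singleton_iff.2 ?_
      have h := hES _ (hEn.conj_mem e he x⁻¹) hs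
      rw [Subgroup.mem_centralizer_singleton_iff, inv_inv] at h
      show x * s * x⁻¹ * e = e * (x * s * x⁻¹)
      calc x * s * x⁻¹ * e = x * (s * (x⁻¹ * e * x)) * x⁻¹ := by group
        _ = x * ((x⁻¹ * e * x) * s) * x⁻¹ := by rw [h]
        _ = e * (x * s * x⁻¹) := by group
    rw [c.gen x hx] at hle
    exact Subgroup.mem_centralizer_singleton_iff.1 (hle (Subgroup.mem_top g))
  -- `G' ∩ Q = M`
  have hGQ : ∀ x ∈ commutator G, x ∈ Qc → x ∈ M := by
    intro x hx hxQ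
    obtain ⟨a, ha, e, he, rfl⟩ := hdec x hxQ
    let f : G →* G ⧸ M := QuotientGroup.mk' M
    have hf : Function.Surjective f := QuotientGroup.mk'_surjective M
    set P := c.TT.map f
    have hMS : M ≤ c.TT := fun m hm => c.Q_le_S hm.1
    have hcommQ : ∀ q ∈ Qc, ∀ s ∈ c.TT, f q * f s = f s * f q := by
      intro q hq s hs
      obtain ⟨m, hm, b, hb, rfl⟩ := hdec q hq
      rw [map_mul, show f m = 1 from (QuotientGroup.eq_one_iff m).2 hm, one_mul, ← map_mul, ← map_mul,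
        hEc b hb s]
    have habP : ∀ u ∈ P, ∀ v ∈ P, u * v = v * u := by
      rintro _ ⟨s₁, hs₁, rfl⟩ _ ⟨s₂, hs₂, rfl⟩
      have h1 : s₁ ∈ ((Qc ⊔ U : Subgroup G) : Set G) := by rw [o.sup]; exact hs₁
      have h2 : s₂ ∈ ((Qc ⊔ U : Subgroup G) : Set G) := by rw [o.sup]; exact hs₂
      rw [Subgroup.normal_mul] at h1 h2
      obtain ⟨q₁, hq₁, u₁, hu₁, rfl⟩ := h1
      obtain ⟨q₂, hq₂, u₂, hu₂, rfl⟩ := h2
      have e1 := hcommQ q₁ hq₁ q₂ (c.Q_le_S hq₂)
      have e2 := hcommQ q₁ hq₁ u₂ (o.le_S hu₂)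
      have e3 := hcommQ q₂ hq₂ u₁ (o.le_S hu₁)
      have e4 : f u₁ * f u₂ = f u₂ * f u₁ := by rw [← map_mul, ← map_mul, o.comm u₁ hu₁ u₂ hu₂]
      show f (q₁ * u₁) * f (q₂ * u₂) = f (q₂ * u₂) * f (q₁ * u₁)
      rw [map_mul, map_mul]
      have k1 : Commute (f q₁) (f q₂ * f u₂) := Commute.mul_right e1 e2
      have k2 : Commute (f u₁) (f q₂ * f u₂) := Commute.mul_right (Eq.symm e3) e4
      exact (Commute.mul_left k1 k2).eq
    have hidx : Nat.Coprime p P.index := by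
      rw [hp.out.coprime_iff_not_dvd]
      intro h
      refine c.S.not_dvd_index (h.trans ?_)
      exact Subgroup.index_map_dvd _ hf
    have h1 : f e = 1 := by
      refine eq_one_of_central_of_mem_commutator P habP hidx (Subgroup.mem_map_of_mem f (c.Q_le_S he.1))
        (fun g => ?_) ?_ (by rw [← map_pow, hpow e he.1, map_one])
      · obtain ⟨g, rfl⟩ := hf g
        rw [← map_mul, ← map_mul, hEc e he g]
      · have h2 : f (a * e) ∈ commutator (G ⧸ M) := by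
          have h3 : f (a * e) ∈ (commutator G).map f := Subgroup.mem_map_of_mem f hx
          rw [commutator_def, Subgroup.map_commutator, Subgroup.map_top_of_surjective _ hf, ← commutator_def] at h3
          exact h3
        rwa [map_mul, show f a = 1 from (QuotientGroup.eq_one_iff a).2 ha, one_mul] at h2
    rw [hME e ((QuotientGroup.eq_one_iff e).1 h1) he, mul_one]
    exact ha
  -- the complement
  have hL : ∀ A : SL2 F, ∃ l, l ∈ commutator G ∧ l * t = t * l ∧ nc.ρ l = A := by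
    intro A
    obtain ⟨g, hg, hgA⟩ := hcov A
    set q := t⁻¹ * (g * t * g⁻¹) with hq
    have hqQ : q ∈ Qc := hker.1 (by
      rw [hq, map_mul, map_inv, map_mul, map_mul, map_inv, ht, hgA, ← hN1, mul_inv_cancel_right, inv_mul_cancel])
    have hqG : q ∈ commutator G := mul_mem (inv_mem ht') (mul_mem (mul_mem hg ht') (inv_mem hg))
    have hqM := hGQ q hqG hqQ
    set m := q ^ (k + 1) with hm
    have hmM : m ∈ M := pow_mem hqM _
    have hmm : m * m = q := by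
      rw [hm, ← Commute.mul_pow (Commute.refl q), half q hqQ]
    have htm : t⁻¹ * m * t = m⁻¹ := by
      have h := hmM.2
      calc t⁻¹ * m * t = t⁻¹ * (t * m * t⁻¹)⁻¹ * t := by rw [h, inv_inv]
        _ = m⁻¹ := by group
    refine ⟨m * g, mul_mem (hMG m hmM) hg, ?_, by rw [map_mul, hker.2 hmM.1, one_mul, hgA]⟩
    have key : m * g * t * (m * g)⁻¹ = t := by
      calc m * g * t * (m * g)⁻¹ = t * ((t⁻¹ * m * t) * q * m⁻¹) := by rw [hq]; group
        _ = t := by rw [htm, ← hmm]; group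
    exact mul_inv_eq_iff_eq_mul.1 key
  choose σ hσG hσt hσρ using hL
  have hLQ : ∀ l, l ∈ commutator G → l * t = t * l → l ∈ Qc → l = 1 := fun l h1 h2 h3 =>
    hME l (hGQ l h1 h3) ⟨h3, by rw [← h2, mul_inv_cancel_right]⟩
  have hσmul : ∀ A B, σ (A * B) = σ A * σ B := fun A B => by
    refine eq_of_mul_inv_eq_one (hLQ _ (mul_mem (hσG _) (inv_mem (mul_mem (hσG _) (hσG _)))) ?_ (hker.1 ?_))
    · exact ((show Commute (σ (A * B)) t from hσt _).mul_left
        ((show Commute (σ A) t from hσt A).mul_left (show Commute (σ B) t from hσt B)).inv_left).eq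
    · rw [map_mul, map_inv, map_mul, hσρ, hσρ, hσρ, mul_inv_cancel]
  have hμ : ∀ v : Fin 2 → F, ∃ x, x ∈ M ∧ ∀ hx : x ∈ c.V, nc.vec x hx = v := by
    intro v
    obtain ⟨w, hw⟩ := nc.ψ.surjective v
    obtain ⟨x, hx, hxw⟩ := (Additive.toMul w).2
    obtain ⟨a, ha, b, hb, rfl⟩ := hdec x (c.V_le_Q hx)
    refine ⟨a, ha, fun haV => ?_⟩
    have hbV : b ∈ c.V := by simpa using mul_mem (inv_mem haV) hx
    have hbC : b ∈ fixG ⊥ c.V := by rw [fixG_bot]; exact hEV b hb hbV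
    rw [← hw]
    unfold NatCoord.vec
    refine congrArg nc.ψ ?_
    apply Additive.toMul.injective
    refine Subtype.ext ?_
    show QuotientGroup.mk' (fixG ⊥ c.V) a = _
    rw [← hxw, map_mul, show QuotientGroup.mk' (fixG ⊥ c.V) b = 1 from (QuotientGroup.eq_one_iff b).2 hbC, mul_one]
  choose μ hμM hμv using hμ
  have hμu : ∀ x (hx : x ∈ M), μ (nc.vec x (hMV x hx)) = x := fun x hx => by
    set y := μ (nc.vec x (hMV x hx))
    have hy : y ∈ M := hμM _
    have h := (nc.vec_eq (hMV y hy) (hMV x hx)).1 (hμv _ _)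
    have h1 : y⁻¹ * x ∈ fixG ⊥ c.V := QuotientGroup.eq.1 h
    rw [fixG_bot] at h1
    exact inv_mul_eq_one.1 (hME _ (mul_mem (inv_mem hy) hx) (hC₀E _ h1))
  have hμadd : ∀ v w, μ (v + w) = μ v * μ w := fun v w => by
    have h := hμu _ (mul_mem (hμM v) (hμM w))
    rwa [nc.vec_mul (hMV _ (hμM v)) (hMV _ (hμM w)), hμv, hμv] at h
  have hμconj : ∀ (A : SL2 F) v, σ A * μ v * (σ A)⁻¹ = μ ((A : Matrix (Fin 2) (Fin 2) F).mulVec v) := by
    intro A v
    have h := hμu _ (hMn.conj_mem _ (hμM v) (σ A))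
    rw [nc.vec_conj (hMV _ (hμM v)), hμv, hσρ] at h
    exact h.symm
  let blk : ↥(Cfsg.qdOver F) → SL2 F := fun Y => (QdOver.exists_mk Y).choose
  let tr : ↥(Cfsg.qdOver F) → (Fin 2 → F) := fun Y => (QdOver.exists_mk Y).choose_spec.choose
  have hbt : ∀ A v, blk (QdOver.mk A v) = A ∧ tr (QdOver.mk A v) = v := fun A v =>
    QdOver.mk_inj (QdOver.exists_mk (QdOver.mk A v)).choose_spec.choose_spec
  let Φ : ↥(Cfsg.qdOver F) → ↥(commutator G) := fun Y =>
    ⟨μ (tr Y) * σ (blk Y), mul_mem (hMG _ (hμM _)) (hσG _)⟩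
  have hΦ : ∀ Y Y', Φ (Y * Y') = Φ Y * Φ Y' := by
    intro Y Y'
    obtain ⟨A, v, rfl⟩ := QdOver.exists_mk Y
    obtain ⟨B, w, rfl⟩ := QdOver.exists_mk Y'
    apply Subtype.ext
    show μ (tr _) * σ (blk _) = μ (tr (QdOver.mk A v)) * σ (blk (QdOver.mk A v)) *
      (μ (tr (QdOver.mk B w)) * σ (blk (QdOver.mk B w)))
    rw [QdOver.mk_mul, (hbt _ _).1, (hbt _ _).2, (hbt _ _).1, (hbt _ _).2, (hbt _ _).1, (hbt _ _).2, hσmul,
      add_comm, hμadd, ← hμconj]
    group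
  have hinj : Function.Injective Φ := by
    intro Y Y' h
    obtain ⟨A, v, rfl⟩ := QdOver.exists_mk Y
    obtain ⟨B, w, rfl⟩ := QdOver.exists_mk Y'
    have h1 : μ v * σ A = μ w * σ B := by
      have h0 : μ (tr (QdOver.mk A v)) * σ (blk (QdOver.mk A v)) =
          μ (tr (QdOver.mk B w)) * σ (blk (QdOver.mk B w)) := congrArg Subtype.val h
      rwa [(hbt _ _).1, (hbt _ _).2, (hbt _ _).1, (hbt _ _).2] at h0
    have h2 : A = B := by
      have := congrArg nc.ρ h1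
      rwa [map_mul, map_mul, hker.2 (hμM v).1, hker.2 (hμM w).1, hσρ, hσρ, one_mul, one_mul] at this
    subst h2
    have h3 := mul_right_cancel h1
    have h4 : v = w := by
      rw [← hμv v (hMV _ (hμM v)), ← hμv w (hMV _ (hμM w))]
      congr 1
    rw [h4]
  have hsurj : Function.Surjective Φ := by
    rintro ⟨g, hg⟩
    have hx : g * (σ (nc.ρ g))⁻¹ ∈ M := hGQ _ (mul_mem hg (inv_mem (hσG _)))
      (hker.1 (by rw [map_mul, map_inv, hσρ, mul_inv_cancel]))
    refine ⟨QdOver.mk (nc.ρ g) (nc.vec _ (hMV _ hx)), Subtype.ext ?_⟩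
    show μ (tr _) * σ (blk _) = g
    rw [(hbt _ _).1, (hbt _ _).2, hμu _ hx, inv_mul_cancel_right]
  refine ⟨E, ⟨le_top, le_top, fun a _ b hb => hEc b hb a, ?_, ?_⟩, ⟨⟨⟨fun a b => ?_⟩⟩, fun a ha => hpow a ha.1⟩,
    ⟨(MulEquiv.ofBijective (MonoidHom.mk' Φ hΦ) ⟨hinj, hsurj⟩).symm⟩⟩
  · refine le_bot_iff.1 fun x ⟨hx1, hx2⟩ => Subgroup.mem_bot.2 ?_
    exact hME x (hGQ x hx1 hx2.1) hx2
  · refine eq_top_iff.2 fun g _ => ?_
    obtain ⟨g', hg', he⟩ := hcov (nc.ρ g)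
    have hq : g'⁻¹ * g ∈ Qc := hker.1 (by rw [map_mul, map_inv, he, inv_mul_cancel])
    obtain ⟨a, ha, b, hb, hab'⟩ := hdec _ hq
    rw [show g = g' * a * b by rw [mul_assoc, ← hab', mul_inv_cancel_left]]
    exact Subgroup.mul_mem_sup (mul_mem hg' (hMG a ha)) hb
  · exact Subtype.ext (hab _ a.2.1 _ b.2.1)
where
  C₀_le_Q' : ∀ {z : G}, z ∈ c.C₀ → z ∈ Qc := fun hz => c.V_le_Q hz.1
  Z_fix' : ∀ {z s : G}, z ∈ c.Z → s ∈ c.TT → s * z * s⁻¹ = z := fun hz hs => by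
    rw [hz.2.2 _ hs, mul_inv_cancel_right]

end Sit

end Cfsg.Agent.Lib.PushUpP
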