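import Cfsg.Agent.Lib.PushUpP.Offender
import Cfsg.Agent.Lib.Schur.SteinbergSL2
import Cfsg.Agent.Lib.SL2Module.Natural

/-!
`G / Q ≅ SL₂(q)` and natural modules, once the kernel commutes with `S` modulo `Q`.
-/

set_option autoImplicit false
set_option linter.unusedSectionVars false
set_option linter.style.haveILetI false

open scoped commutatorElement

namespace Cfsg.Agent.Lib.PushUpP.Sit

open Cfsg.Agent.Lib.LAEven57.PushingUp
open Cfsg.Agent.Lib.Schur.SteinbergSL2 (trv trv_rel IsSL2Rel wElt exists_presentation rels_eval)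

variable {G : Type*} [Group G] [Finite G] {p : ℕ} [hp : Fact p.Prime] {F : Type} [Field F] [Fintype F]
variable {c : Sit G p F}

local notation "Qc" => Cfsg.pCore p G

theorem uHom_eq_trv (t : F) :
    uHom F (Multiplicative.ofAdd t) = QuotientGroup.mk' (Subgroup.center (SL2 F)) (trv F true t) := rfl

theorem wImg_conj (t : F) :
    wImg * uHom F (Multiplicative.ofAdd (-t)) * wImg⁻¹ =
      QuotientGroup.mk' (Subgroup.center (SL2 F)) (trv F false t) := by
  rw [eq_comm, eq_mul_inv_iff_mul_eq, uHom_apply, wImg, ← map_mul, ← map_mul, wMat_conj, neg_neg]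
  rfl

/-- A section of `SL₂(F)` on `G / M` for a suitable normal subgroup `M` of the kernel. -/
theorem exists_tau_mod {M : Subgroup G} [M.Normal] (hM : M ≤ c.π.ker)
    (hpow : ∀ y ∈ c.π.ker, y ^ p ∈ M → y ∈ M) (hK : ∀ k ∈ c.π.ker, ∀ s ∈ c.TT, ⁅k, s⁆ ∈ M) :
    ∃ τ : SL2 F →* G ⧸ M, Function.Surjective τ ∧
      ∀ t : F, τ (trv F true t) ∈ c.TT.map (QuotientGroup.mk' M) := by
  classical
  let mkQ : G →* G ⧸ M := QuotientGroup.mk' M
  have hpow' : ∀ (i : ℕ), ∀ y ∈ c.π.ker, y ^ p ^ i ∈ M → y ∈ M := by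
    intro i
    induction i with
    | zero => exact fun y _ h => by simpa using h
    | succ i ih =>
      intro y hy h
      exact hpow y hy (ih _ (pow_mem hy p) (by rwa [← pow_mul, ← pow_succ']))
  obtain ⟨w, hw⟩ := c.surj wImg
  have hwB : ¬ c.InB w := by
    show c.π w ∉ Subgroup.normalizer (U F : Set (PSL2 F))
    rw [hw, wImg, mem_normalizer_U_iff]
    simp [wMat]
  -- the kernel is central modulo `Q`
  have hcen : ∀ k ∈ c.π.ker, mkQ k ∈ Subgroup.center (G ⧸ M) := by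
    intro k hk
    have key : ∀ k' ∈ c.π.ker, ∀ s ∈ c.TT, Commute (mkQ k') (mkQ s) := fun k' hk' s hs => by
      show mkQ k' * mkQ s = mkQ s * mkQ k'
      rw [← commutatorElement_eq_one_iff_mul_comm, ← map_commutatorElement]
      exact (QuotientGroup.eq_one_iff _).2 (hK k' hk' s hs)
    have hle : c.TT ⊔ cj w c.TT ≤ (Subgroup.centralizer ({mkQ k} : Set (G ⧸ M))).comap mkQ := by
      refine sup_le (fun s hs => Subgroup.mem_centralizer_singleton_iff.2 (key k hk s hs).eq.symm) ?_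
      rintro _ ⟨s, hs, rfl⟩
      refine Subgroup.mem_centralizer_singleton_iff.2 ?_
      have h1 := key (w⁻¹ * k * w) (by
        rw [MonoidHom.mem_ker, map_mul, map_mul, show c.π k = 1 from hk, mul_one, map_inv, inv_mul_cancel]) s hs
      have h2 := h1.map (MulAut.conj (mkQ w)).toMonoidHom
      have e1 : (MulAut.conj (mkQ w)).toMonoidHom (mkQ (w⁻¹ * k * w)) = mkQ k := by
        simp [mul_assoc]
      have e2 : (MulAut.conj (mkQ w)).toMonoidHom (mkQ s) = mkQ (w * s * w⁻¹) := by simp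
      rw [e1, e2] at h2
      exact h2.eq.symm
    rw [c.gen w hwB] at hle
    refine Subgroup.mem_center_iff.2 fun x => ?_
    obtain ⟨g, rfl⟩ := QuotientGroup.mk'_surjective M x
    exact Subgroup.mem_centralizer_singleton_iff.1 (hle (Subgroup.mem_top g))
  -- `p`-elements are determined by their images
  have huniq : ∀ a b : G, (∃ i, mkQ a ^ p ^ i = 1) → (∃ i, mkQ b ^ p ^ i = 1) → c.π a = c.π b → mkQ a = mkQ b := by
    rintro a b ⟨i, hi⟩ ⟨j, hj⟩ hab
    have hk : b⁻¹ * a ∈ c.π.ker := by rw [MonoidHom.mem_ker, map_mul, map_inv, hab, inv_mul_cancel]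
    have hz := Subgroup.mem_center_iff.1 (hcen _ hk)
    have e : mkQ a = mkQ b * mkQ (b⁻¹ * a) := by rw [← map_mul, mul_inv_cancel_left]
    have h1 : mkQ (b⁻¹ * a) ^ p ^ (i + j) = 1 := by
      have h2 : mkQ a ^ p ^ (i + j) = 1 := by rw [pow_add, pow_mul, hi, one_pow]
      have h3 : mkQ b ^ p ^ (i + j) = 1 := by rw [add_comm, pow_add, pow_mul, hj, one_pow]
      rw [e, Commute.mul_pow (hz _), h3, one_mul] at h2
      exact h2
    rw [← map_pow] at h1
    have h4 : (b⁻¹ * a) ∈ M := hpow' (i + j) _ hk ((QuotientGroup.eq_one_iff _).1 h1)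
    rw [e, show mkQ (b⁻¹ * a) = 1 from (QuotientGroup.eq_one_iff _).2 h4, mul_one]
  have hS : ∀ t : F, ∃ s ∈ c.TT, c.π s = uHom F (Multiplicative.ofAdd t) := fun t => by
    have h : uHom F (Multiplicative.ofAdd t) ∈ c.TT.map c.π := c.map_S.symm ▸ ⟨_, rfl⟩
    exact h
  choose s hs hπs using hS
  have hpS : ∀ t, ∃ i, mkQ (s t) ^ p ^ i = 1 := fun t => by
    obtain ⟨i, hi⟩ := (show IsPGroup p ↥c.TT from c.S.isPGroup') ⟨s t, hs t⟩
    exact ⟨i, by rw [← map_pow, show s t ^ p ^ i = 1 from congrArg Subtype.val hi, map_one]⟩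
  let L : Bool → F → G := fun b t => if b then s t else w * s (-t) * w⁻¹
  have hπL : ∀ b t, c.π (L b t) = QuotientGroup.mk' (Subgroup.center (SL2 F)) (trv F b t) := by
    intro b t
    cases b
    · show c.π (w * s (-t) * w⁻¹) = _
      rw [map_mul, map_mul, map_inv, hw, hπs, wImg_conj]
    · show c.π (s t) = _
      rw [hπs]; rfl
  have hpL : ∀ b t, ∃ i, mkQ (L b t) ^ p ^ i = 1 := by
    intro b t
    cases b
    · obtain ⟨i, hi⟩ := hpS (-t)
      refine ⟨i, ?_⟩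
      show mkQ (w * s (-t) * w⁻¹) ^ p ^ i = 1
      rw [map_mul, map_mul, map_inv, conj_pow, hi, mul_one, mul_inv_cancel]
    · exact hpS t
  let X : Bool → F → G ⧸ M := fun b t => mkQ (L b t)
  have hadd : ∀ b t u, X b (t + u) = X b t * X b u := by
    intro b t u
    show mkQ (L b (t + u)) = mkQ (L b t) * mkQ (L b u)
    rw [← map_mul]
    refine huniq _ _ (hpL _ _) ?_ ?_
    · cases b
      · obtain ⟨i, hi⟩ := (show IsPGroup p ↥c.TT from c.S.isPGroup') ⟨s (-t) * s (-u), mul_mem (hs _) (hs _)⟩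
        refine ⟨i, ?_⟩
        show mkQ (w * s (-t) * w⁻¹ * (w * s (-u) * w⁻¹)) ^ p ^ i = 1
        rw [show w * s (-t) * w⁻¹ * (w * s (-u) * w⁻¹) = w * (s (-t) * s (-u)) * w⁻¹ by group, map_mul, map_mul mkQ w,
          map_inv, conj_pow, ← map_pow mkQ, show (s (-t) * s (-u)) ^ p ^ i = 1 from congrArg Subtype.val hi,
          map_one, mul_one, mul_inv_cancel]
      · obtain ⟨i, hi⟩ := (show IsPGroup p ↥c.TT from c.S.isPGroup') ⟨s t * s u, mul_mem (hs _) (hs _)⟩
        refine ⟨i, ?_⟩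
        show mkQ (s t * s u) ^ p ^ i = 1
        rw [← map_pow, show (s t * s u) ^ p ^ i = 1 from congrArg Subtype.val hi, map_one]
    · rw [map_mul, hπL, hπL, hπL, ← map_mul, (trv_rel F).add]
  have hR : IsSL2Rel X := by
    refine ⟨hadd, fun b t u ht => ?_⟩
    set g := L b t * L (!b) (-t⁻¹) * L b t with hg
    have hgw : wElt X b t = mkQ g := by
      show mkQ _ * mkQ _ * mkQ _ = _
      rw [hg, map_mul, map_mul]
    have hπg : c.π g = QuotientGroup.mk' (Subgroup.center (SL2 F)) (wElt (trv F) b t) := by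
      rw [hg, map_mul, map_mul, hπL, hπL, ← map_mul, ← map_mul]
      rfl
    rw [hgw]
    show mkQ g * mkQ (L b u) * (mkQ g)⁻¹ = mkQ (L (!b) (-(t⁻¹ ^ 2 * u)))
    rw [← map_inv, ← map_mul, ← map_mul]
    refine huniq _ _ ?_ (hpL _ _) ?_
    · obtain ⟨i, hi⟩ := hpL b u
      refine ⟨i, ?_⟩
      rw [map_mul, map_mul, map_inv, conj_pow, hi, mul_one, mul_inv_cancel]
    · rw [map_mul, map_mul, map_inv, hπg, hπL, hπL, ← map_inv, ← map_mul, ← map_mul, (trv_rel F).conj b t u ht]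
  obtain ⟨e, he⟩ := exists_presentation F
  let τ : SL2 F →* G ⧸ M := (PresentedGroup.toGroup (rels_eval hR)).comp e.symm.toMonoidHom
  have hτ : ∀ b t, τ (trv F b t) = X b t := by
    intro b t
    show PresentedGroup.toGroup (rels_eval hR) (e.symm (trv F b t)) = X b t
    rw [show e.symm (trv F b t) = PresentedGroup.of (b, t) by rw [← he b t, e.symm_apply_apply]]
    exact PresentedGroup.toGroup.of _
  refine ⟨τ, ?_, fun t => by rw [hτ]; exact Subgroup.mem_map_of_mem mkQ (hs t)⟩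
  have hmapS : ∀ x ∈ c.TT, mkQ x ∈ τ.range ∧ mkQ (w * x * w⁻¹) ∈ τ.range := by
    intro x hx
    obtain ⟨t, ht⟩ : c.π x ∈ U F := c.map_S ▸ Subgroup.mem_map_of_mem c.π hx
    have hx' : ∃ i, mkQ x ^ p ^ i = 1 := by
      obtain ⟨i, hi⟩ := (show IsPGroup p ↥c.TT from c.S.isPGroup') ⟨x, hx⟩
      exact ⟨i, by rw [← map_pow, show x ^ p ^ i = 1 from congrArg Subtype.val hi, map_one]⟩
    have h1 : mkQ x = mkQ (s t.toAdd) := huniq _ _ hx' (hpS _) (by rw [hπs, ← ht]; rfl)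
    refine ⟨⟨trv F true t.toAdd, (hτ _ _).trans h1.symm⟩, ⟨trv F false (-t.toAdd), ?_⟩⟩
    rw [hτ]
    show mkQ (w * s (- -t.toAdd) * w⁻¹) = _
    rw [neg_neg, map_mul, map_mul, ← h1, ← map_mul, ← map_mul]
  rw [← MonoidHom.range_eq_top, eq_top_iff,
    ← Subgroup.map_top_of_surjective mkQ (QuotientGroup.mk'_surjective _), ← c.gen w hwB, Subgroup.map_sup]
  refine sup_le ?_ ?_
  · rintro _ ⟨x, hx, rfl⟩; exact (hmapS x hx).1
  · rintro _ ⟨_, ⟨x, hx, rfl⟩, rfl⟩
    exact (hmapS x hx).2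

/-- A section of `SL₂(F)` on `G / Q`. -/
theorem exists_tau (hK : ∀ k ∈ c.π.ker, ∀ s ∈ c.TT, ⁅k, s⁆ ∈ Qc) :
    ∃ τ : SL2 F →* G ⧸ Qc, Function.Surjective τ ∧
      ∀ t : F, τ (trv F true t) ∈ c.TT.map (QuotientGroup.mk' Qc) := by
  refine exists_tau_mod c.Q_le_ker (fun y hy h => ?_) hK
  obtain ⟨l, hl⟩ := Cores.pCore_isPGroup (G := G) p ⟨_, h⟩
  refine c.ker_pElement (k := l + 1) hy ?_
  rw [pow_succ', pow_mul]
  exact congrArg Subtype.val hl

/-- A coordinate system on a section: `U₀ / C` is the natural module of `G / Q`. -/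
structure NatCoord (c : Sit G p F) (C U₀ : Subgroup G) [C.Normal] where
  ρ : G →* SL2 F
  surj : Function.Surjective ρ
  ker : ρ.ker = Qc
  ψ : Additive ↥(U₀.map (QuotientGroup.mk' C)) ≃+ (Fin 2 → F)
  equiv : ∀ (g : G) (v : ↥(U₀.map (QuotientGroup.mk' C))),
    ∃ v' : ↥(U₀.map (QuotientGroup.mk' C)),
      (v' : G ⧸ C) = QuotientGroup.mk' C g * v * (QuotientGroup.mk' C g)⁻¹ ∧
        ψ (Additive.ofMul v') = (ρ g : Matrix (Fin 2) (Fin 2) F).mulVec (ψ (Additive.ofMul v))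

theorem exists_coord_mod {Q' : Subgroup G} [Q'.Normal] {τ : SL2 F →* G ⧸ Q'} (hτ : Function.Surjective τ)
    (hτU : ∀ t : F, τ (trv F true t) ∈ c.TT.map (QuotientGroup.mk' Q')) {N U₀ : Subgroup G} [N.Normal]
    [U₀.Normal] (h : c.IsSec N U₀) (hQ' : Q' ≤ secKer N U₀) :
    ∃ (ρ : G →* SL2 F) (ψ : Additive ↥(U₀.map (QuotientGroup.mk' (fixG N U₀))) ≃+ (Fin 2 → F)),
      Function.Surjective ρ ∧ ρ.ker = Q' ∧ (∀ g, τ (ρ g) = QuotientGroup.mk' Q' g) ∧
      ∀ (g : G) (v : ↥(U₀.map (QuotientGroup.mk' (fixG N U₀)))),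
        ∃ v' : ↥(U₀.map (QuotientGroup.mk' (fixG N U₀))),
          (v' : G ⧸ fixG N U₀) = QuotientGroup.mk' (fixG N U₀) g * v * (QuotientGroup.mk' (fixG N U₀) g)⁻¹ ∧
            ψ (Additive.ofMul v') = (ρ g : Matrix (Fin 2) (Fin 2) F).mulVec (ψ (Additive.ofMul v)) := by
  classical
  set C := fixG N U₀ with hC
  let f : G →* G ⧸ C := QuotientGroup.mk' C
  set Vb := U₀.map f with hVb
  haveI : Vb.Normal := Subgroup.Normal.map inferInstance _ (QuotientGroup.mk'_surjective _)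
  letI : CommGroup ↥Vb :=
    { (inferInstance : Group ↥Vb) with
      mul_comm := fun x y => by
        obtain ⟨u, hu, hux⟩ := x.2
        obtain ⟨v, hv, hvy⟩ := y.2
        apply Subtype.ext
        show (x : G ⧸ C) * y = y * x
        rw [← hux, ← hvy, ← commutatorElement_eq_one_iff_mul_comm, ← map_commutatorElement]
        exact (QuotientGroup.eq_one_iff _).2 (h.N_le_C (h.comm u hu v hv)) }
  let α : G →* MulAut ↥Vb := MulAut.conjNormal.comp f
  have hαv : ∀ (g : G) (v : ↥Vb), ((α g v : ↥Vb) : G ⧸ C) = f g * v * (f g)⁻¹ := fun g v =>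
    MulAut.conjNormal_apply (f g) v
  have hQα : Q' ≤ α.ker := by
    intro q hq
    refine MulEquiv.ext fun v => Subtype.ext ?_
    obtain ⟨u, hu, huv⟩ := v.2
    show ((α q v : ↥Vb) : G ⧸ C) = v
    rw [hαv, ← huv, mul_inv_eq_iff_eq_mul, eq_comm, ← commutatorElement_eq_one_iff_mul_comm,
      ← map_commutatorElement]
    exact (QuotientGroup.eq_one_iff _).2 (h.N_le_C (mem_secKer.1 (hQ' hq) u hu))
  let βm : G ⧸ Q' →* MulAut ↥Vb := QuotientGroup.lift Q' α hQα
  let toEnd : MulAut ↥Vb →* AddMonoid.End (Additive ↥Vb) :=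
    { toFun := fun e => MonoidHom.toAdditive e.toMonoidHom
      map_one' := rfl
      map_mul' := fun _ _ => rfl }
  let σ : SL2 F →* AddMonoid.End (Additive ↥Vb) := toEnd.comp (βm.comp τ)
  have hσ : ∀ (M : SL2 F) (g : G), τ M = QuotientGroup.mk' Q' g → ∀ v : ↥Vb,
      ((Additive.toMul (σ M (Additive.ofMul v)) : ↥Vb) : G ⧸ C) = f g * v * (f g)⁻¹ := by
    intro M g hMg v
    show ((βm (τ M) v : ↥Vb) : G ⧸ C) = _
    rw [hMg]
    exact hαv g v
  have hup : ∀ t : F, ∃ s ∈ c.TT, τ (Cfsg.Agent.Lib.PLocal.SLTwo.up t) = QuotientGroup.mk' Q' s := by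
    intro t
    obtain ⟨s, hs, hst⟩ := hτU t
    exact ⟨s, hs, hst.symm⟩
  -- the moved part of a vector
  have hcomm : ∀ u ∈ U₀, ∀ s : G, ((f s * f u * (f s)⁻¹) * (f u)⁻¹) = f ⁅u, s⁆⁻¹ := by
    intro u _ s
    rw [← map_inv f s, ← map_inv f u, ← map_mul, ← map_mul, ← map_mul]
    congr 1
    rw [commutatorElement_def]; group
  have hquad : ∀ t s (v : Additive ↥Vb),
      SL2Module.nU σ t (SL2Module.nU σ s v) = 0 := by
    intro t s v
    obtain ⟨a, ha, hta⟩ := hup t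
    obtain ⟨b, hb, hsb⟩ := hup s
    obtain ⟨u, hu, huv⟩ := (Additive.toMul v : ↥Vb).2
    set d := ⁅u, b⁆⁻¹
    have hd : d ∈ c.fixS N U₀ := inv_mem (h.comm_mem hu hb)
    have h1 : ((Additive.toMul (SL2Module.nU σ s v) : ↥Vb) : G ⧸ C) = f d := by
      show ((Additive.toMul (σ _ v - v) : ↥Vb) : G ⧸ C) = _
      rw [toMul_sub, Subgroup.coe_div, div_eq_mul_inv,
        show v = Additive.ofMul (Additive.toMul v) from rfl, hσ _ b hsb]
      show f b * (Additive.toMul v : ↥Vb).1 * (f b)⁻¹ * (Additive.toMul v : ↥Vb).1⁻¹ = _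
      rw [← huv, hcomm u hu b]
    apply Additive.toMul.injective
    apply Subtype.ext
    set w := SL2Module.nU σ s v
    show ((Additive.toMul (σ _ w - w) : ↥Vb) : G ⧸ C) = ((Additive.toMul (0 : Additive ↥Vb) : ↥Vb) : G ⧸ C)
    rw [toMul_sub, Subgroup.coe_div, div_eq_mul_inv, show w = Additive.ofMul (Additive.toMul w) from rfl,
      hσ _ a hta]
    show f a * (Additive.toMul w : ↥Vb).1 * (f a)⁻¹ * (Additive.toMul w : ↥Vb).1⁻¹ = 1
    rw [h1, hcomm d (h.D_le hd) a]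
    exact (QuotientGroup.eq_one_iff _).2 (inv_mem (h.N_le_C ((c.mem_fixS.1 hd).2 a ha)))
  have hnt : ∃ (M : SL2 F) (v : Additive ↥Vb), σ M v ≠ v := by
    by_contra hcon
    push Not at hcon
    obtain ⟨t, ht, htQ⟩ := c.exists_out
    obtain ⟨u, hu, huD⟩ : ∃ u ∈ U₀, u ∉ c.fixS N U₀ := by
      by_contra hc
      push Not at hc
      have h1 := h.D_index
      rw [Subgroup.relIndex_eq_one.2 hc] at h1
      exact (Nat.one_lt_pow (by have := c.hn; omega) hp.out.one_lt).ne h1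
    obtain ⟨M, hM⟩ := hτ (QuotientGroup.mk' Q' t)
    have h1 := hσ M t hM ⟨f u, Subgroup.mem_map_of_mem f hu⟩
    rw [hcon] at h1
    refine h.comm_not_mem ht htQ hu huD ((QuotientGroup.eq_one_iff _).1 ?_)
    show f ⁅u, t⁆ = 1
    have h2 : f u = f t * f u * (f t)⁻¹ := h1
    rw [map_commutatorElement, commutatorElement_eq_one_iff_mul_comm]
    exact eq_mul_inv_iff_mul_eq.1 h2
  have hirr : SL2Module.IsIrred σ := by
    intro W hWu hWl
    -- `W` is invariant under everything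
    let St : Submonoid (SL2 F) :=
      { carrier := {M | ∀ v ∈ W, σ M v ∈ W}
        one_mem' := fun v hv => by rw [map_one]; exact hv
        mul_mem' := fun {a b} ha hb v hv => by rw [map_mul]; exact ha _ (hb v hv) }
    have hall : ∀ M, M ∈ St := by
      intro M
      haveI : Finite (SL2 F) := inferInstance
      let H : Subgroup (SL2 F) :=
        { St with
          inv_mem' := fun {a} ha => by
            show a⁻¹ ∈ St
            rw [← zpow_neg_one]
            obtain ⟨k, hk⟩ := (isOfFinOrder_of_finite a).mem_powers_iff_mem_zpowers.2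
              (Subgroup.zpow_mem _ (Subgroup.mem_zpowers a) (-1))
            rw [← hk]
            exact pow_mem ha k }
      have htop : (⊤ : Subgroup (SL2 F)) ≤ H := by
        rw [← Linear.uSL_sup_conj_eq_top (F := F) (k := wMat) (by simp [wMat])]
        refine sup_le ?_ ?_
        · rintro _ ⟨t, rfl⟩ v hv
          have h1 := hWu t.toAdd v hv
          rwa [show Cfsg.Agent.Lib.PLocal.SLTwo.up t.toAdd = Linear.uSL t from
            Subtype.ext (by rw [Linear.coe_uSL]; rfl)] at h1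
        · intro M hM v hv
          rw [Subgroup.mem_pointwise_smul_iff_inv_smul_mem] at hM
          obtain ⟨t, ht⟩ := hM
          have h1 := hWl (-t.toAdd) v hv
          rwa [show Cfsg.Agent.Lib.PLocal.SLTwo.lo (-t.toAdd) = M from ?_] at h1
          have h2 : M = wMat * uMat t.toAdd * wMat⁻¹ := by
            rw [uMat_eq_uSL, ofAdd_toAdd, ht]
            simp [mul_assoc]
          rw [h2, wMat_conj, mul_inv_cancel_right]
          exact Subtype.ext rfl
      exact htop (Subgroup.mem_top M)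
    let Wm : Subgroup ↥Vb := AddSubgroup.toSubgroup' W
    let Wg : Subgroup G := (Wm.map Vb.subtype).comap f
    have hWg : ∀ u, u ∈ Wg ↔ ∃ hu : f u ∈ Vb, Additive.ofMul (⟨f u, hu⟩ : ↥Vb) ∈ W := by
      intro u
      constructor
      · rintro ⟨x, hx, hxu⟩
        exact ⟨hxu ▸ x.2, by
          have : (⟨f u, hxu ▸ x.2⟩ : ↥Vb) = x := Subtype.ext hxu.symm
          rw [this]; exact hx⟩
      · rintro ⟨hu, hW⟩
        exact ⟨⟨f u, hu⟩, hW, rfl⟩
    haveI : Wg.Normal := by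
      refine ⟨fun u hu g => ?_⟩
      obtain ⟨hu', hW⟩ := (hWg u).1 hu
      obtain ⟨M, hM⟩ := hτ (QuotientGroup.mk' Q' g)
      have h1 : σ M (Additive.ofMul (⟨f u, hu'⟩ : ↥Vb)) ∈ W := hall M _ hW
      refine (hWg _).2 ⟨?_, ?_⟩
      · rw [map_mul, map_mul, map_inv]
        exact (inferInstance : Vb.Normal).conj_mem _ hu' _
      · convert h1 using 1
        apply Additive.toMul.injective
        apply Subtype.ext
        rw [hσ M g hM]
        simp
    have hWU : Wg ≤ U₀ := fun u hu => by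
      obtain ⟨⟨v, hv, hvu⟩, -⟩ := (hWg u).1 hu
      have h2 : v⁻¹ * u ∈ C := QuotientGroup.eq.1 hvu
      have h3 : v * (v⁻¹ * u) ∈ U₀ := mul_mem hv (mem_fixG.1 h2).1
      rwa [mul_inv_cancel_left] at h3
    by_cases hle : Wg ≤ C
    · left
      refine eq_bot_iff.2 fun v hv => ?_
      obtain ⟨u, hu, huv⟩ := (Additive.toMul v : ↥Vb).2
      have h1 : u ∈ Wg := (hWg u).2 ⟨Subgroup.mem_map_of_mem f hu, by
        rwa [show (⟨f u, Subgroup.mem_map_of_mem f hu⟩ : ↥Vb) = Additive.toMul v from Subtype.ext huv]⟩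
      rw [AddSubgroup.mem_bot]
      apply Additive.toMul.injective
      apply Subtype.ext
      rw [← huv]
      exact (QuotientGroup.eq_one_iff _).2 (hle h1)
    · right
      refine eq_top_iff.2 fun v _ => ?_
      obtain ⟨u, hu, huv⟩ := (Additive.toMul v : ↥Vb).2
      have h2 := h.irreducible hWU hle hu
      rw [← SetLike.mem_coe, Subgroup.mul_normal] at h2
      obtain ⟨a, ha, z, hz, haz⟩ := h2
      obtain ⟨ha', haW⟩ := (hWg a).1 ha
      have : Additive.toMul v = (⟨f a, ha'⟩ : ↥Vb) := Subtype.ext (by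
        rw [← huv, ← haz, map_mul, show f z = 1 from (QuotientGroup.eq_one_iff _).2 hz, mul_one])
      rw [show v = Additive.ofMul (Additive.toMul v) from rfl, this]
      exact haW
  obtain ⟨φ, hφ⟩ := SL2Module.exists_natural hirr hnt hquad
  have hinj : Function.Injective τ := by
    rw [injective_iff_map_eq_one]
    intro M hM
    apply Subtype.ext
    have h1 : ∀ x, (M : Matrix (Fin 2) (Fin 2) F).mulVec x = x := fun x => by
      refine φ.injective ?_
      rw [← hφ]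
      show (toEnd (βm (τ M))) (φ x) = φ x
      rw [hM, map_one, map_one]
      rfl
    exact Matrix.ext_of_mulVec_single fun i => by
      rw [h1, Matrix.SpecialLinearGroup.coe_one, Matrix.one_mulVec]
  let e : SL2 F ≃* G ⧸ Q' := MulEquiv.ofBijective τ ⟨hinj, hτ⟩
  refine ⟨e.symm.toMonoidHom.comp (QuotientGroup.mk' Q'), φ.symm, ?_, ?_, fun g => e.apply_symm_apply _,
    fun g v => ?_⟩
  · exact e.symm.surjective.comp (QuotientGroup.mk'_surjective _)
  · ext g
    show e.symm (QuotientGroup.mk' Q' g) = 1 ↔ _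
    rw [e.symm.map_eq_one_iff]
    exact QuotientGroup.eq_one_iff g
  · set M := e.symm (QuotientGroup.mk' Q' g) with hM
    refine ⟨Additive.toMul (σ M (Additive.ofMul v)), hσ M g (e.apply_symm_apply _) v, ?_⟩
    apply φ.injective
    rw [φ.apply_symm_apply]
    show σ M (Additive.ofMul v) = φ ((M : Matrix (Fin 2) (Fin 2) F).mulVec (φ.symm (Additive.ofMul v)))
    rw [← hφ, φ.apply_symm_apply]

theorem exists_natCoord_of {τ : SL2 F →* G ⧸ Qc} (hτ : Function.Surjective τ)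
    (hτU : ∀ t : F, τ (trv F true t) ∈ c.TT.map (QuotientGroup.mk' Qc)) {N U₀ : Subgroup G} [N.Normal]
    [U₀.Normal] (h : c.IsSec N U₀) :
    ∃ nc : c.NatCoord (fixG N U₀) U₀, ∀ g, τ (nc.ρ g) = QuotientGroup.mk' Qc g := by
  obtain ⟨ρ, ψ, hρ, hker, hτρ, heq⟩ := exists_coord_mod hτ hτU h h.cent
  exact ⟨⟨ρ, hρ, hker, ψ, heq⟩, hτρ⟩

/-- An element inverting the natural module of a section. -/
theorem IsSec.exists_neg {N U₀ : Subgroup G} [N.Normal] [U₀.Normal] (h : c.IsSec N U₀) :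
    ∃ r : G, ∀ v ∈ U₀, r * v * r⁻¹ * v ∈ fixG N U₀ := by
  obtain ⟨τ, hτ, hτU⟩ := exists_tau_mod (M := secKer N U₀) h.faithful (fun y hy hyp => c.secKer_pow h.cent hy hyp)
    fun k hk s hs => h.comm_ker hk hs
  obtain ⟨ρ, ψ, hρ, -, -, heq⟩ := exists_coord_mod hτ hτU h le_rfl
  obtain ⟨r, hr⟩ := hρ ⟨!![-1, 0; 0, -1], by simp [Matrix.det_fin_two]⟩
  refine ⟨r, fun v hv => ?_⟩
  obtain ⟨v', hv', hψ⟩ := heq r ⟨QuotientGroup.mk' _ v, Subgroup.mem_map_of_mem _ hv⟩
  rw [hr] at hψ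
  have e : Additive.ofMul v' = -Additive.ofMul (⟨QuotientGroup.mk' _ v, Subgroup.mem_map_of_mem _ hv⟩ :
      ↥(U₀.map (QuotientGroup.mk' (fixG N U₀)))) := by
    refine ψ.injective ?_
    rw [hψ, map_neg]
    ext i
    fin_cases i <;> simp [Matrix.mulVec, dotProduct, Fin.sum_univ_two]
  have e' : (v' : G ⧸ fixG N U₀) = (QuotientGroup.mk' _ v)⁻¹ := congrArg (fun a => (Additive.toMul a).1) e
  refine (QuotientGroup.eq_one_iff _).1 ?_
  show QuotientGroup.mk' (fixG N U₀) (r * v * r⁻¹ * v) = 1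
  rw [map_mul, map_mul, map_mul, map_inv, ← hv', e', inv_mul_cancel]

theorem exists_natCoord (hK : ∀ k ∈ c.π.ker, ∀ s ∈ c.TT, ⁅k, s⁆ ∈ Qc) {N U₀ : Subgroup G} [N.Normal]
    [U₀.Normal] (h : c.IsSec N U₀) : Nonempty (c.NatCoord (fixG N U₀) U₀) := by
  obtain ⟨τ, hτ, hτU⟩ := exists_tau hK
  obtain ⟨nc, -⟩ := exists_natCoord_of hτ hτU h
  exact ⟨nc⟩

/-- An isomorphic section inherits the natural module. -/
theorem NatCoord.transfer {C U₀ : Subgroup G} [C.Normal] (nc : c.NatCoord C U₀) [U₀.Normal] {U' W' : Subgroup G}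
    [U'.Normal] [W'.Normal] (hWQ : W' ≤ Qc) (hW : W' ≤ U') (hU' : U' ≤ (U' ⊓ U₀) ⊔ W')
    (hU₀ : U₀ ≤ (U' ⊓ U₀) ⊔ C) (hker : ∀ x ∈ U' ⊓ U₀, x ∈ W' ↔ x ∈ C) :
    Cfsg.IsNaturalSL2Module F (U'.map (QuotientGroup.mk' W')) (⊤ : Subgroup (G ⧸ W')) := by
  classical
  let fW : G →* G ⧸ W' := QuotientGroup.mk' W'
  let fC : G →* G ⧸ C := QuotientGroup.mk' C
  haveI : (U'.map fW).Normal := Subgroup.Normal.map inferInstance _ (QuotientGroup.mk'_surjective _)
  refine ⟨by rw [Subgroup.normalizer_eq_top], ?_⟩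
  let P := U' ⊓ U₀
  haveI : P.Normal := inferInstance
  let f₁ : ↥P →* ↥(U'.map fW) :=
    (fW.comp P.subtype).codRestrict _ fun x => Subgroup.mem_map_of_mem fW x.2.1
  let f₂ : ↥P →* ↥(U₀.map fC) :=
    (fC.comp P.subtype).codRestrict _ fun x => Subgroup.mem_map_of_mem fC x.2.2
  have h₁ : Function.Surjective f₁ := by
    rintro ⟨_, u, hu, rfl⟩
    have h := hU' hu
    rw [← SetLike.mem_coe, Subgroup.mul_normal] at h
    obtain ⟨a, ha, b, hb, rfl⟩ := h
    refine ⟨⟨a, ha⟩, Subtype.ext ?_⟩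
    show fW a = fW (a * b)
    rw [map_mul, show fW b = 1 from (QuotientGroup.eq_one_iff _).2 hb, mul_one]
  have h₂ : Function.Surjective f₂ := by
    rintro ⟨_, u, hu, rfl⟩
    have h := hU₀ hu
    rw [← SetLike.mem_coe, Subgroup.mul_normal] at h
    obtain ⟨a, ha, b, hb, rfl⟩ := h
    refine ⟨⟨a, ha⟩, Subtype.ext ?_⟩
    show fC a = fC (a * b)
    rw [map_mul, show fC b = 1 from (QuotientGroup.eq_one_iff _).2 hb, mul_one]
  have hk : f₁.ker = f₂.ker := by
    ext x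
    rw [MonoidHom.mem_ker, MonoidHom.mem_ker, ← OneMemClass.coe_eq_one, ← OneMemClass.coe_eq_one]
    show fW (x : G) = 1 ↔ fC (x : G) = 1
    exact ((QuotientGroup.eq_one_iff _).trans (hker x x.2)).trans (QuotientGroup.eq_one_iff _).symm
  let θ : ↥(U'.map fW) ≃* ↥(U₀.map fC) :=
    (QuotientGroup.quotientKerEquivOfSurjective f₁ h₁).symm.trans
      ((QuotientGroup.quotientMulEquivOfEq hk).trans (QuotientGroup.quotientKerEquivOfSurjective f₂ h₂))
  have hθ : ∀ x, θ (f₁ x) = f₂ x := by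
    intro x
    show (QuotientGroup.quotientKerEquivOfSurjective f₂ h₂) ((QuotientGroup.quotientMulEquivOfEq hk)
      ((QuotientGroup.quotientKerEquivOfSurjective f₁ h₁).symm (f₁ x))) = f₂ x
    rw [show (QuotientGroup.quotientKerEquivOfSurjective f₁ h₁).symm (f₁ x) = (x : ↥P ⧸ f₁.ker) from
      (QuotientGroup.quotientKerEquivOfSurjective f₁ h₁).injective (by rw [MulEquiv.apply_symm_apply]; rfl)]
    rfl
  let ψ : Additive ↥(U'.map fW) ≃+ (Fin 2 → F) := θ.toAdditive.trans nc.ψ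
  have hWρ : W' ≤ nc.ρ.ker := by rw [nc.ker]; exact hWQ
  let ρ' : ↥(⊤ : Subgroup (G ⧸ W')) →* SL2 F :=
    (QuotientGroup.lift W' nc.ρ hWρ).comp Subgroup.topEquiv.toMonoidHom
  have hequiv : ∀ (g : G) (v : ↥(U'.map fW)), ∃ v' : ↥(U'.map fW),
      (v' : G ⧸ W') = fW g * v * (fW g)⁻¹ ∧
        ψ (Additive.ofMul v') = (nc.ρ g : Matrix (Fin 2) (Fin 2) F).mulVec (ψ (Additive.ofMul v)) := by
    intro g v
    obtain ⟨x, rfl⟩ := h₁ v
    let y : ↥P := ⟨g * x * g⁻¹, (inferInstance : P.Normal).conj_mem _ x.2 g⟩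
    refine ⟨f₁ y, by show fW (g * x * g⁻¹) = _; rw [map_mul, map_mul, map_inv]; rfl, ?_⟩
    obtain ⟨v', hv', hψ⟩ := nc.equiv g (f₂ x)
    have e : f₂ y = v' := Subtype.ext (by
      rw [hv']
      show fC (g * x * g⁻¹) = _
      rw [map_mul, map_mul, map_inv]; rfl)
    show nc.ψ (Additive.ofMul (θ (f₁ y))) = _
    rw [hθ, e, hψ]
    show _ = Matrix.mulVec _ (nc.ψ (Additive.ofMul (θ (f₁ x))))
    rw [hθ]
  refine ⟨ρ', ψ, ?_, ?_, ?_⟩
  · intro M
    obtain ⟨g, hg⟩ := nc.surj M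
    exact ⟨⟨fW g, Subgroup.mem_top _⟩, hg⟩
  · ext ⟨x, hx⟩
    obtain ⟨g, rfl⟩ := QuotientGroup.mk'_surjective W' x
    rw [MonoidHom.mem_ker, Subgroup.mem_subgroupOf]
    show nc.ρ g = 1 ↔ fW g ∈ Subgroup.centralizer _
    rw [Subgroup.mem_centralizer_iff]
    constructor
    · intro hg v hv
      obtain ⟨v', hv', hψ⟩ := hequiv g ⟨v, hv⟩
      rw [hg, Matrix.SpecialLinearGroup.coe_one, Matrix.one_mulVec] at hψ
      rw [Additive.ofMul.injective (ψ.injective hψ)] at hv'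
      exact eq_mul_inv_iff_mul_eq.1 hv'
    · intro hg
      apply Subtype.ext
      refine Matrix.ext_of_mulVec_single fun i => ?_
      rw [Matrix.SpecialLinearGroup.coe_one, Matrix.one_mulVec]
      obtain ⟨v, hv⟩ := ψ.surjective (Pi.single i 1)
      obtain ⟨v', hv', hψ⟩ := hequiv g (Additive.toMul v)
      have e : v' = Additive.toMul v := Subtype.ext (by
        rw [hv', mul_inv_eq_iff_eq_mul]
        exact (hg _ (Additive.toMul v).2).symm)
      rw [e] at hψ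
      rw [← hv]
      exact hψ.symm
  · intro l v
    obtain ⟨g, hg⟩ := QuotientGroup.mk'_surjective W' (l : G ⧸ W')
    obtain ⟨v', hv', hψ⟩ := hequiv g v
    refine ⟨v', by rw [hv', hg], ?_⟩
    rw [hψ, show ρ' l = nc.ρ g by
      show QuotientGroup.lift W' nc.ρ hWρ (l : G ⧸ W') = nc.ρ g
      rw [← hg]; rfl]

/-- `G / Q ≅ SL₂(F)`. -/
theorem NatCoord.equiv_quot {C U₀ : Subgroup G} [C.Normal] (nc : c.NatCoord C U₀) :
    Nonempty (G ⧸ Qc ≃* SL2 F) :=
  ⟨(QuotientGroup.quotientMulEquivOfEq nc.ker.symm).trans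
    (QuotientGroup.quotientKerEquivOfSurjective nc.ρ nc.surj)⟩

end Cfsg.Agent.Lib.PushUpP.Sit
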