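import Cfsg.Agent.Lib.PushUpP.Data
import Mathlib.Algebra.Group.Subgroup.Pointwise
import Mathlib.Data.Finite.Prod
import Mathlib.Tactic.Linarith

/-!
Vertices (cosets of `X`), edges (conjugates of `T`) and the shift lemma.
-/

set_option autoImplicit false

namespace Cfsg.Agent.Lib.PushUpP

open scoped commutatorElement Pointwise

variable {Γ : Type*} [Group Γ]

theorem le_normalizer_of {H W : Subgroup Γ} (h : ∀ y ∈ H, ∀ a ∈ W, y * a * y⁻¹ ∈ W) :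
    H ≤ Subgroup.normalizer (W : Set Γ) := fun y hy =>
  Subgroup.mem_normalizer_iff.2 fun a => ⟨fun ha => h y hy a ha, fun ha => by
    simpa [mul_assoc] using h y⁻¹ (H.inv_mem hy) _ ha⟩

theorem conj_mem_sup {H K : Subgroup Γ} {y : Γ}
    (h₁ : ∀ a ∈ H, y * a * y⁻¹ ∈ H ⊔ K) (h₂ : ∀ a ∈ K, y * a * y⁻¹ ∈ H ⊔ K) :
    ∀ a ∈ H ⊔ K, y * a * y⁻¹ ∈ H ⊔ K := by
  have h : (H ⊔ K).map (MulAut.conj y).toMonoidHom ≤ H ⊔ K := by
    rw [Subgroup.map_sup]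
    exact sup_le (by rintro _ ⟨a, ha, rfl⟩; exact h₁ a ha) (by rintro _ ⟨a, ha, rfl⟩; exact h₂ a ha)
  exact fun a ha => h ⟨a, ha, rfl⟩

/-- The subgroup `Ω₁(Z(E))` as a predicate. -/
def InZ (p : ℕ) (E : Subgroup Γ) (z : Γ) : Prop := z ∈ E ∧ z ^ p = 1 ∧ ∀ t ∈ E, t * z = z * t

/-- Two edges have the same `Ω₁(Z)`. -/
def Same (p : ℕ) (E E' : Subgroup Γ) : Prop := ∀ z, InZ p E z ↔ InZ p E' z

theorem same_symm {p : ℕ} {E E' : Subgroup Γ} (h : Same p E E') : Same p E' E := fun z => (h z).symm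

theorem same_trans {p : ℕ} {E E' E'' : Subgroup Γ} (h : Same p E E') (h' : Same p E' E'') : Same p E E'' :=
  fun z => (h z).trans (h' z)

theorem not_same_symm {p : ℕ} {E E' : Subgroup Γ} (h : ¬ Same p E E') : ¬ Same p E' E := fun h' => h (same_symm h')

theorem inZ_inv {p : ℕ} {E : Subgroup Γ} {z : Γ} (h : InZ p E z) : InZ p E z⁻¹ :=
  ⟨inv_mem h.1, by rw [inv_pow, h.2.1, inv_one], fun t ht => (Commute.inv_right (h.2.2 t ht)).eq⟩

theorem inZ_comm_symm {p : ℕ} {E : Subgroup Γ} {u v : Γ} (h : InZ p E ⁅u, v⁆) : InZ p E ⁅v, u⁆ :=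
  commutatorElement_inv u v ▸ inZ_inv h

theorem inZ_cj {p : ℕ} {E : Subgroup Γ} {g z : Γ} : InZ p (cj g E) z ↔ InZ p E (g⁻¹ * z * g) := by
  constructor
  · rintro ⟨h1, h2, h3⟩
    refine ⟨mem_cj.1 h1, ?_, fun t ht => ?_⟩
    · have h : (g⁻¹ * z * (g⁻¹)⁻¹) ^ p = g⁻¹ * z ^ p * (g⁻¹)⁻¹ := conj_pow
      rw [inv_inv, h2] at h
      rw [h]; group
    · calc t * (g⁻¹ * z * g) = g⁻¹ * ((g * t * g⁻¹) * z) * g := by group
        _ = g⁻¹ * (z * (g * t * g⁻¹)) * g := by rw [h3 _ (conj_mem_cj ht)]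
        _ = g⁻¹ * z * g * t := by group
  · rintro ⟨h1, h2, h3⟩
    refine ⟨mem_cj.2 h1, ?_, fun t ht => ?_⟩
    · have h : (g * (g⁻¹ * z * g) * g⁻¹) ^ p = g * (g⁻¹ * z * g) ^ p * g⁻¹ := conj_pow
      rw [h2, show g * (g⁻¹ * z * g) * g⁻¹ = z by group] at h
      rw [h]; group
    · calc t * z = g * ((g⁻¹ * t * g) * (g⁻¹ * z * g)) * g⁻¹ := by group
        _ = g * ((g⁻¹ * z * g) * (g⁻¹ * t * g)) * g⁻¹ := by rw [h3 _ (mem_cj.1 ht)]
        _ = z * t := by group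

namespace Data

variable {p : ℕ} (D : Data Γ p)

/-- `E` is an edge at the vertex `g`. -/
def IsEdge (g : Γ) (E : Subgroup Γ) : Prop := ∃ x ∈ D.X, E = cj (g * x) D.T

variable {D}

theorem cj_mulX (g : Γ) {x : Γ} (hx : x ∈ D.X) :
    cj (g * x) D.V = cj g D.V ∧ cj (g * x) D.Q = cj g D.Q ∧ cj (g * x) D.K = cj g D.K := by
  rw [cj_mul, cj_mul, cj_mul, D.cj_V hx, D.cj_Q hx, D.cj_K hx]
  exact ⟨rfl, rfl, rfl⟩

theorem cj_XX (g : Γ) {x : Γ} (hx : x ∈ D.X) : cj (g * x) D.X = cj g D.X := by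
  rw [cj_mul, cj_eq_of_mem hx]

theorem sameX {g h : Γ} (hgh : g⁻¹ * h ∈ D.X) :
    cj h D.V = cj g D.V ∧ cj h D.Q = cj g D.Q ∧ cj h D.K = cj g D.K := by
  have := cj_mulX g hgh
  rwa [mul_inv_cancel_left] at this

theorem IsEdge.base {g : Γ} {E : Subgroup Γ} (h : D.IsEdge g E) :
    ∃ c : Γ, E = cj c D.T ∧ cj g D.V = cj c D.V ∧ cj g D.Q = cj c D.Q ∧ cj g D.K = cj c D.K ∧
      cj g D.X = cj c D.X := by
  obtain ⟨x, hx, rfl⟩ := h
  obtain ⟨h1, h2, h3⟩ := cj_mulX g hx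
  exact ⟨g * x, rfl, h1.symm, h2.symm, h3.symm, (cj_XX g hx).symm⟩

theorem IsEdge.le_X {g : Γ} {E : Subgroup Γ} (h : D.IsEdge g E) : E ≤ cj g D.X := by
  obtain ⟨c, rfl, -, -, -, hX⟩ := h.base
  rw [hX]; exact cj_mono c D.T_le_X

theorem IsEdge.Q_le {g : Γ} {E : Subgroup Γ} (h : D.IsEdge g E) : cj g D.Q ≤ E := by
  obtain ⟨c, rfl, -, hQ, -, -⟩ := h.base
  rw [hQ]; exact cj_mono c D.Q_le_T

theorem V_conj (g : Γ) {y a : Γ} (hy : y ∈ cj g D.X) (ha : a ∈ cj g D.V) :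
    y * a * y⁻¹ ∈ cj g D.V := by
  rw [mem_cj] at hy ha ⊢
  have := D.V_norm _ hy _ ha
  simpa [mul_assoc] using this

theorem Q_conj (g : Γ) {y a : Γ} (hy : y ∈ cj g D.X) (ha : a ∈ cj g D.Q) :
    y * a * y⁻¹ ∈ cj g D.Q := by
  rw [mem_cj] at hy ha ⊢
  have := D.Q_norm _ hy _ ha
  simpa [mul_assoc] using this

theorem V_pow' {g v : Γ} (hv : v ∈ cj g D.V) : v ^ p = 1 := by
  rw [mem_cj] at hv
  have h := D.V_pow _ hv
  have h2 : (g⁻¹ * v * (g⁻¹)⁻¹) ^ p = 1 := by rw [inv_inv]; exact h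
  rw [conj_pow, inv_inv] at h2
  calc v ^ p = g * (g⁻¹ * v ^ p * g) * g⁻¹ := by group
    _ = 1 := by rw [h2]; group

theorem comm_cj (c a b : Γ) : c⁻¹ * a * c * (c⁻¹ * b * c) = c⁻¹ * b * c * (c⁻¹ * a * c) ↔ a * b = b * a := by
  rw [show c⁻¹ * a * c * (c⁻¹ * b * c) = c⁻¹ * (a * b) * c by group,
    show c⁻¹ * b * c * (c⁻¹ * a * c) = c⁻¹ * (b * a) * c by group, mul_left_inj, mul_right_inj]

theorem Q_cent' {g a v : Γ} (ha : a ∈ cj g D.Q) (hv : v ∈ cj g D.V) : a * v = v * a :=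
  (comm_cj g a v).1 (D.Q_cent _ (mem_cj.1 ha) _ (mem_cj.1 hv))

theorem IsEdge.mem_Q {g : Γ} {E : Subgroup Γ} (h : D.IsEdge g E) {t : Γ} (ht : t ∈ E)
    (hc : ∀ v ∈ cj g D.V, t * v = v * t) : t ∈ cj g D.Q := by
  obtain ⟨c, rfl, hV, hQ, -, -⟩ := h.base
  rw [hQ, mem_cj]
  refine D.mem_Q _ (mem_cj.1 ht) fun v hv => ?_
  have h1 := hc (c * v * c⁻¹) (hV ▸ conj_mem_cj hv)
  have h2 := (comm_cj c t (c * v * c⁻¹)).2 h1
  simpa [mul_assoc] using h2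

theorem pow_base (c z : Γ) : (c⁻¹ * z * c) ^ p = 1 ↔ z ^ p = 1 := by
  have h : (c⁻¹ * z * (c⁻¹)⁻¹) ^ p = c⁻¹ * z ^ p * (c⁻¹)⁻¹ := conj_pow
  rw [inv_inv] at h
  rw [h]
  constructor
  · intro h2
    calc z ^ p = c * (c⁻¹ * z ^ p * c) * c⁻¹ := by group
      _ = 1 := by rw [h2]; group
  · intro h2
    rw [h2]; group

theorem inZ_iff (c z : Γ) : InZ p (cj c D.T) z ↔ c⁻¹ * z * c ∈ D.Z := by
  rw [D.mem_Z]
  constructor
  · rintro ⟨h1, h2, h3⟩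
    refine ⟨mem_cj.1 h1, ?_, fun t ht => ?_⟩
    · exact (pow_base c z).2 h2
    · have h4 := (comm_cj c (c * t * c⁻¹) z).2 (h3 _ (conj_mem_cj ht))
      simpa [mul_assoc] using h4
  · rintro ⟨h1, h2, h3⟩
    refine ⟨mem_cj.2 h1, ?_, fun t ht => (comm_cj c t z).1 (h3 _ (mem_cj.1 ht))⟩
    exact (pow_base c z).1 h2

theorem same_iff (c c' : Γ) : Same p (cj c D.T) (cj c' D.T) ↔ cj c D.Z = cj c' D.Z := by
  constructor
  · intro h
    ext z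
    rw [mem_cj, mem_cj, ← inZ_iff, ← inZ_iff]
    exact h z
  · intro h z
    rw [inZ_iff, inZ_iff, ← mem_cj, ← mem_cj, h]

theorem IsEdge.inZ_mem_V {g z : Γ} {E : Subgroup Γ} (h : D.IsEdge g E) (hz : InZ p E z) :
    z ∈ cj g D.V := by
  obtain ⟨c, rfl, hV, -, -, -⟩ := h.base
  rw [hV, mem_cj]
  exact D.Z_le_V ((inZ_iff c z).1 hz)

theorem IsEdge.K_inZ {g z : Γ} {E : Subgroup Γ} (h : D.IsEdge g E) (hz : z ∈ cj g D.K) : InZ p E z := by
  obtain ⟨c, rfl, -, -, hK, -⟩ := h.base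
  rw [hK, mem_cj] at hz
  exact (inZ_iff c z).2 (D.K_le_Z hz)

theorem IsEdge.fix {g : Γ} {E : Subgroup Γ} (h : D.IsEdge g E) {t v : Γ} (ht : t ∈ E)
    (htQ : t ∉ cj g D.Q) (hv : v ∈ cj g D.V) (hc : t * v = v * t) : InZ p E v := by
  obtain ⟨c, rfl, hV, hQ, -, -⟩ := h.base
  rw [hQ] at htQ
  rw [hV] at hv
  exact (inZ_iff c v).2 (D.fix_eq _ (mem_cj.1 ht) (fun h => htQ (mem_cj.2 h)) _ (mem_cj.1 hv)
    ((comm_cj c t v).2 hc))

theorem comm_base (c v t : Γ) : c⁻¹ * ⁅v, t⁆ * c = ⁅c⁻¹ * v * c, c⁻¹ * t * c⁆ := by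
  rw [commutatorElement_def, commutatorElement_def]; group

theorem IsEdge.comm_inZ {g : Γ} {E : Subgroup Γ} (h : D.IsEdge g E) {t v : Γ} (ht : t ∈ E)
    (hv : v ∈ cj g D.V) : InZ p E ⁅v, t⁆ := by
  obtain ⟨c, rfl, hV, -, -, -⟩ := h.base
  rw [hV] at hv
  rw [inZ_iff, comm_base]
  exact D.comm_mem _ (mem_cj.1 ht) _ (mem_cj.1 hv)

theorem IsEdge.comm_notK {g : Γ} {E : Subgroup Γ} (h : D.IsEdge g E) {t v : Γ} (ht : t ∈ E)
    (htQ : t ∉ cj g D.Q) (hv : v ∈ cj g D.V) (hvZ : ¬ InZ p E v) : ⁅v, t⁆ ∉ cj g D.K := by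
  obtain ⟨c, rfl, hV, hQ, hK, -⟩ := h.base
  rw [hQ] at htQ
  rw [hV] at hv
  rw [hK, mem_cj, comm_base]
  exact D.comm_not_mem _ (mem_cj.1 ht) (fun h => htQ (mem_cj.2 h)) _ (mem_cj.1 hv)
    fun h => hvZ ((inZ_iff c v).2 h)

theorem IsEdge.gen {g : Γ} {E E' : Subgroup Γ} (h : D.IsEdge g E) (h' : D.IsEdge g E')
    (hne : ¬ Same p E E') : cj g D.X ≤ E ⊔ E' := by
  obtain ⟨x, hx, rfl⟩ := h
  obtain ⟨x', hx', rfl⟩ := h'
  have hd : x⁻¹ * x' ∈ D.X := D.X.mul_mem (D.X.inv_mem hx) hx'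
  have e : cj (g * x') D.T = cj (g * x) (cj (x⁻¹ * x') D.T) := by
    rw [← cj_mul, mul_assoc g x, mul_inv_cancel_left]
  rw [e, ← cj_sup, ← cj_XX g hx]
  refine cj_mono _ (D.gen _ hd fun he => hne ((same_iff _ _).2 ?_))
  rw [show g * x' = g * x * (x⁻¹ * x') by group, cj_mul (g * x), he]

theorem mem_K_of_edges {g v : Γ} {E E' : Subgroup Γ} (h : D.IsEdge g E) (h' : D.IsEdge g E')
    (hne : ¬ Same p E E') (hv : v ∈ cj g D.V) (hc : ∀ t ∈ E, t * v = v * t)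
    (hc' : ∀ t ∈ E', t * v = v * t) : v ∈ cj g D.K := by
  have hle : E ⊔ E' ≤ Subgroup.centralizer ({v} : Set Γ) :=
    sup_le (fun t ht => Subgroup.mem_centralizer_singleton_iff.2 (hc t ht))
      fun t ht => Subgroup.mem_centralizer_singleton_iff.2 (hc' t ht)
  rw [mem_cj]
  refine (D.mem_K _ (mem_cj.1 hv)).2 fun x hx => ?_
  have h1 : g * x * g⁻¹ * v = v * (g * x * g⁻¹) :=
    Subgroup.mem_centralizer_singleton_iff.1 (hle (h.gen h' hne (conj_mem_cj hx)))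
  have h2 := (comm_cj g (g * x * g⁻¹) v).2 h1
  simpa [mul_assoc] using h2

theorem IsEdge.moved {g : Γ} {E E' : Subgroup Γ} (h : D.IsEdge g E) (h' : D.IsEdge g E')
    (hne : ¬ Same p E' E) {t : Γ} (ht : t ∈ E) (htQ : t ∉ cj g D.Q) : ¬ Same p (cj t E') E' := by
  obtain ⟨x, hx, rfl⟩ := h
  obtain ⟨x', hx', rfl⟩ := h'
  have hd : x⁻¹ * x' ∈ D.X := D.X.mul_mem (D.X.inv_mem hx) hx'
  intro heq
  rw [← cj_mul, same_iff] at heq
  refine D.no_norm ((g * x)⁻¹ * t * (g * x)) (mem_cj.1 ht) (fun hQ => htQ ?_) _ hd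
    (fun he => hne ((same_iff _ _).2 ?_)) ?_
  · rw [← (cj_mulX g hx).2.1]; exact mem_cj.2 hQ
  · rw [show g * x' = g * x * (x⁻¹ * x') by group, cj_mul (g * x), he]
  · apply cj_inj (g := g * x)
    rw [← cj_mul, ← cj_mul, ← cj_mul,
      show g * x * ((g * x)⁻¹ * t * (g * x)) * (x⁻¹ * x') = t * (g * x') by group,
      show g * x * (x⁻¹ * x') = g * x' by group]
    exact heq

theorem IsEdge.exists_other {g : Γ} {E : Subgroup Γ} (h : D.IsEdge g E) :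
    ∃ x ∈ D.X, ¬ Same p (cj (g * x) D.T) E := by
  obtain ⟨x, hx, rfl⟩ := h
  obtain ⟨y, hy, hne⟩ := D.exists_other
  refine ⟨x * y, D.X.mul_mem hx hy, fun he => hne (cj_inj (g := g * x) ?_)⟩
  rw [← cj_mul, mul_assoc]; exact (same_iff _ _).1 he

/-- Two vertices with noncommuting `V`'s, each contained in an edge at the other. -/
def Crit {p : ℕ} (D D' : Data Γ p) (g h : Γ) (E E' : Subgroup Γ) : Prop :=
  D.IsEdge g E ∧ D'.IsEdge h E' ∧ cj h D'.V ≤ E ∧ cj g D.V ≤ E' ∧ ¬ cj g D.V ≤ cj h D'.Q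

variable {D' : Data Γ p}

theorem Crit.symm {g h : Γ} {E E' : Subgroup Γ} (c : D.Crit D' g h E E') : D'.Crit D h g E' E := by
  obtain ⟨h1, h2, h3, h4, h5⟩ := c
  refine ⟨h2, h1, h4, h3, fun hle => h5 fun v hv => h2.mem_Q (h4 hv) fun u hu => ?_⟩
  exact (Q_cent' (hle hu) hv).symm

theorem IsEdge.relIndex_eq {g : Γ} {E : Subgroup Γ} (h : D.IsEdge g E) :
    (cj g D.Q).relIndex E = D.Q.relIndex D.T := by
  obtain ⟨c, rfl, -, hQ, -, -⟩ := h.base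
  rw [hQ]; exact Subgroup.relIndex_map_map_of_injective _ _ (MulAut.conj c).injective

theorem IsEdge.finite {g : Γ} {E : Subgroup Γ} (h : D.IsEdge g E) : Finite ↥E := by
  obtain ⟨c, rfl, -, -, -, -⟩ := h.base
  haveI := D.finX
  haveI : Finite ↥D.T := Finite.of_injective _ (Subgroup.inclusion_injective D.T_le_X)
  exact Finite.of_equiv _
    (D.T.equivMapOfInjective (MulAut.conj c).toMonoidHom (MulAut.conj c).injective).toEquiv

theorem Crit.relIndex_ge {g h : Γ} {E E' : Subgroup Γ} (c : D.Crit D' g h E E') :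
    D'.Q.relIndex D'.T ≤ (cj g D.Q).relIndex (cj h D'.V) := by
  obtain ⟨h1, h2, h3, h4, h5⟩ := c
  haveI := h1.finite
  haveI : Finite ↥(cj h D'.V) := Finite.of_injective _ (Subgroup.inclusion_injective h3)
  obtain ⟨v, hv, hvQ⟩ := SetLike.not_le_iff_exists.1 h5
  obtain ⟨c', rfl, hV', -, -, -⟩ := id h2.base
  have e : (cj c' D'.Z).relIndex (cj h D'.V) = D'.Q.relIndex D'.T := by
    rw [hV', ← D'.relIndex_eq]
    exact Subgroup.relIndex_map_map_of_injective _ _ (MulAut.conj c').injective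
  rw [← e, ← Subgroup.inf_relIndex_right (cj g D.Q) (cj h D'.V)]
  refine Subgroup.relIndex_le_of_le_left ?_ Subgroup.index_ne_zero_of_finite
  intro u hu
  have hu' : InZ p (cj c' D'.T) u := h2.fix (h4 hv) hvQ hu.2 (Q_cent' hu.1 hv).symm
  exact mem_cj.2 ((inZ_iff c' u).1 hu')

/-- `E = Q_g V_h` for a critical pair. -/
theorem Crit.full {g h : Γ} {E E' : Subgroup Γ} (c : D.Crit D' g h E E') :
    E = cj g D.Q ⊔ cj h D'.V := by
  have hU := c.relIndex_ge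
  have hU' := c.symm.relIndex_ge
  obtain ⟨h1, h2, h3, h4, -⟩ := c
  haveI := h1.finite
  haveI := h2.finite
  refine le_antisymm ?_ (sup_le h1.Q_le h3)
  have hle : (cj h D'.Q).relIndex (cj g D.V) ≤ D'.Q.relIndex D'.T :=
    h2.relIndex_eq ▸ Subgroup.relIndex_le_of_le_right h4 Subgroup.index_ne_zero_of_finite
  set P := cj g D.Q ⊔ cj h D'.V with hP
  have hPE : P ≤ E := sup_le h1.Q_le h3
  haveI : Finite ↥P := Finite.of_injective _ (Subgroup.inclusion_injective hPE)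
  have h6 : (cj g D.Q).relIndex (cj h D'.V) ≤ (cj g D.Q).relIndex P :=
    Subgroup.relIndex_le_of_le_right le_sup_right Subgroup.index_ne_zero_of_finite
  have h7 := Subgroup.relIndex_mul_relIndex (cj g D.Q) P E le_sup_left hPE
  refine Subgroup.relIndex_eq_one.1 ?_
  have hpos : 0 < P.relIndex E := Nat.pos_of_ne_zero Subgroup.index_ne_zero_of_finite
  have hpos' : 0 < (cj g D.Q).relIndex P := Nat.pos_of_ne_zero Subgroup.index_ne_zero_of_finite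
  rw [h1.relIndex_eq] at h7
  nlinarith

theorem Crit.relIndex_T {g h : Γ} {E E' : Subgroup Γ} (c : D.Crit D' g h E E') :
    D.Q.relIndex D.T = D'.Q.relIndex D'.T := by
  haveI := c.1.finite
  haveI := c.2.1.finite
  have h1 : ∀ {D₁ D₂ : Data Γ p} {g h : Γ} {E E' : Subgroup Γ}, D₁.Crit D₂ g h E E' →
      D₂.Q.relIndex D₂.T ≤ D₁.Q.relIndex D₁.T := by
    intro D₁ D₂ g h E E' c
    haveI := c.1.finite
    exact c.relIndex_ge.trans (c.1.relIndex_eq ▸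
      Subgroup.relIndex_le_of_le_right c.2.2.1 Subgroup.index_ne_zero_of_finite)
  exact le_antisymm (h1 c.symm) (h1 c)

theorem Crit.mem_K {g h v : Γ} {E E' F : Subgroup Γ} (c : D.Crit D' g h E E') (hF : D.IsEdge g F)
    (hne : ¬ Same p F E) (hv : v ∈ cj g D.V) (hcF : ∀ t ∈ F, t * v = v * t)
    (hch : ∀ w ∈ cj h D'.V, w * v = v * w) : v ∈ cj g D.K := by
  refine mem_K_of_edges hF c.1 hne hv hcF fun t ht => ?_
  rw [c.full] at ht
  have hle : cj g D.Q ⊔ cj h D'.V ≤ Subgroup.centralizer ({v} : Set Γ) :=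
    sup_le (fun a ha => Subgroup.mem_centralizer_singleton_iff.2 (Q_cent' ha hv))
      fun a ha => Subgroup.mem_centralizer_singleton_iff.2 (hch a ha)
  exact Subgroup.mem_centralizer_singleton_iff.1 (hle ht)

end Data

end Cfsg.Agent.Lib.PushUpP
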